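import Cfsg.Agent.H16.TwoFrob
import Cfsg.Agent.H17.Constr
import Cfsg.Prelude.Def_LieExceptional

/-!
# CN-groups (namespace `H24.CN`)

* `cent` (a `p'`-group centralising a nontrivial element of a `p`-group centralises it), `nil_of_cent`, `quot`, `frob`, `compl`
-/

set_option autoImplicit false

open Cfsg BG Subgroup

namespace H24.CN

variable {G : Type*} [Group G] [Finite G] {p q : ℕ} {T X Y Z K E : Subgroup G}

theorem nil_of_cent (h : IsCNGroup G) (h0 : Z ≠ ⊥) (hX : X ≤ C_(Z)) : Group.IsNilpotent X :=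
  let ⟨⟨z, hz⟩, h1⟩ := ne_bot_iff_exists_ne_one.1 h0
  nil_of_le (h z fun e => h1 (Subtype.ext e)) (hX.trans (cent_le_cent1 hz))

theorem cent (h : IsCNGroup G) (hp : p.Prime) (hT : IsPGroup p T) (hY : ¬ p ∣ Nat.card Y) (h0 : T ⊓ C_(Y) ≠ ⊥) : Y ≤ C_(T) := by
  have h1 := pg_center_ne_bot hp hT (ne_bot_mono h0 inf_le_left)
  have h2 : Y ≤ C_(T ⊓ C_(T)) := nil_cent_of_coprime (nil_of_cent h h0 le_rfl) (cent_symm inf_le_right)
    (inf_le_right.trans (cent_anti inf_le_left)) (pg_coprime hp (pg_le hT inf_le_left) hY).symm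
  exact nil_cent_of_coprime (nil_of_cent h h1 le_rfl) h2 (cent_symm inf_le_right) (pg_coprime hp hT hY).symm

theorem quot_p {G' : Type*} [Group G'] (h : IsCNGroup G) (f : G →* G') (hf : Function.Surjective f) (hp : p.Prime)
    (hk : IsPGroup p f.ker) : IsCNGroup G' := fun x hx => by
  have := Finite.of_surjective f hf
  obtain ⟨Z, z1, z2⟩ := exists_prime_card_le (zpowers_ne_bot hx)
  have z0 := ne_bot_of_prime z2
  refine nil_of_le ?_ ((cent_zpowers x).ge.trans (cent_anti z1))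
  have key : ∀ C : Subgroup G, Group.IsNilpotent C → C_(Z) ≤ C.map f → Group.IsNilpotent C_(Z) := fun C a b =>
    nil_of_le (Group.nilpotent_of_surjective _ (f.subgroupMap_surjective C)) b
  by_cases e : Nat.card Z = p
  · have hX : IsPGroup p (Z.comap f) := (pg_of_card_eq e).comap_of_ker_isPGroup f hk
    have hXC : Z.comap f ≤ C_(Z).comap f := comap_mono (abelian_iff.1 (abelian_of_cyclic (isCyclic_of_prime_card (hp := ⟨z2⟩) rfl)))
    have hn : C_(Z).comap f ≤ N_(Z.comap f) := (comap_mono (cent_le_norm Z)).trans (le_normalizer_comap f)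
    obtain ⟨⟨z, hz⟩, h1⟩ := ne_bot_iff_exists_ne_one.1 z0
    obtain ⟨z, rfl⟩ := hf z
    replace h1 : ∀ n ∈ f.ker, n * z ≠ 1 := fun n a b => h1 (Subtype.ext (by simpa [show f n = 1 from a] using congrArg f b))
    obtain ⟨P, hP, h2⟩ := sylow_superset hp hX hXC
    refine key _ (nil_of_cent h (nil_meet_center (pg_nil hp (hP.pg hp)) h2 (hP.le.trans hn) fun e => h1 1 (one_mem _) (by
      simpa using e.le hz)) (le_of_sylows fun q hq _ => ?_)) (map_comap_eq_self_of_surjective hf _).ge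
    by_cases e : q = p
    · exact ⟨P, e ▸ hP, cent_symm inf_le_right⟩
    obtain ⟨Q, hQ⟩ := sylow_exists hq (C_(Z).comap f)
    obtain ⟨n, n1, n2⟩ := H01.coset_fixed' (A := Q) (N := f.ker) le_normalizer_of_normal (pg_coprime_ne hq hp (hQ.pg hq) hk e)
      (.inr (pg_sol hp hk)) (g := z) fun a ha => by simp [MonoidHom.mem_ker, ← (hQ.le ha : f a ∈ C_(Z)) _ hz]
    exact ⟨Q, hQ, (cent h hp hX (pg_not_dvd hp hq (hQ.pg hq) (Ne.symm e)) fun e => h1 n n1 (e.le ⟨by
      simpa [show f n = 1 from n1] using hz, n2⟩)).trans (cent_anti inf_le_left)⟩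
  · have := Fact.mk z2
    obtain ⟨P, hP⟩ := sylow_exists z2 (Z.comap f)
    refine key _ (nil_of_cent h (hP.ne_bot' z2 ?_) le_rfl) ?_
    · nth_rw 1 [← map_comap_eq_self_of_surjective hf Z]; exact card_map_dvd _ _
    · rw [H17.centralizer_map_of_coprime_ker hf ((Nat.Prime.coprime_iff_not_dvd z2).2 (pg_not_dvd z2 hp hk e)).symm (hP.pg z2)]
      exact cent_anti (map_le_iff_le_comap.2 hP.le)

universe u in
theorem quot (n : ℕ) : ∀ {G : Type u} [Group G] [Finite G] (_ : IsCNGroup G) (H : Subgroup G) [H.Normal] (_ : Group.IsSolvable H),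
    Nat.card H = n → IsCNGroup (G ⧸ H) := by
  induction n using Nat.strong_induction_on with
  | _ n ih =>
  intro G _ _ h H _ hs hn
  by_cases h0 : H = ⊥
  · exact quot_p h _ (QuotientGroup.mk'_surjective H) Nat.prime_two (by rw [QuotientGroup.ker_mk', h0]; exact pg_bot)
  obtain ⟨p, hp, hd⟩ := exists_prime_dvd_card (fit_ne_bot hs h0)
  have h1 := nil_pcore_ne_bot (π := {p}) (fit_nil H) hp rfl hd
  rw [pcore_fit hp] at h1
  have h2 := pcore_le {p} H
  have h3 := pcore_pg hp H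
  have : (piCoreOf {p} H).Normal := normalizer_eq_top_iff.1 (top_le_iff.1 (norm_pcore _ le_normalizer_of_normal))
  generalize piCoreOf {p} H = N at *
  have h4 := ih _ (?_ : Nat.card (H.map (QuotientGroup.mk' N)) < n) (quot_p h _ (QuotientGroup.mk'_surjective N) hp (by
    rwa [QuotientGroup.ker_mk'])) _ (Group.isSolvable_of_surjective ((QuotientGroup.mk' N).subgroupMap_surjective H)) rfl
  · exact quot_p h4 (QuotientGroup.quotientQuotientEquivQuotient N H h2).toMonoidHom (MulEquiv.surjective _) hp (by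
      rw [(MonoidHom.ker_eq_bot_iff _).2 (MulEquiv.injective _)]; exact pg_bot)
  · rw [← hn, ← relIndex_ker, QuotientGroup.ker_mk', ← card_mul_relIndex h2]
    exact lt_mul_of_one_lt_left (Nat.pos_of_ne_zero index_ne_zero_of_finite) (one_lt_card_iff_ne_bot _ |>.2 h1)

theorem sylow_normal (h : IsCNGroup G) (hp : p.Prime) (hT : IsSylowIn p T ⊤) [Z.Normal] (h0 : Z ≠ ⊥) (hc : T ≤ C_(Z)) : ⊤ ≤ N_(T) :=
  (sylow_frattini hp (hT.sub hc le_top) le_top le_normalizer_of_normal).ge.trans (sup_le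
    (nil_sylow_normal hp (nil_of_cent h h0 le_rfl) (hT.sub hc le_top)) inf_le_right)

theorem isCompl [K.Normal] (h : Sdprod K E ⊤) : K.IsComplement' E :=
  isComplement'_of_disjoint_and_mul_eq_univ (disjoint_iff.2 h.disj) (by rw [← normal_mul, h.sup, coe_top])

theorem nil_compl (h : IsCNGroup G) (hF : Frob ⊤ K E) : Group.IsNilpotent E :=
  nil_of_cent h (Z := (center E).map E.subtype) (fun e =>
    H02.center_ne_bot_of_fpf hF.compl_ne hF.ker_ne hF.sd.norm hF.reg ((map_eq_bot_iff_of_injective _ E.subtype_injective).1 e)) (by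
    rintro e he _ ⟨z, hz, rfl⟩
    exact (congrArg Subtype.val (mem_center_iff.1 hz ⟨e, he⟩)).symm)

omit [Finite G] in
theorem nil_top (h : Group.IsNilpotent (⊤ : Subgroup G)) : Group.IsNilpotent G := Group.nilpotent_of_mulEquiv topEquiv

theorem fh_top : fittingHall G = fittingHallOf ⊤ :=
  le_antisymm (sSup_le fun N ⟨_, a, b⟩ => le_fh a le_top le_normalizer_of_normal (by rwa [relIndex_top_right]))
    (le_sSup ⟨normalizer_eq_top_iff.1 (top_le_iff.1 (le_norm_fh _)), fh_nil _, relIndex_top_right (G := G) _ ▸ fh_coprime _⟩)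

theorem frob (h : IsCNGroup G) (hn : ¬ Group.IsNilpotent G) (h0 : fittingHallOf (⊤ : Subgroup G) ≠ ⊥) :
    ∃ E : Subgroup G, Frob ⊤ (fittingHallOf ⊤) E := by
  obtain ⟨E, hE⟩ := (fh_hall (⊤ : Subgroup G)).exists_compl (le_norm_fh _)
  refine ⟨E, hE, h0, fun e => hn (nil_top (hE.eq_left e ▸ fh_nil _)), semiregular_of_prime fun X x1 x2 => by_contra fun e => ?_⟩
  obtain ⟨Y, y1, y2⟩ := exists_prime_card_le e
  have h1 := fh_sylow y2 (card_dvd (y1.trans inf_le_left))
  have h2 : Nat.card X ≠ Nat.card Y := fun e => y2.one_lt.ne' (Nat.eq_one_of_dvd_coprimes (fh_coprime ⊤) (card_dvd (y1.trans inf_le_left)) (by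
    rw [hE.relIndex_left, ← e]; exact card_dvd x1))
  have h3 : Y ≤ piCoreOf {Nat.card Y} ⊤ := le_pcore_of_le_fit (isPi_of_pg y2 (pg_of_card_eq rfl) rfl) ((y1.trans inf_le_left).trans (fh_le_fit _))
  have : (piCoreOf {Nat.card Y} (⊤ : Subgroup G)).Normal := normalizer_eq_top_iff.1 (top_le_iff.1 (le_norm_pcore _ _))
  have h4 := cent h y2 (h1.pg y2) (pg_not_dvd y2 x2 (pg_of_card_eq rfl) h2.symm) (ne_bot_mono (ne_bot_of_prime y2) (le_inf h3 (y1.trans inf_le_right)))
  obtain ⟨Q, q1, q2⟩ := sylow_superset x2 (pg_of_card_eq rfl) (le_top (a := X))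
  have h5 := cent h x2 (q1.pg x2) (pg_not_dvd x2 y2 (h1.pg y2) h2) (ne_bot_mono (ne_bot_of_prime x2) (le_inf q2 h4))
  exact ne_bot_of_prime x2 (eq_bot_mono hE.disj (le_inf (q2.trans (sylow_le_fh x2 q1
    (sylow_normal h x2 q1 (ne_bot_mono (ne_bot_of_prime y2) h3) (cent_symm h5)))) x1))

theorem compl (h : IsCNGroup G) (hF : Frob ⊤ K E) : IsCyclic E ∨ ∃ C Q : Subgroup G, C ⊔ Q = E ∧ (∀ a ∈ C, ∀ b ∈ Q, a * b = b * a) ∧
    IsCyclic C ∧ Odd (Nat.card C) ∧ ∃ n : ℕ, Nonempty (Q ≃* QuaternionGroup (2 ^ n)) := by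
  have hn := nil_compl h hF
  have hd := nil_dprod {2} hn
  have h1 := pcore_not_dvd Nat.prime_two E
  have h2 := nil_zgroup_cyclic (nil_of_le hn (pcore_le _ _)) (H02.isZGroup_of_fpf_odd h1 hF.ker_ne ((pcore_le _ _).trans hF.sd.norm)
    (hF.reg.mono le_rfl (pcore_le _ _)))
  obtain h3 | ⟨-, h3⟩ := H02.isCyclic_or_quaternion_of_fpf (pcore_pg Nat.prime_two E) hF.ker_ne ((pcore_le _ _).trans hF.sd.norm)
    (hF.reg.mono le_rfl (pcore_le _ _))
  · exact .inl (hd.cyclic h3 h2 (pg_coprime Nat.prime_two (pcore_pg Nat.prime_two E) h1))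
  · exact .inr ⟨_, _, hd.symm.sup, fun a ha b hb => (hd.cent ha b hb).symm, h2, Nat.odd_iff.2 (by omega), h3⟩

theorem one_prime (h : ∀ g : G, IsPrimePow (orderOf g) ∨ g = 1) (h0 : X ⊓ C_(X) ≠ ⊥) : ∃ p, (Nat.card X).primeFactors ⊆ {p} := by
  obtain ⟨p, hp, hd⟩ := exists_prime_dvd_card h0
  obtain ⟨z, z1, z2⟩ := exists_orderOf_eq_prime hp hd
  refine ⟨p, fun q hq => by_contra fun e => ?_⟩
  have hq' := Nat.prime_of_mem_primeFactors hq
  obtain ⟨y, y1, y2⟩ := exists_orderOf_eq_prime hq' (Nat.dvd_of_mem_primeFactors hq)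
  have hc := (Nat.coprime_primes hq' hp).2 (by simpa using e)
  have := Commute.orderOf_mul_eq_mul_orderOf_of_coprime (z1.2 y y1) (by rwa [y2, z2])
  rw [y2, z2] at this
  obtain e | e := h (y * z)
  · exact (Nat.Coprime.isPrimePow_dvd_mul hc (this ▸ e)).1 dvd_rfl |>.elim
      (fun e => hp.one_lt.not_ge (Nat.le_of_mul_le_mul_left ((Nat.le_of_dvd hq'.pos e).trans_eq (mul_one q).symm) hq'.pos))
      fun e => hq'.one_lt.not_ge (Nat.le_of_mul_le_mul_right ((Nat.le_of_dvd hp.pos e).trans_eq (one_mul p).symm) hp.pos)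
  · rw [e, orderOf_one] at this; exact hp.one_lt.ne' (Nat.eq_one_of_mul_eq_one_left this.symm)

end H24.CN
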