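import Cfsg.Agent.L.Fz0

/-!
# Counting the involutions of `J(T) ≅ 2¹¹` in groups of large Fischer type
-/

set_option autoImplicit false
open Subgroup L.Fz

namespace H24.FzN
universe u

theorem dc {α : Type*} [Finite α] (S T : Set α) (R : α → α → Prop) (p q : ℕ) (h1 : ∀ s ∈ S, {t | t ∈ T ∧ R s t}.ncard = p)
    (h2 : ∀ t ∈ T, {s | s ∈ S ∧ R s t}.ncard = q) : S.ncard * p = T.ncard * q := by
  classical
  have := Fintype.ofFinite α
  rw [Set.ncard_eq_toFinset_card' S, Set.ncard_eq_toFinset_card' T]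
  refine Finset.card_mul_eq_card_mul R (fun s hs => ?_) fun t ht => ?_
  · rw [← h1 s (Set.mem_toFinset.1 hs), ← Set.ncard_coe_finset]
    congr 1; ext; simp
  · rw [← h2 t (Set.mem_toFinset.1 ht), ← Set.ncard_coe_finset]
    congr 1; ext; simp

variable {G : Type u} [Group G]

theorem cc (m : G) {P Q : G → Prop} (h : ∀ x, P x ↔ Q (m * x * m⁻¹)) : {x | P x}.ncard = {x | Q x}.ncard :=
  Set.ncard_congr (fun x _ => m * x * m⁻¹) (fun x a => (h x).1 a) (fun x y _ _ e => by simpa using e)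
    fun y a => ⟨m⁻¹ * y * m, (h _).2 (by simpa [mul_assoc] using a), by group⟩

theorem cr (m : G) {P Q : G → Prop} (h : ∀ x, P x ↔ Q (x * m)) : {x | P x}.ncard = {x | Q x}.ncard :=
  Set.ncard_congr (fun x _ => x * m) (fun x a => (h x).1 a) (fun x y _ _ e => by simpa using e)
    fun y a => ⟨y * m⁻¹, (h _).2 (by simpa [mul_assoc] using a), by group⟩

variable {A M B : Subgroup G} {D : Set G} {z : G}

theorem back (m x : G) : m⁻¹ * (m * x * m⁻¹) * m⁻¹⁻¹ = x := by group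

theorem iD (h : Cf A M B D z) {m : G} (i : m ∈ M) (x : G) : x ∈ D ↔ m * x * m⁻¹ ∈ D :=
  ⟨h.Dc m i x, fun a => back m x ▸ h.Dc _ (inv_mem i) _ a⟩

theorem iA (h : Cf A M B D z) {m : G} (i : m ∈ M) (x : G) : x ∈ A ↔ m * x * m⁻¹ ∈ A :=
  ⟨h.nM m i x, fun a => back m x ▸ h.nM _ (inv_mem i) _ a⟩

theorem iB (h : Cf A M B D z) {m : G} (i : m ∈ M) (e : m * z * m⁻¹ = z) (x : G) : x ∈ B ↔ m * x * m⁻¹ ∈ B :=
  ⟨h.nB m i e x, fun a => back m x ▸ h.nB _ (inv_mem i) ((congrArg (fun y => m⁻¹ * y * m⁻¹⁻¹) e).symm.trans (back m z)) _ a⟩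

/-- the conjugates of `z` in `A` -/
def Z (A : Subgroup G) (D : Set G) : Set G := {x | x ∈ A ∧ x ≠ 1 ∧ x ∉ D}

theorem iZ (h : Cf A M B D z) {m : G} (i : m ∈ M) (x : G) : x ∈ Z A D ↔ m * x * m⁻¹ ∈ Z A D :=
  and_congr (iA h i x) (and_congr (by simp [mul_inv_eq_iff_eq_mul]) (iD h i x).not)

theorem part [Finite G] (h : Cf A M B D z) (P : G → Prop) (l : ∀ x, P x → x ∈ A) (o : P 1) :
    {x | P x}.ncard = {x | x ∈ D ∧ P x}.ncard + {x | x ∈ Z A D ∧ P x}.ncard + 1 := by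
  rw [← Set.ncard_union_eq (Set.disjoint_left.2 fun x a b => b.1.2.2 a.1), ← Set.ncard_insert_of_notMem (a := (1 : G)) (by
    rintro (a | a)
    · exact (h.DA 1 a.1).2 rfl
    · exact a.1.2.1 rfl)]
  congr 1
  ext x
  refine ⟨fun a => ?_, ?_⟩
  · by_cases e : x = 1
    · exact Or.inl e
    by_cases d : x ∈ D
    · exact Or.inr (Or.inl ⟨d, a⟩)
    · exact Or.inr (Or.inr ⟨⟨l x a, e, d⟩, a⟩)
  · rintro (rfl | a | a)
    exacts [o, a.2, a.2]

theorem even [Finite G] (h : Cf A M B D z) : D.ncard % 2 = 0 := by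
  haveI := Fact.mk Nat.prime_two
  obtain ⟨P, l, p, f⟩ := h.cQ
  letI : MulAction P D :=
    { smul := fun m t => ⟨m * t * (m : G)⁻¹, h.Dc _ (l m.2) _ t.2⟩
      one_smul := fun t => Subtype.ext (show ((1 : P) : G) * t * ((1 : P) : G)⁻¹ = t by simp)
      mul_smul := fun m n t => Subtype.ext (show ((m * n : P) : G) * t * ((m * n : P) : G)⁻¹ = m * (n * t * (n : G)⁻¹) * (m : G)⁻¹ by
        simp [mul_assoc]) }
  have := p.card_modEq_card_fixedPoints D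
  have e : IsEmpty (MulAction.fixedPoints P D) := ⟨fun ⟨t, ht⟩ => by
    rcases f t (h.DA _ t.2).1 (fun m i => mul_inv_eq_iff_eq_mul.1 (congrArg Subtype.val (ht ⟨m, i⟩))) with e | e
    · exact (h.DA _ t.2).2 e
    · exact h.zD (e ▸ t.2)⟩
  rw [Nat.card_of_isEmpty (α := MulAction.fixedPoints P D), Nat.card_coe_set_eq] at this
  exact this

theorem ar : ∀ j < 140, 36 + 15 * j ∣ 36 * 2047 → (36 + 15 * j) % 2 = 0 → j = 0 ∨ j = 16 := by decide +kernel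

theorem n : NStmt.{u} := by
  intro G _ _ A M B D z h k
  have cA : (A : Set G).ncard = 2048 := by rw [← h.cA, ← Nat.card_coe_set_eq]; rfl
  have cB : (B : Set G).ncard = 128 := by rw [← h.cB, ← Nat.card_coe_set_eq]; rfl
  have s0 : 2048 = D.ncard + (Z A D).ncard + 1 := by
    have := part h (· ∈ A) (fun _ => id) (one_mem _)
    rw [show {x | x ∈ D ∧ x ∈ A} = D from Set.ext fun x => ⟨And.left, fun a => ⟨a, (h.DA x a).1⟩⟩,
      show {x | x ∈ Z A D ∧ x ∈ A} = Z A D from Set.ext fun x => ⟨And.left, fun a => ⟨a, a.1⟩⟩] at this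
    exact cA.symm.trans this
  obtain ⟨t0, t0D, t0B⟩ := h.exD
  have s1 := dc (Z A D) D (fun x t => ∃ m ∈ M, m * z * m⁻¹ = x ∧ m⁻¹ * t * m ∈ B) 36
    {x | x ∈ Z A D ∧ ∃ m ∈ M, m * z * m⁻¹ = x ∧ m⁻¹ * t0 * m ∈ B}.ncard (fun x hx => by
      obtain ⟨m, i, rfl⟩ := h.trZ x hx.1 hx.2.1 hx.2.2
      rw [← k.c36]
      refine (cc m fun t => and_congr (iD h i t) ⟨fun a => ⟨m, i, rfl, by simpa [mul_assoc] using a⟩, fun ⟨m', i', e, a⟩ => ?_⟩).symm
      have := h.nB (m⁻¹ * m') (mul_mem (inv_mem i) i') (by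
        rw [show m⁻¹ * m' * z * (m⁻¹ * m')⁻¹ = m⁻¹ * (m' * z * m'⁻¹) * m by group, e]; group) _ a
      simpa [mul_assoc] using this) (fun t ht => by
      obtain ⟨g, i, rfl⟩ := h.trD t0 t0D t ht
      refine (cc g fun x => and_congr (iZ h i x) ⟨fun ⟨m, j, e, a⟩ => ⟨g * m, mul_mem i j, by rw [← e]; group, by
        simpa [mul_assoc] using a⟩, fun ⟨m, j, e, a⟩ => ⟨g⁻¹ * m, mul_mem (inv_mem i) j, by
          rw [show g⁻¹ * m * z * (g⁻¹ * m)⁻¹ = g⁻¹ * (m * z * m⁻¹) * g by group, e]; group, by simpa [mul_assoc] using a⟩⟩).symm)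
  have dv : D.ncard ∣ 36 * 2047 := by
    generalize {x | x ∈ Z A D ∧ ∃ m ∈ M, m * z * m⁻¹ = x ∧ m⁻¹ * t0 * m ∈ B}.ncard = κ at s1
    exact ⟨κ + 36, by rw [mul_add, ← s1]; omega⟩
  have nAB : ¬ A ≤ B := fun l => by
    have := card_le_of_le l
    rw [h.cA, h.cB] at this; omega
  obtain ⟨x0, x0A, x0B⟩ := SetLike.not_le_iff_exists.1 nAB
  have s2 := dc {t | t ∈ D ∧ t ∉ B} {x | x ∈ A ∧ x ∉ B} (fun t x => t * x ∈ B) 128 {t | t ∈ D ∧ t * x0 ∈ B}.ncard (fun t ht => by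
      rw [← cB]
      refine Set.ncard_congr (fun x _ => t * x) (fun x a => a.2) (fun x y _ _ e => mul_left_cancel e) fun b hb =>
        ⟨t⁻¹ * b, ⟨⟨mul_mem (inv_mem (h.DA t ht.1).1) (h.BA hb), fun a => ht.2 (inv_mem_iff.1 ((mul_mem_cancel_right hb).1 a))⟩,
          by simpa using hb⟩, by simp⟩) (fun y hy => by
      obtain ⟨m, i, e, a⟩ := h.cos x0 x0A x0B y hy.1 hy.2
      refine (cc m fun t => ?_).symm
      have q : m * t * m⁻¹ * y = m * (t * x0) * m⁻¹ * (m * x0 * m⁻¹ * y) := by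
        rw [show m * (t * x0) * m⁻¹ * (m * x0 * m⁻¹ * y) = m * t * (x0 * x0) * m⁻¹ * y by group, h.sq x0 x0A, mul_one]
      have r : t * x0 ∈ B ↔ m * t * m⁻¹ * y ∈ B := by rw [q, mul_mem_cancel_right a]; exact iB h i e _
      exact ⟨fun b => ⟨⟨(iD h i t).1 b.1, fun c => hy.2 ((mul_mem_cancel_left c).1 (r.1 b.2))⟩, r.1 b.2⟩,
        fun b => ⟨(iD h i t).2 b.1.1, r.2 b.2⟩⟩)
  have s3 : {t | t ∈ D ∧ t ∈ B}.ncard + {t | t ∈ D ∧ t ∉ B}.ncard = D.ncard := Set.ncard_inter_add_ncard_sdiff_eq_ncard D B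
  have s4 : {x | x ∈ A ∧ x ∉ B}.ncard + 128 = 2048 := by
    rw [← cA, ← cB]; exact Set.ncard_sdiff_add_ncard_of_subset h.BA
  rw [k.c36] at s3
  generalize {t | t ∈ D ∧ t * x0 ∈ B}.ncard = j at s2
  have dj : D.ncard = 36 + 15 * j := by
    rw [show {x | x ∈ A ∧ x ∉ B}.ncard = 1920 by omega] at s2; omega
  have ev := even h
  rw [dj] at dv ev
  rcases ar j (by omega) dv ev with rfl | rfl
  · exfalso
    have DB : D ⊆ B := fun t a => by
      have := Set.eq_of_subset_of_ncard_le (show {t | t ∈ D ∧ t ∈ B} ⊆ D from fun _ => And.left) (by rw [k.c36, dj])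
      exact (this.ge a).2
    refine nAB fun x a => ?_
    by_cases e : x = 1
    · exact e ▸ one_mem _
    by_cases d : x ∈ D
    · exact DB d
    obtain ⟨m, i, rfl⟩ := h.trZ x a e d
    have := mul_mem (DB (h.Dc m i _ t0D)) (DB (h.Dc m i _ (h.Bz t0 t0D t0B)))
    rwa [show m * t0 * m⁻¹ * (m * (t0 * z) * m⁻¹) = m * (t0 * t0) * z * m⁻¹ by group, h.sq t0 (h.DA t0 t0D).1, mul_one] at this
  have cb : ∀ t ∈ D, {s | s ∈ D ∧ s * t ∈ D}.ncard = {s | s ∈ D ∧ s * t0 ∈ D}.ncard := fun t ht => by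
    obtain ⟨g, i, rfl⟩ := h.trD t0 t0D t ht
    exact (cc g fun s => and_congr (iD h i s) (by rw [iD h i]; simp [mul_assoc])).symm
  have ce : ∀ t ∈ D, {s | s ∈ D ∧ s * t0 ∈ D}.ncard + {x | x ∈ Z A D ∧ x * t ∈ D}.ncard = 275 := fun t ht => by
    have := part h (fun x => x * t ∈ D) (fun x a => (mul_mem_cancel_right (h.DA t ht).1).1 (h.DA _ a).1) (by simpa using ht)
    rw [cr t (Q := (· ∈ D)) fun _ => Iff.rfl, cb t ht] at this
    change D.ncard = _ at this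
    omega
  have cm : ∀ x ∈ A, ∀ y ∈ A, x * y = y * x := fun x a y b => by
    rw [← inv_eq_of_mul_eq_one_right (h.sq _ (mul_mem a b)), mul_inv_rev, inv_eq_of_mul_eq_one_right (h.sq x a),
      inv_eq_of_mul_eq_one_right (h.sq y b)]
  have s5 := dc D (Z A D) (fun t x => x * t ∈ D) (275 - {s | s ∈ D ∧ s * t0 ∈ D}.ncard) {t | t ∈ D ∧ t * z ∈ D}.ncard
    (fun t ht => by have := ce t ht; omega) (fun x hx => by
      obtain ⟨m, i, rfl⟩ := h.trZ x hx.1 hx.2.1 hx.2.2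
      refine (cc m fun t => ⟨fun a => ⟨(iD h i t).1 a.1, ?_⟩, fun a => ⟨(iD h i t).2 a.1, ?_⟩⟩).symm
      · have := (iD h i _).1 a.2
        rw [← cm z (h.BA h.zB) t (h.DA t a.1).1] at this
        simpa [mul_assoc] using this
      · rw [← cm z (h.BA h.zB) t (h.DA t ((iD h i t).2 a.1)).1, iD h i]
        simpa [mul_assoc] using a.2)
  have sub : {t | t ∈ D ∧ t ∈ B} ⊆ {t | t ∈ D ∧ t * z ∈ D} := fun t a => ⟨a.1, h.Bz t a.1 a.2⟩
  have a36 := Set.ncard_le_ncard sub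
  have b1 := ce t0 t0D
  rw [k.c36] at a36
  rw [dj, show (Z A D).ncard = 1771 by omega] at s5
  refine ⟨dj, fun t a b => ?_, fun t a => by rw [cb t a]; omega⟩
  exact ((Set.eq_of_subset_of_ncard_le sub (by rw [k.c36]; omega)).ge ⟨a, b⟩).2

end H24.FzN
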