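import Cfsg.Agent.H24.Sym5
import Cfsg.Agent.H21.Contrib
import Cfsg.Agent.H20.Defect

/-!
# Blocks of symmetric groups (namespace `H24.Sym`)

* `subConj_of_apply` (any group: a `p`-subgroup normal in `C(u)` lies in a defect group if `χ u ≠ 0`)
* `ct_eq_of_mem` (members of a block have the same content), `XS_ne_zero`, `exists_elem` (elementary abelian subgroup of
  rank the weight inside the defect group), `blockRank_le`
-/

set_option autoImplicit false

open MvPolynomial Finset Equiv Cfsg H05 H20 H21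

namespace H24.Sym

variable {n p : ℕ} {M : Ideal AlgInt}

theorem subConj_of_apply {G : Type*} [Group G] [Finite G] (hM : IsPModular p M) {B : Set (IrrCharacter G)} (hB : IsPBlock M B)
    {D : Subgroup G} (hD : IsDefectGroup p M B D) {χ : IrrCharacter G} (hχ : χ ∈ B) {u : G} (hu : ∃ k, orderOf u = p ^ k)
    (h : χ.1 u ≠ 0) {Q : Subgroup G} (hQ : IsPGroup p Q) (h1 : Q ≤ Subgroup.centralizer {u})
    [(Q.subgroupOf (Subgroup.centralizer {u})).Normal] : SubConj Q D := by
  have := hM.2.1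
  have h2 := blockPart_brSet_of_mem hM hu (int_block hB) hχ (y := 1) (by simpa using hM.1.ne_one)
  obtain ⟨ξ, hξ⟩ : (brSet M u B).Nonempty := by
    by_contra! e
    simp [e, blockPart] at h2
    exact h h2.symm
  have hb := H20.isPBlock_blockOf (M := M) ξ
  obtain ⟨E, hE⟩ := hb.exists_isDefectGroup p
  refine (SubConj.of_le ?_).trans (((mem_brSet_iff_induced hM hu hB hb (H20.mem_blockOf_self ξ)).1 hξ).subConj hM hE hD)
  rw [← Subgroup.map_subgroupOf_eq_of_le h1]
  exact Subgroup.map_mono (hE.normal_le hM hb hQ.comap_subtype)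

theorem ct_eq_of_mem (hM : IsPModular p M) {B : Set (IrrCharacter (Perm (Fin n)))} (hB : IsPBlock M B) :
    ∃ c, ∀ S ∈ SS n (n + ∑ i : Fin n, i.val), ∀ χ ∈ B, χ.1 = chi n S → ct p S = c := by
  have := hM.2.1
  obtain ⟨ψ, hψ, h0⟩ := hB.exists_height_zero p
  obtain ⟨T, hT, e⟩ := exists_chi_eq ψ
  refine ⟨ct p T, fun S hS χ hχ e' => by_contra fun h => contrib_ne_zero hM hB hχ hψ h0 ?_⟩
  have := congrArg (Int.cast : ℤ → ℂ) (sum_reg_eq_zero hM.1 hS hT h)
  rw [sum_filter] at this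
  push_cast at this
  rw [contrib, classInner, e, e', sum_congr rfl fun g _ => ?_, this, mul_zero]
  rw [pRegularPart_apply]
  split_ifs <;> simp [chi]

theorem XS_ne_zero {N : ℕ} {Ω : Type*} [Fintype Ω] [DecidableEq Ω] (hp : 0 < p) {b : Fin N → ℕ} (hb : Function.Injective b)
    (h : ∑ i, b i = n + ∑ i : Fin N, i.val) : ∃ w m, n = p * w + m ∧
      ∑ i, b i / p = ∑ i, rho (fun i => b i % p) (fun i => b i / p) i + w ∧
      ∀ u : Perm Ω, PP N u = psum _ ℤ p ^ w * psum _ ℤ 1 ^ m → XS b u ≠ 0 := by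
  have h1 : Core (fun i => b i % p) (rho (fun i => b i % p) fun i => b i / p) :=
    core_rho fun i j e e' => hb (by rw [← Nat.mod_add_div (b i) p, e, e', Nat.mod_add_div])
  obtain ⟨w, hw⟩ := Nat.exists_eq_add_of_le (sum_le_sum fun i (_ : i ∈ univ) => h1.le lt_of_rho_lt i)
  obtain ⟨k, hk, e⟩ := pos (fun i => Nat.mod_lt (b i) hp) h1 w _ lt_of_rho_lt hw
  set b0 := fun i => b i % p + p * rho (fun i => b i % p) (fun i => b i / p) i with hb0
  have h2 : Function.Injective b0 := fun i j e => by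
    have e1 := congrArg (· % p) e
    simp only [b0, Nat.add_mul_mod_self_left, Nat.mod_mod] at e1
    simp only [b0, e1, add_right_inj] at e
    exact h1.1 i j e1 (Nat.eq_of_mul_eq_mul_left hp e)
  obtain ⟨τ, hτ⟩ := exists_sort h2
  obtain ⟨m, hm⟩ := Nat.exists_eq_add_of_le' (core_val.sum_le (q' := b0 ∘ τ) fun i j _ e => hτ.injective e)
  obtain ⟨l, hl, e'⟩ := exists_cf_pow m hτ hm
  refine ⟨w, m, ?_, hw, fun u hu => ?_⟩
  · have h3 : ∑ i, b i = ∑ i, b i % p + p * ∑ i, b i / p := by simp [mul_sum, ← sum_add_distrib, Nat.mod_add_div]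
    have h4 : ∑ i, (b0 ∘ τ) i = ∑ i, b i % p + p * ∑ i, rho (fun i => b i % p) (fun i => b i / p) i := by
      rw [mul_sum, ← sum_add_distrib]; exact Equiv.sum_comp τ b0
    rw [hw, mul_add] at h3
    omega
  · have h3 : Alt (alt Fin.val * psum (Fin N) ℤ 1 ^ m) :=
      mul_comm (psum (Fin N) ℤ 1 ^ m) _ ▸ (alt_alt _).mul fun τ => by rw [map_pow, rename_psum]
    have := e _ h3
    simp only [Nat.mod_add_div] at this
    rw [h3.cf_comp] at e'
    rw [XS, hu, mul_left_comm, this]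
    exact mul_ne_zero (by omega) fun h => by rw [h] at e'; omega

theorem exists_elem (N : ℕ) [hp : Fact p.Prime] {w m : ℕ} (h : n = p * w + m) : ∃ (u : Perm (Fin n)) (Q : Subgroup (Perm (Fin n))),
    PP N u = psum _ ℤ p ^ w * psum _ ℤ 1 ^ m ∧ u ^ p = 1 ∧ Q ≤ Subgroup.centralizer {u} ∧
      (Q.subgroupOf (Subgroup.centralizer {u})).Normal ∧ (∀ a ∈ Q, a ^ p = 1) ∧ (∀ a ∈ Q, ∀ b ∈ Q, a * b = b * a) ∧
      p ^ w ≤ Nat.card Q := by
  let θ : Multiplicative (Fin w → ZMod p) →* Perm (Fin w × ZMod p ⊕ Fin m) := MonoidHom.mk'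
    (fun a => sumCongr (prodCongrRight fun j => Equiv.addRight (a.toAdd j)) 1) fun a b => by
      ext (⟨j, y⟩ | x) <;> simp [add_assoc, add_comm, add_left_comm]
  have hθ : ∀ a j y, θ a (.inl (j, y)) = .inl (j, y + a.toAdd j) := fun _ _ _ => rfl
  have hθ' : ∀ a y, θ a (.inr y) = .inr y := fun _ _ => rfl
  have hθk : ∀ (k : ZMod p) j y, (θ (.ofAdd 1) ^ (k.val : ℤ)) (.inl (j, y)) = .inl (j, y + k) := fun k j y => by
    rw [← map_zpow, hθ]; simp
  let e : Fin w × ZMod p ⊕ Fin m ≃ Fin n := Fintype.equivFinOfCardEq (by simp [h, mul_comm])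
  let φ := e.permCongrHom.toMonoidHom.comp θ
  let u := φ (.ofAdd 1)
  have hφ : ∀ a x, ∃ k : ℤ, φ a x = (u ^ k) x := fun a x => by
    obtain ⟨(⟨j, y⟩ | y), rfl⟩ := e.surjective x
    · exact ⟨(a.toAdd j).val, by rw [← map_zpow]; simp [φ, ← map_zpow, hθ]⟩
    · exact ⟨0, by simp [φ, hθ']⟩
  have hu : u ^ p = 1 := by rw [← map_pow, ← ofAdd_nsmul, ← map_one φ]; congr 2; ext; simp
  let Q : Subgroup (Perm (Fin n)) :=
    { carrier := {q | Commute q u ∧ ∀ x, ∃ k : ℤ, q x = (u ^ k) x}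
      mul_mem' := fun {a b} ha hb => ⟨ha.1.mul_left hb.1, fun x => by
        obtain ⟨k, hk⟩ := hb.2 x
        obtain ⟨l, hl⟩ := ha.2 ((u ^ k) x)
        exact ⟨l + k, by simp [hk, hl, zpow_add]⟩⟩
      one_mem' := ⟨Commute.one_left _, fun x => ⟨0, rfl⟩⟩
      inv_mem' := fun {a} ha => ⟨ha.1.inv_left, fun x => by
        obtain ⟨k, hk⟩ := ha.2 (a⁻¹ x)
        exact ⟨-k, by simpa [Equiv.eq_symm_apply] using hk.symm⟩⟩ }
  have hQ : ∀ a ∈ Q, ∀ (k : ℤ) x, a ((u ^ k) x) = (u ^ k) (a x) := fun a ha k x => congrArg (· x) (ha.1.zpow_right k).eq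
  refine ⟨u, Q, ?_, hu, fun a ha => Subgroup.mem_centralizer_singleton_iff.2 ha.1, ⟨fun a ha g => ?_⟩, fun a ha => ?_,
    fun a ha b hb => Perm.ext fun x => ?_, ?_⟩
  · refine (PP_congr e (θ (.ofAdd 1))).trans ((PP_eq _ (Sum.map Prod.fst id) (Prod.fst_surjective.sumMap Function.surjective_id)
      (by rintro (x | x) <;> rfl) ?_).trans ?_)
    · rintro (⟨j, y⟩ | x) (⟨j', y'⟩ | x') h <;> simp at h
      · exact ⟨(y' - y).val, by rw [hθk]; simp [h]⟩
      · rw [h]
    · simp only [Fintype.prod_sum_type, card_filter, Fintype.sum_sum_type, Fintype.sum_prod_type]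
      simp [apply_ite card]
  · have hg : Commute g.1 u := Subgroup.mem_centralizer_singleton_iff.1 g.2
    refine ⟨(hg.mul_left ha.1).mul_left hg.inv_left, fun x => ?_⟩
    obtain ⟨k, hk⟩ := ha.2 (g.1⁻¹ x)
    exact ⟨k, (congrArg g.1 hk).trans (by simpa using congrArg (· (g.1⁻¹ x)) (hg.zpow_right k).eq)⟩
  · ext1 x
    obtain ⟨k, hk⟩ := ha.2 x
    have : ∀ l : ℕ, (a ^ l) x = ((u ^ k) ^ l) x := fun l => by
      induction l with
      | zero => rfl
      | succ l ih => rw [pow_succ, Perm.mul_apply, hk, hQ _ (pow_mem ha l), ih, pow_succ', Perm.mul_apply]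
    rw [this, ← zpow_natCast, ← zpow_mul, mul_comm, zpow_mul, zpow_natCast, hu, one_zpow]
  · obtain ⟨k, hk⟩ := ha.2 x
    obtain ⟨l, hl⟩ := hb.2 x
    simp only [Perm.mul_apply]
    rw [hl, hQ a ha, hk, hQ b hb, hl, ← Perm.mul_apply, ← Perm.mul_apply (u ^ k), ← zpow_add, ← zpow_add, add_comm]
  · have := Nat.card_le_card_of_injective (fun a => (⟨φ a, (Commute.all _ _).map φ, hφ a⟩ : Q)) fun a b h => by
      ext j
      simpa [φ, hθ] using congrArg (fun q : Q => q.1 (e (.inl (j, 0)))) h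
    simpa using this

theorem blockRank_le (hp : p.Prime) {B : Set (IrrCharacter (Perm (Fin n)))} {S : Fin n → ℕ}
    (hS : S ∈ SS n (n + ∑ i : Fin n, i.val)) {w : ℕ}
    (hw : ∑ i, S i / p = ∑ i, rho (fun i => S i % p) (fun i => S i / p) i + w)
    (hB : ∀ T ∈ SS n (n + ∑ i : Fin n, i.val), ∀ χ ∈ B, χ.1 = chi n T → ct p T = ct p S) :
    blockRank p B + (if w = 0 then 0 else p ^ (w - 1)) ≤ p ^ w := by
  let φ : MvPolynomial (Fin n) ℂ →ₗ[ℂ] (Perm (Fin n) → ℂ) :=
    (basisMonomials _ ℂ).constr ℂ fun d => pRegularPart p (chi n fun i => S i % p + p * d i)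
  have hφ : ∀ d, φ (monomial d 1) = pRegularPart p (chi n fun i => S i % p + p * d i) := fun d =>
    (basisMonomials _ ℂ).constr_basis ℂ _ d
  have hchi : ∀ (b : Fin n → ℕ) (τ : Perm (Fin n)), chi n (b ∘ τ) = ((Perm.sign τ : ℤ) : ℂ) • chi n b := fun b τ => by
    ext σ; simp [chi, XS, (alt_PP σ).cf_comp]
  have h3 : ∀ b : Fin n → ℕ, ∑ i, b i = ∑ i, b i % p + p * ∑ i, b i / p := fun b => by
    simp [mul_sum, ← sum_add_distrib, Nat.mod_add_div]
  refine le_trans (Nat.add_le_add_right (Submodule.finrank_mono (Submodule.span_le.2 ?_)) _) (finrank_range_le hp.pos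
    (fun i => Nat.mod_lt (S i) hp.pos) (core_rho (q := fun i => S i / p) fun i j e e' => (mem_SS.1 hS).2.injective
      (by rw [← Nat.mod_add_div (S i) p, e, e', Nat.mod_add_div])) w φ (fun τ hτ g => ?_) (fun k hk g => ?_) fun d hd => ?_)
  · rintro _ ⟨χ, hχ, rfl⟩
    obtain ⟨T, hT, e⟩ := exists_chi_eq χ
    obtain ⟨τ, hτ⟩ := exists_equiv_fib (fun i => S i % p) (fun i => T i % p) fun r => (congrFun (hB T hT χ hχ e) r).symm
    refine ⟨((Perm.sign τ : ℤ) : ℂ) • monomial (Finsupp.equivFunOnFinite.symm fun i => T (τ i) / p) 1, ?_⟩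
    simp only [map_smul, hφ, ← pRegularPart_smul, ← hτ, Finsupp.equivFunOnFinite_symm_apply_apply, Nat.mod_add_div, e]
    rw [show (fun i => T (τ i)) = T ∘ τ from rfl, hchi, smul_smul]; simp [← Int.cast_mul]
  · induction g using MvPolynomial.induction_on' with
    | monomial d a =>
      rw [show monomial d a = a • monomial d (1 : ℂ) by simp [smul_monomial], map_smul, map_smul, map_smul, smul_comm,
        rename_monomial, hφ, hφ, ← Int.cast_smul_eq_zsmul ℂ, ← pRegularPart_smul ((Perm.sign τ : ℤ) : ℂ), ← Perm.sign_inv, ← hchi]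
      congr 3; ext i
      simp [Finsupp.mapDomain_equiv_apply, ← show S (τ (τ.symm i)) % p = S (τ.symm i) % p from congrFun hτ _]
    | add g g' h1 h2 => simp only [map_add, h1, h2, smul_add]
  · induction g using MvPolynomial.induction_on' with
    | monomial d a =>
      rw [show monomial d a = a • monomial d (1 : ℂ) by simp [smul_monomial], mul_smul_comm, map_smul, psum, sum_mul, map_sum]
      simp only [X_pow_eq_monomial, monomial_mul, one_mul, hφ]
      refine smul_eq_zero_of_right _ (funext fun σ => ?_)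
      simp only [Finset.sum_apply, pRegularPart_apply, Pi.zero_apply]
      split_ifs with h
      · simp
      have := sum_cf_eq_zero (k := p * k) (hp.two_le.trans (Nat.le_mul_of_pos_right p hk)) (σ := σ)
        (fun h' => h ((dvd_mul_right p k).trans (Perm.dvd_of_mem_cycleType h'))) fun i => S i % p + p * d i
      rw [← Int.cast_zero, ← this, Int.cast_sum]
      refine sum_congr rfl fun i _ => ?_
      simp only [chi]; congr 2; ext j
      by_cases e : j = i <;> simp [e, mul_add]; ring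
    | add g g' h1 h2 => simp only [mul_add, map_add, h1, h2, add_zero]
  · by_contra h
    refine hd (hφ d ▸ funext fun σ => ?_)
    have := h3 S
    rw [(mem_SS.1 hS).1] at this
    simp [pRegularPart_apply, chi, XS_eq_zero (b := fun i => S i % p + p * d i) (Ω := Fin n) (by
      rw [sum_add_distrib, ← mul_sum, Fintype.card_fin, this, hw]
      simpa [hp.ne_zero] using h)]

end H24.Sym
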