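import Cfsg.Agent.H24.Alt2

/-!
# Abelian subgroups of symmetric and alternating groups (namespace `H24.Alt`)

* `Sp s` (permutations supported on `s`), `orb A x`, `card_eq_orb`, `resHom`, `card_sup_Sp`, `card_Sp_alt`
* `fS`, `fA` (largest orders of abelian subgroups), `card_le_fS`, `card_le_fA`, `exists_fS`, `exists_fA`, `conj_of_max`,
  `isGreatest_fS`, `isGreatest_fA`
-/

set_option autoImplicit false
set_option linter.unusedSectionVars false

open Equiv Subgroup Finset H20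

namespace H24.Alt

variable {α : Type*} [Fintype α] [DecidableEq α]

/-- permutations supported on `s` -/
def Sp (s : Finset α) : Subgroup (Perm α) where
  carrier := {g | ∀ x, x ∉ s → g x = x}
  mul_mem' ha hb x hx := by rw [Perm.mul_apply, hb x hx, ha x hx]
  one_mem' _ _ := rfl
  inv_mem' ha x hx := Perm.inv_eq_iff_eq.2 (ha x hx).symm

theorem mem_Sp {s : Finset α} {g : Perm α} : g ∈ Sp s ↔ ∀ x, x ∉ s → g x = x := Iff.rfl

theorem Sp_mono {s t : Finset α} (h : s ⊆ t) : Sp s ≤ Sp t := fun _ hg x hx => hg x fun e => hx (h e)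

theorem Sp_univ : Sp (univ : Finset α) = ⊤ := eq_top_iff.2 fun _ _ x hx => absurd (mem_univ x) hx

theorem apply_mem {s : Finset α} {g : Perm α} (hg : g ∈ Sp s) {x : α} (hx : x ∈ s) : g x ∈ s := by
  by_contra h
  exact h (by rwa [g.injective (hg _ h)])

theorem commute_Sp {s t : Finset α} (h : Disjoint s t) {a b : Perm α} (ha : a ∈ Sp s) (hb : b ∈ Sp t) : Commute a b :=
  Perm.Disjoint.commute fun x => by
    by_cases hx : x ∈ s
    exacts [Or.inr (hb x (disjoint_left.1 h hx)), Or.inl (ha x hx)]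

theorem disjoint_Sp {s t : Finset α} (h : Disjoint s t) : Disjoint (Sp s) (Sp t) :=
  disjoint_def.2 fun {a} ha hb => Perm.ext fun x => by
    by_cases hx : x ∈ s
    exacts [hb x (disjoint_left.1 h hx), ha x hx]

theorem cj_Sp (g : Perm α) (s : Finset α) : cj g (Sp s) = Sp (s.map g.toEmbedding) := by
  ext x
  simp only [mem_cj, mem_Sp]
  refine (g.forall_congr fun y => ?_)
  simp [Equiv.symm_apply_eq]

theorem cj_eq_of_eqOn {s : Finset α} {A : Subgroup (Perm α)} (hA : A ≤ Sp s) {c d : Perm α} (h : ∀ x ∈ s, c x = d x) :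
    cj c A = cj d A := by
  have : ∀ a ∈ A, (d⁻¹ * c) * a * (d⁻¹ * c)⁻¹ = a := fun a ha => by
    rw [(commute_Sp (s := sᶜ) disjoint_compl_left (fun x hx => by simp [h x (by simpa using hx)]) (hA ha)).eq]; group
  rw [show c = d * (d⁻¹ * c) by simp, ← cj_cj]
  congr 1
  exact le_antisymm (by rintro _ ⟨a, ha, rfl⟩; exact (congrArg (· ∈ A) (this a ha)).mpr ha) fun a ha => ⟨a, ha, this a ha⟩

theorem card_sup_Sp {s t : Finset α} (h : Disjoint s t) {A B : Subgroup (Perm α)} (hA : A ≤ Sp s) (hB : B ≤ Sp t) :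
    Nat.card (A ⊔ B : Subgroup _) = Nat.card A * Nat.card B := by
  let φ := A.subtype.noncommCoprod B.subtype fun a b => commute_Sp h (hA a.2) (hB b.2)
  rw [← Nat.card_prod, Nat.card_congr (MonoidHom.ofInjective (f := φ) (MonoidHom.noncommCoprod_injective _ _ _ |>.2
    ⟨A.subtype_injective, B.subtype_injective, by simpa using (disjoint_Sp h).mono hA hB⟩)).toEquiv,
    MonoidHom.noncommCoprod_range]
  simp

theorem comm_sup_Sp {s t : Finset α} (h : Disjoint s t) {A B : Subgroup (Perm α)} (hA : A ≤ Sp s) (hB : B ≤ Sp t)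
    (h1 : A ≤ centralizer A) (h2 : B ≤ centralizer B) : A ⊔ B ≤ centralizer (A ⊔ B : Subgroup _) := by
  have h3 : B ≤ centralizer A := fun b hb a ha => (commute_Sp h (hA ha) (hB hb)).eq
  exact sup_le (le_centralizer_iff.1 (sup_le h1 h3)) (le_centralizer_iff.1 (sup_le (le_centralizer_iff.1 h3) h2))

theorem card_Sp_alt {s : Finset α} (h : 2 ≤ #s) : 2 * Nat.card (Sp s ⊓ alternatingGroup α : Subgroup _) = (#s).factorial := by
  have : Nontrivial s := Fintype.one_lt_card_iff_nontrivial.1 (by simpa)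
  rw [show Sp s ⊓ alternatingGroup α = (Al s).map (alternatingGroup α).subtype from le_antisymm
    (fun g hg => ⟨⟨g, hg.2⟩, mem_Al.2 hg.1, rfl⟩) (by rintro _ ⟨g, hg, rfl⟩; exact ⟨mem_Al.1 hg, g.2⟩),
    card_map_of_injective (subtype_injective _), ← Nat.card_congr (equivAl s).toEquiv, Nat.card_eq_fintype_card,
    two_mul_card_alternatingGroup, Fintype.card_perm, Fintype.card_coe]

open Classical in
/-- orbits -/
noncomputable def orb (A : Subgroup (Perm α)) (x : α) : Finset α := {y | ∃ a ∈ A, a x = y}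

theorem mem_orb {A : Subgroup (Perm α)} {x y : α} : y ∈ orb A x ↔ ∃ a ∈ A, a x = y := by simp [orb]

theorem self_mem_orb (A : Subgroup (Perm α)) (x : α) : x ∈ orb A x := mem_orb.2 ⟨1, one_mem _, rfl⟩

theorem apply_mem_orb {A : Subgroup (Perm α)} {a : Perm α} (ha : a ∈ A) (x y : α) : a y ∈ orb A x ↔ y ∈ orb A x := by
  simp only [mem_orb]
  exact ⟨fun ⟨b, hb, e⟩ => ⟨a⁻¹ * b, mul_mem (inv_mem ha) hb, by simp [e]⟩, fun ⟨b, hb, e⟩ => ⟨a * b, mul_mem ha hb, by simp [e]⟩⟩

theorem orb_subset {A : Subgroup (Perm α)} {s : Finset α} (h : A ≤ Sp s) {x : α} (hx : x ∈ s) : orb A x ⊆ s := fun y hy => by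
  obtain ⟨a, ha, rfl⟩ := mem_orb.1 hy
  exact apply_mem (h ha) hx

theorem card_eq_orb (A : Subgroup (Perm α)) (x : α) :
    Nat.card A = #(orb A x) * Nat.card (A ⊓ MulAction.stabilizer (Perm α) x : Subgroup _) := by
  rw [← (MulAction.stabilizer A x).index_mul_card, MulAction.index_stabilizer, ← Set.ncard_coe_finset,
    ← card_map_of_injective (K := MulAction.stabilizer A x) A.subtype_injective]
  congr 2
  · ext y; simp [mem_orb, MulAction.mem_orbit_iff, Subgroup.smul_def]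
  · congr! 1; ext g; simp [Subgroup.smul_def, and_comm]

theorem stab_eq {A : Subgroup (Perm α)} {s : Finset α} (h : A ≤ Sp s) (hA : A ≤ centralizer A) (x : α) :
    A ⊓ MulAction.stabilizer (Perm α) x = A ⊓ Sp (s \ orb A x) := by
  refine le_antisymm (fun a ha => ⟨ha.1, fun y hy => ?_⟩) fun a ha => ⟨ha.1, ha.2 x (by simp [self_mem_orb])⟩
  by_cases e : y ∈ orb A x
  · obtain ⟨b, hb, rfl⟩ := mem_orb.1 e
    exact (congrArg (· x) (hA ha.1 b hb)).symm.trans (congrArg b ha.2)
  · exact h ha.1 y (by simpa [e] using hy)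

/-- restriction to the complement of an invariant set -/
def resHom (A : Subgroup (Perm α)) (t : Finset α) (h : ∀ a ∈ A, ∀ y, a y ∈ t ↔ y ∈ t) : A →* Perm α :=
  MonoidHom.mk' (fun a => Perm.ofSubtype (a.1.subtypePerm (p := (· ∉ t)) fun y => (h a a.2 y).not)) fun _ _ => by
    rw [← map_mul]; rfl

theorem resHom_apply {A : Subgroup (Perm α)} {t : Finset α} (h : ∀ a ∈ A, ∀ y, a y ∈ t ↔ y ∈ t) (a : A) (y : α) :
    resHom A t h a y = if y ∈ t then y else a.1 y := by
  split_ifs with e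
  exacts [Perm.ofSubtype_apply_of_not_mem (p := (· ∉ t)) _ (not_not.2 e), Perm.ofSubtype_apply_of_mem (p := (· ∉ t)) _ e]

theorem exists_res {A : Subgroup (Perm α)} {s t : Finset α} (hs : A ≤ Sp s) (h : ∀ a ∈ A, ∀ y, a y ∈ t ↔ y ∈ t) :
    ∃ φ : A →* Perm α, φ.range ≤ Sp (s \ t) ∧ Nat.card A = Nat.card (A ⊓ Sp t : Subgroup _) * Nat.card φ.range := by
  refine ⟨resHom A t h, ?_, ?_⟩
  · rintro _ ⟨a, rfl⟩ y hy
    rw [resHom_apply]
    split_ifs with e
    exacts [rfl, hs a.2 y (by simpa [e] using hy)]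
  · suffices (resHom A t h).ker.map A.subtype = A ⊓ Sp t by
      rw [← (resHom A t h).ker.card_mul_index, index_ker, ← card_map_of_injective (K := (resHom A t h).ker) A.subtype_injective, this]
    refine le_antisymm ?_ fun a ha => ⟨⟨a, ha.1⟩, Perm.ext fun y => ?_, rfl⟩
    · rintro _ ⟨a, ha, rfl⟩
      exact ⟨a.2, fun y hy => by simpa [resHom_apply, hy] using congrArg (· y) (MonoidHom.mem_ker.1 ha)⟩
    · simpa [resHom_apply] using ha.2 y

/-- largest order of an abelian subgroup of `S_n` -/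
def fS : ℕ → ℕ
  | 0 => 1 | 1 => 1 | 2 => 2 | 3 => 3 | 4 => 4
  | n + 5 => 3 * fS (n + 2)

/-- largest order of an abelian subgroup of `A_n` -/
def fA : ℕ → ℕ
  | 0 => 1 | 1 => 1 | 2 => 1 | 3 => 3 | 4 => 4 | 5 => 5 | 6 => 9 | 7 => 12 | 8 => 16
  | n + 9 => 3 * fA (n + 6)

theorem f_ineq (n : ℕ) : (0 < fS n ∧ fS n ≤ fS (n + 1) ∧ 2 * fS n ≤ fS (n + 2) ∧ 3 * fS n ≤ fS (n + 3) ∧ 4 * fS n ≤ fS (n + 4)) ∧
    (0 < fA n ∧ 3 * fA n ≤ fA (n + 3) ∧ 4 * fA n ≤ fA (n + 4) ∧ (n ≠ 0 → 5 * fA n < fA (n + 5)) ∧ 6 * fA n < fA (n + 6) ∧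
      7 * fA n < fA (n + 7) ∧ 8 * fA n < fA (n + 8)) ∧
    ((n ≠ 0 → fS n < fA (n + 2)) ∧ fS n < fA (n + 3) ∧ 2 * fS n < fA (n + 4) ∧ (n % 3 = 2 → 4 * fA n < fA (n + 4))) := by
  induction n using Nat.strong_induction_on with
  | _ n ih =>
    by_cases h : n < 9
    · interval_cases n <;> decide
    · obtain ⟨n, rfl⟩ := Nat.exists_eq_add_of_le' (not_lt.1 h)
      have := ih (n + 6) (by omega)
      have h1 : ∀ k, fS (n + 9 + k) = 3 * fS (n + 6 + k) := fun k => by
        rw [show n + 9 + k = n + 4 + k + 5 by omega, fS]; congr 2; omega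
      have h2 : ∀ k, fA (n + 9 + k) = 3 * fA (n + 6 + k) := fun k => by
        rw [show n + 9 + k = n + k + 9 by omega, fA]; congr 2; omega
      have h3 := h1 0
      have h4 := h2 0
      simp only [h1, h2, add_zero] at *
      omega

theorem mul_fS (n m : ℕ) : m * fS n ≤ fS (n + m) := by
  induction m using Nat.strong_induction_on with
  | _ m ih =>
    by_cases h : m < 5
    · have := (f_ineq n).1
      interval_cases m <;> omega
    · obtain ⟨m, rfl⟩ := Nat.exists_eq_add_of_le' (not_lt.1 h)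
      have := ih (m + 2) (by omega)
      have := (f_ineq (n + (m + 2))).1.2.2.2.1
      rw [show n + (m + 5) = n + (m + 2) + 3 by omega]
      nlinarith [(f_ineq n).1.1]

theorem mul_fA (n m : ℕ) (hm : 6 ≤ m) : m * fA n < fA (n + m) := by
  induction m using Nat.strong_induction_on with
  | _ m ih =>
    by_cases h : m < 9
    · have := (f_ineq n).2.1
      interval_cases m <;> omega
    · obtain ⟨m, rfl⟩ := Nat.exists_eq_add_of_le' (not_lt.1 h)
      have := ih (m + 6) (by omega) (by omega)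
      have := (f_ineq (n + (m + 6))).2.1.2.1
      rw [show n + (m + 9) = n + (m + 6) + 3 by omega]
      nlinarith [(f_ineq n).2.1.1]

theorem exists_moved {A : Subgroup (Perm α)} {s : Finset α} (h : A ≤ Sp s) (h1 : A ≠ ⊥) : ∃ x ∈ s, 2 ≤ #(orb A x) := by
  obtain ⟨⟨a, ha⟩, h2⟩ := ne_bot_iff_exists_ne_one.1 h1
  obtain ⟨x, hx⟩ : ∃ x, a x ≠ x := by by_contra! e; exact h2 (Subtype.ext (Perm.ext e))
  exact ⟨x, by_contra fun e => hx (h ha x e), one_lt_card.2 ⟨_, mem_orb.2 ⟨a, ha, rfl⟩, _, self_mem_orb A x, hx⟩⟩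

theorem comm_inf {A : Subgroup (Perm α)} (hA : A ≤ centralizer A) (B : Subgroup (Perm α)) : A ⊓ B ≤ centralizer (A ⊓ B : Subgroup _) :=
  fun _ ha b hb => hA ha.1 b hb.1

theorem card_le_fS {s : Finset α} {A : Subgroup (Perm α)} (h : A ≤ Sp s) (hA : A ≤ centralizer A) : Nat.card A ≤ fS #s := by
  induction s using Finset.strongInduction generalizing A with
  | H s ih =>
    by_cases h1 : A = ⊥
    · rw [h1, card_bot]; exact (f_ineq _).1.1
    obtain ⟨x, hx, -⟩ := exists_moved h h1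
    rw [card_eq_orb A x, stab_eq h hA, ← card_sdiff_add_card_eq_card (orb_subset h hx)]
    exact (Nat.mul_le_mul_left _ (ih _ (sdiff_ssubset (orb_subset h hx) ⟨x, self_mem_orb A x⟩) inf_le_right (comm_inf hA _))).trans
      (mul_fS _ _)

theorem card_le_mul_fS {s : Finset α} {A : Subgroup (Perm α)} (h : A ≤ Sp s) (hA : A ≤ centralizer A) (x : α) :
    Nat.card A ≤ Nat.card (A ⊓ Sp (orb A x) : Subgroup _) * fS #(s \ orb A x) := by
  obtain ⟨φ, h1, h2⟩ := exists_res h fun a ha => apply_mem_orb ha x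
  refine h2.trans_le (Nat.mul_le_mul_left _ (card_le_fS h1 ?_))
  rintro _ ⟨a, rfl⟩ _ ⟨b, rfl⟩
  rw [← map_mul, ← map_mul]; exact congrArg φ (Subtype.ext (hA a.2 b b.2))

theorem card_inf_dvd {s : Finset α} {A : Subgroup (Perm α)} (h : A ≤ Sp s) (hA : A ≤ centralizer A) (x : α) :
    Nat.card (A ⊓ Sp (orb A x) : Subgroup _) ∣ #(orb A x) := by
  have h1 := card_dvd_of_le (sup_le (inf_le_left (b := Sp (orb A x))) (inf_le_left (a := A) (b := Sp (s \ orb A x))))
  rw [card_sup_Sp disjoint_sdiff inf_le_right inf_le_right, card_eq_orb A x, stab_eq h hA] at h1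
  exact Nat.dvd_of_mul_dvd_mul_right Nat.card_pos h1

theorem card_le_two {s : Finset α} {A : Subgroup (Perm α)} (h : A ≤ Sp s) (hA : A ≤ centralizer A) (h' : A ≤ alternatingGroup α)
    {x : α} (h2 : #(orb A x) = 2) : Nat.card A ≤ fS #(s \ orb A x) := by
  have h1 := card_le_mul_fS h hA x
  have h3 := card_Sp_alt h2.ge
  have h4 := card_le_of_le (show A ⊓ Sp (orb A x) ≤ Sp (orb A x) ⊓ alternatingGroup α from fun a ha => ⟨ha.2, h' ha.1⟩)
  rw [h2] at h3
  exact h1.trans ((Nat.mul_le_mul_right _ (h4.trans (show _ ≤ 1 by change 2 * _ = 2 at h3; omega))).trans (one_mul _).le)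

theorem card_le_fA {s : Finset α} {A : Subgroup (Perm α)} (h : A ≤ Sp s) (hA : A ≤ centralizer A) (h' : A ≤ alternatingGroup α) :
    Nat.card A ≤ fA #s := by
  induction s using Finset.strongInduction generalizing A with
  | H s ih =>
    by_cases h1 : A = ⊥
    · rw [h1, card_bot]; exact (f_ineq _).2.1.1
    obtain ⟨x, hx, h2⟩ := exists_moved h h1
    have h3 := ih _ (sdiff_ssubset (orb_subset h hx) ⟨x, self_mem_orb A x⟩) inf_le_right (comm_inf hA _) (inf_le_left.trans h')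
    have h4 := card_eq_orb A x
    have h5 := f_ineq #(s \ orb A x)
    rw [stab_eq h hA] at h4
    rw [← card_sdiff_add_card_eq_card (orb_subset h hx)]
    rcases h2.eq_or_lt with h2 | h2
    · have := card_le_two h hA h' h2.symm
      rw [← h2]
      rcases Nat.eq_zero_or_pos #(s \ orb A x) with e | e
      · rw [e] at this ⊢; exact this
      · omega
    refine h4.trans_le ((Nat.mul_le_mul_left _ h3).trans ?_)
    by_cases h6 : 6 ≤ #(orb A x)
    · exact (mul_fA _ _ h6).le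
    rcases Nat.eq_zero_or_pos #(s \ orb A x) with e | e
    · rw [e]; interval_cases #(orb A x) <;> decide
    · interval_cases #(orb A x) <;> omega

theorem step {s : Finset α} {A : Subgroup (Perm α)} (h : A ≤ Sp s) (hA : A ≤ centralizer A) (h' : A ≤ alternatingGroup α)
    (hc : Nat.card A = fA #s) {x : α} (hx : x ∈ s) (h2 : 2 ≤ #(orb A x)) :
    (#(orb A x) = 3 ∨ #(orb A x) = 4 ∨ (#(orb A x) = 5 ∧ #s = 5)) ∧ Nat.card (A ⊓ Sp (orb A x) : Subgroup _) = #(orb A x) ∧
      Nat.card (A ⊓ Sp (s \ orb A x) : Subgroup _) = fA #(s \ orb A x) ∧ #(orb A x) * fA #(s \ orb A x) = fA #s ∧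
      A = A ⊓ Sp (orb A x) ⊔ A ⊓ Sp (s \ orb A x) := by
  have h3 := card_le_fA (inf_le_right (a := A) (b := Sp (s \ orb A x))) (comm_inf hA _) (inf_le_left.trans h')
  have h4 := card_eq_orb A x
  have h5 := f_ineq #(s \ orb A x)
  have h6 := card_le_mul_fS h hA x
  have h7 := card_inf_dvd h hA x
  have h8 := card_sup_Sp (disjoint_sdiff (s := orb A x) (t := s)) (inf_le_right (a := A)) (inf_le_right (a := A))
  have h9 := card_sdiff_add_card_eq_card (orb_subset h hx)
  rw [stab_eq h hA] at h4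
  suffices (#(orb A x) = 3 ∨ #(orb A x) = 4 ∨ (#(orb A x) = 5 ∧ #s = 5)) ∧ Nat.card (A ⊓ Sp (orb A x) : Subgroup _) = #(orb A x) ∧
      Nat.card (A ⊓ Sp (s \ orb A x) : Subgroup _) = fA #(s \ orb A x) from
    ⟨this.1, this.2.1, this.2.2, by rw [← hc, h4, this.2.2],
      (eq_of_le_of_card_ge (sup_le inf_le_left inf_le_left) (by rw [h8, h4, this.2.1])).symm⟩
  rw [← h9] at hc ⊢
  rcases h2.eq_or_lt with h2 | h2
  · have := card_le_two h hA h' h2.symm
    have := Nat.card_pos (α := (A ⊓ Sp (s \ orb A x) : Subgroup _))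
    rw [← h2] at hc h4
    rcases Nat.eq_zero_or_pos #(s \ orb A x) with e | e
    · rw [e] at hc; change _ = 1 at hc; omega
    · omega
  by_cases h10 : 6 ≤ #(orb A x)
  · exact absurd ((Nat.mul_le_mul_left _ h3).trans_lt (mul_fA _ _ h10)) (by omega)
  have h11 := Nat.le_of_dvd (by omega) h7
  have h12 := Nat.pos_of_dvd_of_pos h7 (by omega)
  generalize Nat.card (A ⊓ Sp (orb A x) : Subgroup _) = k at *
  generalize #(orb A x) = m at *
  generalize #(s \ orb A x) = r at *
  rcases Nat.eq_zero_or_pos r with rfl | e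
  · have : fA 0 = 1 ∧ fS 0 = 1 ∧ fA (0 + 3) = 3 ∧ fA (0 + 4) = 4 ∧ fA (0 + 5) = 5 := by decide
    interval_cases m <;> interval_cases k <;> omega
  · interval_cases m <;> interval_cases k <;> omega

theorem sylIn_small {s : Finset α} (hs : #s = 3 ∨ #s = 4 ∨ #s = 5) : ∃ p, p.Prime ∧ (#s = p ∨ #s = p ^ 2) ∧
    p ^ (Nat.card (Sp s ⊓ alternatingGroup α : Subgroup _)).factorization p = #s := by
  have := card_Sp_alt (s := s) (by omega)
  rcases hs with h | h | h <;> rw [h] at this ⊢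
  · exact ⟨3, Nat.prime_three, Or.inl rfl, by rw [show Nat.card _ = 3 by change 2 * _ = 6 at this; omega]; decide +kernel⟩
  · exact ⟨2, Nat.prime_two, Or.inr rfl, by rw [show Nat.card _ = 12 by change 2 * _ = 24 at this; omega]; decide +kernel⟩
  · exact ⟨5, Nat.prime_five, Or.inl rfl, by rw [show Nat.card _ = 60 by change 2 * _ = 120 at this; omega]; decide +kernel⟩

theorem exists_small {s : Finset α} (hs : #s = 3 ∨ #s = 4 ∨ #s = 5) :
    ∃ A ≤ Sp s, A ≤ centralizer A ∧ A ≤ alternatingGroup α ∧ Nat.card A = #s := by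
  obtain ⟨p, hp, h1, h2⟩ := sylIn_small hs
  have := Fact.mk hp
  obtain ⟨A, hA⟩ := exists_sylIn p (Sp s ⊓ alternatingGroup α)
  have h3 := hA.card_eq.trans h2
  have : IsMulCommutative A := by
    rcases h1 with h1 | h1
    · exact (isCyclic_of_prime_card (h3.trans h1)).isMulCommutative
    · exact IsPGroup.isMulCommutative_of_card_eq_prime_sq (h3.trans h1)
  exact ⟨A, hA.le.trans inf_le_left, A.le_centralizer, hA.le.trans inf_le_right, h3⟩

theorem exists_fA (s : Finset α) : ∃ A ≤ Sp s, A ≤ centralizer A ∧ A ≤ alternatingGroup α ∧ Nat.card A = fA #s := by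
  induction s using Finset.strongInduction with
  | H s ih =>
    by_cases h : #s ≤ 2
    · exact ⟨⊥, bot_le, bot_le, bot_le, by rw [card_bot]; interval_cases #s <;> rfl⟩
    obtain ⟨m, h1, h2, h3⟩ : ∃ m, (m = 3 ∨ m = 4 ∨ m = 5) ∧ m ≤ #s ∧ fA #s = m * fA (#s - m) := by
      by_cases h' : #s < 9
      · interval_cases #s
        exacts [⟨3, by decide⟩, ⟨4, by decide⟩, ⟨5, by decide⟩, ⟨3, by decide⟩, ⟨3, by decide⟩, ⟨4, by decide⟩]
      · obtain ⟨n, e⟩ := Nat.exists_eq_add_of_le' (not_lt.1 h')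
        exact ⟨3, Or.inl rfl, by omega, by rw [e]; rfl⟩
    obtain ⟨t, ht, rfl⟩ := exists_subset_card_eq h2
    obtain ⟨A, a1, a2, a3, a4⟩ := exists_small h1
    obtain ⟨B, b1, b2, b3, b4⟩ := ih _ (sdiff_ssubset ht (card_pos.1 (by omega)))
    exact ⟨A ⊔ B, sup_le (a1.trans (Sp_mono ht)) (b1.trans (Sp_mono sdiff_subset)), comm_sup_Sp disjoint_sdiff a1 b1 a2 b2,
      sup_le a3 b3, by rw [card_sup_Sp disjoint_sdiff a1 b1, a4, b4, h3, card_sdiff_of_subset ht]⟩

theorem exists_four {s : Finset α} {A : Subgroup (Perm α)} (h : A ≤ Sp s) (hA : A ≤ centralizer A) (h' : A ≤ alternatingGroup α)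
    (hc : Nat.card A = fA #s) (h1 : #s % 3 ≠ 0) (h2 : 4 ≤ #s) (h3 : #s ≠ 5) : ∃ x ∈ s, #(orb A x) = 4 := by
  induction s using Finset.strongInduction generalizing A with
  | H s ih =>
    obtain ⟨x, hx, h4⟩ := exists_moved h (by
      rintro rfl
      have := (f_ineq (#s - 4)).2.1
      rw [card_bot] at hc
      rw [Nat.sub_add_cancel h2] at this; omega)
    obtain ⟨h5, -, h6, h7, h8⟩ := step h hA h' hc hx h4
    have h9 := card_sdiff_add_card_eq_card (orb_subset h hx)
    obtain h5 | h5 | h5 := h5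
    · rw [h5] at h7 h9
      obtain ⟨y, hy, e⟩ := ih _ (sdiff_ssubset (orb_subset h hx) ⟨x, self_mem_orb A x⟩) inf_le_right (comm_inf hA _)
        (inf_le_left.trans h') h6 (by omega) (by
          by_contra! e
          rw [← h9] at h7 h3 h1 h2
          have : fA 1 = 1 ∧ fA (1 + 3) = 4 := by decide
          interval_cases #(s \ orb A x) <;> omega) fun e => by rw [← h9, e] at h7; simp [fA] at h7
      refine ⟨y, (mem_sdiff.1 hy).1, e ▸ congrArg _ (Finset.ext fun z => ?_)⟩
      simp only [mem_orb]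
      refine ⟨fun ⟨a, ha, e⟩ => ?_, fun ⟨a, ha, e⟩ => ⟨a, ha.1, e⟩⟩
      rw [h8, sup_comm, ← SetLike.mem_coe, coe_mul_of_right_le_normalizer_left _ _
        (le_trans (show A ⊓ _ ≤ centralizer (A ⊓ _ : Subgroup _) from fun b hb c hc => hA hb.1 c hc.1) (centralizer_le_normalizer _))] at ha
      obtain ⟨a, ha, b, hb, rfl⟩ := ha
      exact ⟨a, ha, by rw [← e, Perm.mul_apply, hb.2 y (mem_sdiff.1 hy).2]⟩
    · exact ⟨x, hx, h5⟩
    · exact absurd h5.2 h3

theorem conj_of_max {s t : Finset α} {A B : Subgroup (Perm α)} (h : A ≤ Sp s) (hA : A ≤ centralizer A) (h' : A ≤ alternatingGroup α)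
    (hc : Nat.card A = fA #s) (k : B ≤ Sp t) (hB : B ≤ centralizer B) (k' : B ≤ alternatingGroup α)
    (kc : Nat.card B = fA #t) (e : #s = #t) :
    ∃ c : Perm α, (3 ≤ #s → c ∈ alternatingGroup α) ∧ s.map c.toEmbedding = t ∧ B = cj c A := by
  induction s using Finset.strongInduction generalizing A B t with
  | H s ih =>
    by_cases h0 : #s ≤ 2
    · obtain ⟨c, h1⟩ := Perm.exists_map_finset_eq s t e
      have : fA #s = 1 := by interval_cases #s <;> rfl
      exact ⟨c, by omega, h1, by rw [card_eq_one.1 (hc.trans this), card_eq_one.1 (kc.trans (e ▸ this)), cj_bot]⟩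
    have key : ∀ {s : Finset α} {A : Subgroup (Perm α)}, A ≤ Sp s → A ≤ centralizer A → A ≤ alternatingGroup α →
        Nat.card A = fA #s → 2 < #s → ∃ x ∈ s, #(orb A x) = if #s = 5 then 5 else if #s % 3 = 0 then 3 else 4 := by
      intro s A h hA h' hc h0
      obtain ⟨x, hx, h4⟩ := exists_moved h (by
        rintro rfl
        have := (f_ineq (#s - 3)).2.2
        have := (f_ineq (#s - 3)).1
        rw [card_bot] at hc
        rw [Nat.sub_add_cancel h0] at *; omega)
      obtain ⟨h5, -, -, h7, -⟩ := step h hA h' hc hx h4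
      have h9 := card_sdiff_add_card_eq_card (orb_subset h hx)
      split_ifs with e1 e2
      · refine ⟨x, hx, ?_⟩
        rcases h5 with h5 | h5 | h5
        · rw [h5, show #(s \ orb A x) = 2 by omega, e1] at h7; simp [fA] at h7
        · rw [h5, show #(s \ orb A x) = 1 by omega, e1] at h7; simp [fA] at h7
        · exact h5.1
      · refine ⟨x, hx, ?_⟩
        rcases h5 with h5 | h5 | h5
        · exact h5
        · have := (f_ineq #(s \ orb A x)).2.2.2.2.2 (by omega)
          rw [← h9, h5] at h7; omega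
        · omega
      · exact exists_four h hA h' hc e2 (by omega) e1
    obtain ⟨x, hx, h1⟩ := key h hA h' hc (by omega)
    obtain ⟨y, hy, k1⟩ := key k hB k' kc (by omega)
    have e1 : #(orb A x) = #(orb B y) := by rw [h1, k1, e]
    have h2 : 3 ≤ #(orb A x) := by rw [h1]; split_ifs <;> omega
    obtain ⟨h3, h4, h5, -, h6⟩ := step h hA h' hc hx (by omega)
    obtain ⟨k3, k4, k5, -, k6⟩ := step k hB k' kc hy (by omega)
    obtain ⟨c, -, c1, c2⟩ := ih _ (sdiff_ssubset (orb_subset h hx) ⟨x, self_mem_orb A x⟩) inf_le_right (comm_inf hA _)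
      (inf_le_left.trans h') h5 inf_le_right (comm_inf hB _) (inf_le_left.trans k') k5
      (by rw [card_sdiff_of_subset (orb_subset h hx), card_sdiff_of_subset (orb_subset k hy), e, e1])
    obtain ⟨d, d1, d2, d3⟩ : ∃ d ∈ alternatingGroup α, (∀ z ∈ s \ orb A x, d z = c z) ∧ (orb A x).map d.toEmbedding = orb B y := by
      obtain ⟨d, d1⟩ := Perm.exists_map_finset_eq _ _ e1
      obtain ⟨f, f1⟩ := Perm.exists_extending_pair (α := s) Subtype.val (fun z => if z.1 ∈ orb A x then d z else c z)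
        Subtype.val_injective (by
          have a1 : ∀ z ∈ orb A x, d z ∈ orb B y := fun z hz => d1 ▸ mem_map_of_mem _ hz
          have a2 : ∀ z : s, z.1 ∉ orb A x → c z ∉ orb B y := fun z hz =>
            (mem_sdiff.1 (c1 ▸ mem_map_of_mem _ (mem_sdiff.2 ⟨z.2, hz⟩))).2
          intro z w hzw
          simp only at hzw
          split_ifs at hzw with b1 b2 b2
          exacts [Subtype.ext (d.injective hzw), absurd (hzw ▸ a1 _ b1) (a2 _ b2), absurd (hzw ▸ a1 _ b2) (a2 _ b1),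
            Subtype.ext (c.injective hzw)])
      have f2 : ∀ z ∈ s \ orb A x, f z = c z := fun z hz => (f1 ⟨z, (mem_sdiff.1 hz).1⟩).trans (if_neg (mem_sdiff.1 hz).2)
      have f3 : (orb A x).map f.toEmbedding = orb B y := by
        rw [← d1, map_eq_image, map_eq_image]
        exact image_congr fun z hz => (f1 ⟨z, orb_subset h hx hz⟩).trans (if_pos hz)
      rcases Int.units_eq_one_or (Perm.sign f) with f4 | f4
      · exact ⟨f, f4, f2, f3⟩
      obtain ⟨u, hu, v, hv, huv⟩ := one_lt_card.1 (show 1 < #(orb A x) by omega)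
      refine ⟨f * swap u v, by simp [f4, huv], fun z hz => ?_, ?_⟩
      · rw [Perm.mul_apply, swap_apply_of_ne_of_ne, f2 z hz] <;> rintro rfl <;> exact (mem_sdiff.1 hz).2 ‹_›
      · rw [← f3]; ext z
        simp only [Finset.mem_map_equiv]
        change swap u v (f.symm z) ∈ _ ↔ _
        rw [swap_apply_def]; split_ifs with b1 b2
        exacts [iff_of_true hv (b1 ▸ hu), iff_of_true hu (b2 ▸ hv), Iff.rfl]
    obtain ⟨p, hp, -, p2⟩ := sylIn_small (s := orb B y) (by omega)
    have := Fact.mk hp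
    obtain ⟨g, g1, g2⟩ := (sylIn_of_card (D := cj d (A ⊓ Sp (orb A x))) (H := Sp (orb B y) ⊓ alternatingGroup α) (by
      rw [← d3, ← cj_Sp, ← cj_normal d (alternatingGroup α), ← cj_inf]
      exact cj_mono _ fun a ha => ⟨ha.2, h' ha.1⟩) (by rw [p2, card_cj, h4, e1])).exists_conj
      (sylIn_of_card (D := B ⊓ Sp (orb B y)) (fun a ha => ⟨ha.2, k' ha.1⟩) (by rw [p2, k4]))
    have g3 : ∀ z ∈ s \ orb A x, (g * d) z = c z := fun z hz => by
      rw [Perm.mul_apply, d2 z hz, g1.1 _ (mem_sdiff.1 (c1 ▸ mem_map_of_mem _ hz)).2]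
    refine ⟨g * d, fun _ => mul_mem g1.2 d1, eq_of_subset_of_card_le (fun z hz => ?_) (by simp [e]), ?_⟩
    · obtain ⟨w, hw, rfl⟩ := Finset.mem_map.1 hz
      by_cases b : w ∈ orb A x
      · exact orb_subset k hy (apply_mem g1.1 (d3 ▸ mem_map_of_mem _ b))
      · exact (congrArg (· ∈ t) (g3 w (mem_sdiff.2 ⟨hw, b⟩))).mpr
          (mem_sdiff.1 (c1 ▸ Finset.mem_map_of_mem c.toEmbedding (mem_sdiff.2 ⟨hw, b⟩))).1
    · rw [k6, g2, c2, cj_cj, ← cj_eq_of_eqOn inf_le_right g3, ← cj_sup, ← h6]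

theorem exists_fS (s : Finset α) : ∃ A ≤ Sp s, A ≤ centralizer A ∧ Nat.card A = fS #s := by
  induction s using Finset.strongInduction with
  | H s ih =>
    by_cases h : #s ≤ 1
    · exact ⟨⊥, bot_le, bot_le, by rw [card_bot]; interval_cases #s <;> rfl⟩
    obtain ⟨m, h1, h2, h3⟩ : ∃ m, (m = 2 ∨ m = 3 ∨ m = 4) ∧ m ≤ #s ∧ fS #s = m * fS (#s - m) := by
      by_cases h' : #s < 5
      · interval_cases #s
        exacts [⟨2, by decide⟩, ⟨3, by decide⟩, ⟨4, by decide⟩]
      · obtain ⟨n, e⟩ := Nat.exists_eq_add_of_le' (not_lt.1 h')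
        exact ⟨3, by simp, by omega, by rw [e]; rfl⟩
    obtain ⟨t, ht, rfl⟩ := exists_subset_card_eq h2
    obtain ⟨A, a1, a2, a4⟩ : ∃ A ≤ Sp t, A ≤ centralizer A ∧ Nat.card A = #t := by
      rcases h1 with h1 | h1
      · obtain ⟨u, v, huv, rfl⟩ := card_eq_two.1 h1
        exact ⟨zpowers (swap u v), zpowers_le.2 fun x hx => swap_apply_of_ne_of_ne (by rintro rfl; simp at hx) (by rintro rfl; simp at hx),
          le_centralizer _, by rw [Nat.card_zpowers, (Perm.isCycle_swap huv).orderOf, Perm.support_swap huv]⟩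
      · obtain ⟨A, a1, a2, -, a4⟩ := exists_small (s := t) (by omega)
        exact ⟨A, a1, a2, a4⟩
    obtain ⟨B, b1, b2, b4⟩ := ih _ (sdiff_ssubset ht (card_pos.1 (by omega)))
    exact ⟨A ⊔ B, sup_le (a1.trans (Sp_mono ht)) (b1.trans (Sp_mono sdiff_subset)), comm_sup_Sp disjoint_sdiff a1 b1 a2 b2,
      by rw [card_sup_Sp disjoint_sdiff a1 b1, a4, b4, h3, card_sdiff_of_subset ht]⟩

theorem isGreatest_fS : IsGreatest {c : ℕ | ∃ A : Subgroup (Perm α), IsMulCommutative A ∧ Nat.card A = c} (fS (Fintype.card α)) := by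
  refine ⟨?_, ?_⟩
  · obtain ⟨A, -, h1, h2⟩ := exists_fS (univ : Finset α)
    exact ⟨A, le_centralizer_iff_isMulCommutative.1 h1, h2⟩
  · rintro _ ⟨A, h, rfl⟩
    exact card_le_fS (s := univ) (Sp_univ.ge.trans' le_top) (le_centralizer _)

theorem comm_map {A : Subgroup (alternatingGroup α)} (h : IsMulCommutative A) :
    A.map (alternatingGroup α).subtype ≤ centralizer (A.map (alternatingGroup α).subtype : Subgroup _) := le_centralizer _

theorem isGreatest_fA :
    IsGreatest {c : ℕ | ∃ A : Subgroup (alternatingGroup α), IsMulCommutative A ∧ Nat.card A = c} (fA (Fintype.card α)) := by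
  refine ⟨?_, ?_⟩
  · obtain ⟨A, -, h1, h2, h3⟩ := exists_fA (univ : Finset α)
    have := le_centralizer_iff_isMulCommutative.1 h1
    exact ⟨A.subgroupOf _, inferInstance, (Nat.card_congr (subgroupOfEquivOfLe h2).toEquiv).trans h3⟩
  · rintro _ ⟨A, h, rfl⟩
    rw [← card_map_of_injective (subtype_injective _)]
    exact card_le_fA (s := univ) (Sp_univ.ge.trans' le_top) (comm_map h) (map_subtype_le _)

theorem fS_eq (k : ℕ) : fS (3 * (k + 1)) = 3 ^ (k + 1) ∧ fS (3 * (k + 1) + 1) = 4 * 3 ^ k ∧ fS (3 * (k + 1) + 2) = 2 * 3 ^ (k + 1) := by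
  induction k with
  | zero => decide
  | succ k ih =>
    have h1 : ∀ j, fS (3 * (k + 1 + 1) + j) = 3 * fS (3 * (k + 1) + j) := fun j => by
      rw [show 3 * (k + 1 + 1) + j = 3 * k + 1 + j + 5 by omega, fS]; congr 2; omega
    have := h1 0
    simp only [add_zero, h1, pow_succ] at *
    omega

theorem fA_eq (k : ℕ) : fA (3 * (k + 2)) = 3 ^ (k + 2) ∧ fA (3 * (k + 2) + 1) = 4 * 3 ^ (k + 1) ∧ fA (3 * (k + 2) + 2) = 16 * 3 ^ k := by
  induction k with
  | zero => decide
  | succ k ih =>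
    have h1 : ∀ j, fA (3 * (k + 1 + 2) + j) = 3 * fA (3 * (k + 2) + j) := fun j => by
      rw [show 3 * (k + 1 + 2) + j = 3 * k + j + 9 by omega, fA]; congr 2; omega
    have := h1 0
    simp only [add_zero, h1, pow_succ] at *
    omega

end H24.Alt
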