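import Cfsg.Agent.S2268

/-!
# Small tools for symmetric and alternating groups (namespace `H24.Alt`)

* `emb e`, `embA e` (embeddings of permutation groups along an embedding of the points), `sign_emb`
* `exists_conj_even` (conjugacy in `S_n` is conjugacy in `A_n` when there are two fixed points)
* `two_dvd_index` (a real element in an abelian Sylow subgroup)
-/

set_option autoImplicit false

open Equiv Subgroup

namespace H24.Alt

variable {α β : Type*} [Fintype α] [DecidableEq α] [Fintype β] [DecidableEq β]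

theorem sign_emb (e : α ↪ β) (σ : Perm α) : Perm.sign (Perm.viaEmbeddingHom e σ) = Perm.sign σ := by
  rw [Perm.viaEmbeddingHom_apply, Perm.viaEmbedding]; convert Perm.sign_extendDomain σ _

/-- embedding of alternating groups -/
noncomputable def embA (e : α ↪ β) : alternatingGroup α →* alternatingGroup β :=
  ((Perm.viaEmbeddingHom e).comp (alternatingGroup α).subtype).codRestrict _ fun x => (sign_emb e x).trans x.2

theorem embA_injective (e : α ↪ β) : Function.Injective (embA e) := fun _ _ h =>
  Subtype.ext (Perm.viaEmbeddingHom_injective e (congrArg Subtype.val h))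

theorem embA_apply (e : α ↪ β) (x : alternatingGroup α) (a : α) : (embA e x).1 (e a) = e (x.1 a) :=
  Perm.viaEmbedding_apply _ _ _

theorem embA_apply_of_notMem (e : α ↪ β) (x : alternatingGroup α) {b : β} (h : b ∉ Set.range e) : (embA e x).1 b = b :=
  Perm.viaEmbedding_apply_of_notMem _ _ _ h

theorem exists_conj_even {x y : Perm α} (h : IsConj x y) (h2 : x.support.card + 2 ≤ Fintype.card α) :
    ∃ g ∈ alternatingGroup α, g * x * g⁻¹ = y := by
  obtain ⟨g, rfl⟩ := isConj_iff.1 h
  rcases Int.units_eq_one_or (Perm.sign g) with e | e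
  · exact ⟨g, e, rfl⟩
  obtain ⟨a, ha, b, hb, hab⟩ := Finset.one_lt_card.1 (show 1 < x.supportᶜ.card by rw [Finset.card_compl]; omega)
  simp only [Finset.mem_compl, Perm.notMem_support] at ha hb
  refine ⟨g * swap a b, by simp [e, hab], ?_⟩
  have : swap a b * x = x * swap a b := by rw [Equiv.mul_swap_eq_swap_mul, ha, hb]
  rw [mul_assoc g, this]; simp [mul_assoc]

theorem two_dvd_index {G : Type*} [Group G] [Finite G] {p : ℕ} [Fact p.Prime] (P : Sylow p G)
    (hP : IsMulCommutative (P : Subgroup G)) {x t : G} (hx : IsPGroup p (zpowers x)) (h : t * x * t⁻¹ = x⁻¹) (h2 : x⁻¹ ≠ x) :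
    2 ∣ ((centralizer ((P : Subgroup G) : Set G)).subgroupOf (normalizer ((P : Subgroup G) : Set G))).index := by
  obtain ⟨g, -, hg⟩ := (H20.sylIn_top P).exists_conj_le hx le_top
  rw [H20.cj_zpowers] at hg
  have h' : (g * t * g⁻¹) * (g * x * g⁻¹) * (g * t * g⁻¹)⁻¹ = (g * x * g⁻¹)⁻¹ := by simp [mul_assoc, ← h]
  have h2' : (g * x * g⁻¹)⁻¹ ≠ g * x * g⁻¹ := by simpa [mul_assoc] using h2
  generalize g * t * g⁻¹ = s at h'
  generalize g * x * g⁻¹ = y at *
  refine dvd_trans ?_ (Cfsg.Agent.S2268.result P hP _ hg).2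
  have hs : s ∈ normalizer (zpowers y : Set G) := H20.mem_normalizer_iff_cj.2 (by rw [H20.cj_zpowers, h', zpowers_inv])
  refine (show orderOf (QuotientGroup.mk ⟨s, hs⟩ : _ ⧸ (centralizer (zpowers y : Set G)).subgroupOf _) = 2 from
    orderOf_eq_prime ?_ fun e => h2' ?_) ▸ orderOf_dvd_natCard _
  · rw [← QuotientGroup.mk_pow, QuotientGroup.eq_one_iff, mem_subgroupOf, ← H20.le_centralizer_singleton_iff, zpowers_le,
      mem_centralizer_singleton_iff]
    have : s * y⁻¹ * s⁻¹ = y := by rw [← conj_inv, h', inv_inv]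
    calc y * s ^ 2 = s * y⁻¹ * s⁻¹ * s ^ 2 := by rw [this]
      _ = _ := by rw [← h']; simp [pow_two, mul_assoc]
  · rw [← h', mul_inv_eq_iff_eq_mul]
    exact (((QuotientGroup.eq_one_iff _).1 e) y (mem_zpowers y)).symm

end H24.Alt
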