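import Cfsg.Agent.H24.Alt
import Cfsg.Agent.H22.Components

/-!
# The subgroups `Al s` of even permutations supported on `s` (namespace `H24.Alt`)

* `mem_Al`, `equivAl`, `cj_Al`, `exists_three`, `centralizer_Al`, `qs_alt`, `qs_Al`
-/

set_option autoImplicit false

open Equiv Subgroup Finset H20

namespace H24.Alt

variable {α : Type*} [Fintype α] [DecidableEq α]

/-- even permutations supported on `s` -/
def Al (s : Finset α) : Subgroup (alternatingGroup α) := (alternatingGroup.ofSubtype s).range

theorem mem_Al {s : Finset α} {g : alternatingGroup α} : g ∈ Al s ↔ ∀ x, x ∉ s → g.1 x = x := by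
  rw [Al, alternatingGroup.mem_range_ofSubtype_iff]
  exact ⟨fun h x hx => by_contra fun e => hx (h (Perm.mem_support.2 e)), fun h x hx => by_contra fun e =>
    Perm.mem_support.1 hx (h x e)⟩

/-- `Al s` is an alternating group -/
noncomputable def equivAl (s : Finset α) : alternatingGroup s ≃* Al s := MonoidHom.ofInjective alternatingGroup.ofSubtype_injective

theorem cj_Al (g : alternatingGroup α) (s : Finset α) : cj g (Al s) = Al (s.map g.1.toEmbedding) := by
  ext x
  simp only [mem_cj, mem_Al]
  refine (g.1.forall_congr fun y => ?_)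
  simp [Equiv.symm_apply_eq]

theorem exists_three {s : Finset α} (hs : 3 ≤ #s) {x : α} (hx : x ∈ s) : ∃ c ∈ Al s, c.1.IsThreeCycle ∧ c.1 x ≠ x := by
  obtain ⟨y, hy, z, hz, h⟩ := one_lt_card.1 (show 1 < #(s.erase x) by rw [card_erase_of_mem hx]; omega)
  simp only [mem_erase] at hy hz
  have := Perm.isThreeCycle_swap_mul_swap_same hy.1.symm hz.1.symm h
  refine ⟨⟨_, this.mem_alternatingGroup⟩, mem_Al.2 fun w hw => ?_, this, by simp [swap_apply_of_ne_of_ne hz.1 h.symm, hz.1]⟩
  have h1 : w ≠ x := by rintro rfl; exact hw hx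
  have h2 : w ≠ y := by rintro rfl; exact hw hy.2
  have h3 : w ≠ z := by rintro rfl; exact hw hz.2
  simp [swap_apply_of_ne_of_ne, h1, h2, h3]

theorem Al_mono {s t : Finset α} (h : s ⊆ t) : Al s ≤ Al t := fun _ hg => mem_Al.2 fun x hx => mem_Al.1 hg x fun e => hx (h e)

theorem subset_of_Al_le {s t : Finset α} (hs : 3 ≤ #s) (h : Al s ≤ Al t) : s ⊆ t := fun x hx => by
  obtain ⟨c, h1, -, h2⟩ := exists_three hs hx
  exact by_contra fun e => h2 (mem_Al.1 (h h1) x e)

theorem Al_inf (s t : Finset α) : Al s ⊓ Al t = Al (s ∩ t) := by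
  ext g; simp only [Subgroup.mem_inf, mem_Al, mem_inter, not_and_or, or_imp, forall_and]

theorem centralizer_Al {s : Finset α} (hs : 4 ≤ #s) : centralizer (Al s : Set (alternatingGroup α)) = Al sᶜ := by
  ext g
  rw [mem_centralizer_iff, mem_Al]
  constructor
  · intro h x hx
    rw [notMem_compl] at hx
    by_contra e
    by_cases hy : g.1 x ∈ s
    · obtain ⟨c, h1, -, h2⟩ := exists_three (s := s.erase x) (by rw [card_erase_of_mem hx]; omega) (mem_erase.2 ⟨e, hy⟩)
      have := congrArg (fun z : alternatingGroup α => z.1 x) (h c (Al_mono (erase_subset _ _) h1))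
      simp [mem_Al.1 h1 x (by simp), h2] at this
    · obtain ⟨c, h1, -, h2⟩ := exists_three (by omega) hx
      have := congrArg (fun z : alternatingGroup α => z.1 x) (h c h1)
      simp [mem_Al.1 h1 _ hy, h2.symm] at this
  · intro h c hc
    refine Subtype.ext (Perm.Disjoint.commute fun x => ?_).eq
    by_cases hx : x ∈ s
    exacts [Or.inr (h x (by simpa using hx)), Or.inl (mem_Al.1 hc x hx)]

theorem qs_alt (h : 5 ≤ Fintype.card α) : Cfsg.IsQuasisimple (alternatingGroup α) := by
  have := alternatingGroup.isSimpleGroup (α := α) (by simpa)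
  refine H22.qs_of_simple fun e => ?_
  have h1 := commutator_alternatingGroup_eq_top (α := α) (by simpa)
  rw [(commutator_eq_bot_iff _).2 e] at h1
  exact bot_ne_top h1

theorem qs_Al {s : Finset α} (h : 5 ≤ #s) : Cfsg.IsQuasisimple (Al s) := H22.qs_of_equiv (qs_alt (by simpa)) (equivAl s)

theorem odd_card_Al {s : Finset α} (h : #s ≤ 3) : Odd (Nat.card (Al s)) := by
  rw [← Nat.not_even_iff_odd, even_iff_two_dvd]
  intro h2
  obtain ⟨x, hx⟩ := exists_prime_orderOf_dvd_card' 2 h2
  rw [← orderOf_coe, ← orderOf_coe] at hx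
  have h3 := Perm.two_dvd_card_support (hx ▸ pow_orderOf_eq_one x.1.1)
  have h4 := card_le_card ((alternatingGroup.mem_range_ofSubtype_iff _ _).1 x.2)
  have h5 := Perm.two_le_card_support_of_ne_one (f := x.1.1) (fun e => by simp [e] at hx)
  have := (Perm.card_support_eq_two.1 (by omega : #x.1.1.support = 2)).sign_eq
  rw [x.1.2] at this
  simp at this

end H24.Alt
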