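import Cfsg.Agent.S4349

/-!
Sylow 2-subgroups of symmetric and alternating groups: `norm_sym`, `norm_alt` (self-normalizing), `two_minimal`,
`fix_pt` (overgroups in degree `2 ^ k + 1`).
-/

set_option autoImplicit false

namespace H24.Sy
open Equiv Equiv.Perm Finset Subgroup MulAction H03.Sym Pointwise Cfsg.Agent.S4349

variable {α : Type} [Fintype α] [DecidableEq α] {P S H M : Subgroup (Perm α)} {w w' x : Perm α}

/-- `w` is the product of the transpositions in `P` -/
structure Mt (P : Subgroup (Perm α)) (w : Perm α) : Prop where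
  inv : ∀ a, w (w a) = a
  mem : ∀ a, swap a (w a) ∈ P
  eq : ∀ a c, a ≠ c → swap a c ∈ P → w a = c
  uniq : ∀ a b, w a = a → w b = b → a = b

theorem exists_mt (P : Sylow 2 (Perm α)) : ∃ w, Mt P.1 w := by
  classical
  let f : α → α := fun a => if h : ∃ c, a ≠ c ∧ swap a c ∈ P then h.choose else a
  have h1 : ∀ a c, a ≠ c → swap a c ∈ P → f a = c := fun a c h h' => by
    have e : ∃ c, a ≠ c ∧ swap a c ∈ P := ⟨c, h, h'⟩
    exact (dif_pos e).trans (swap_eq P.2 e.choose_spec.2 h' e.choose_spec.1 h)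
  have h2 : ∀ a, swap a (f a) ∈ P := fun a => by
    simp only [f]
    split_ifs with e
    exacts [e.choose_spec.2, swap_self a ▸ one_mem P]
  have h3 : Function.Involutive f := fun a => by
    by_cases e : f a = a
    · rw [e, e]
    · exact h1 _ _ e (swap_comm a _ ▸ h2 a)
  refine ⟨h3.toPerm, h3, h2, h1, fun a b ha hb => by_contra fun e => ?_⟩
  rcases cover P e with ⟨c, c1, c2⟩ | ⟨c, c1, c2⟩
  exacts [c1 (ha.symm.trans (h1 _ _ c1 c2)), c1 (hb.symm.trans (h1 _ _ c1 c2))]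

omit [Fintype α] [DecidableEq α] in
theorem mem_cent : x ∈ centralizer {w} ↔ ∀ a, x (w a) = w (x a) := mem_centralizer_singleton_iff.trans Equiv.ext_iff

theorem exists_out (hu : ∀ a b, w a = a → w b = b → a = b) (hn : 6 ≤ Fintype.card α) (a b : α) :
    ∃ c, w c ≠ c ∧ c ≠ a ∧ c ≠ w a ∧ c ≠ b ∧ c ≠ w b := by
  have h1 : #w.supportᶜ ≤ 1 := card_le_one.2 fun a ha b hb => hu a b (by simpa using ha) (by simpa using hb)
  obtain ⟨c, c1, c2⟩ := exists_mem_notMem_of_card_lt_card (s := {a, w a, b, w b}) (t := w.support)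
    (card_le_four.trans_lt (by rw [card_compl] at h1; omega))
  exact ⟨c, mem_support.1 c1, by simpa using c2⟩

namespace Mt
variable (h : Mt P w)
include h

omit [Fintype α] in
theorem ne {a b : α} (e : a ≠ w b) : w a ≠ b := fun e' => e (by rw [← e', h.inv])

omit [Fintype α] in
theorem comm : normalizer (P : Set (Perm α)) ≤ centralizer {w} := fun x hx => mem_cent.2 fun a => by
  have key : ∀ x ∈ normalizer (P : Set (Perm α)), ∀ a, w a ≠ a → w (x a) = x (w a) := fun x hx a e =>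
    h.eq _ _ (x.injective.ne e.symm) (swap_apply_apply x a _ ▸ (hx _).1 (h.mem a))
  by_cases e : w a = a
  · rw [e]
    by_contra e'
    exact e' (by simpa [e, eq_symm_apply] using key _ (inv_mem hx) _ (Ne.symm e'))
  · exact (key x hx a e).symm

theorem eq_of (hn : 6 ≤ Fintype.card α) (hu : ∀ a b, w' a = a → w' b = b → a = b)
    (hc : P ⊓ alternatingGroup α ≤ centralizer {w'}) : w' = w := by
  have key : ∀ a, w a ≠ a → w' a = w a := fun a e => by_contra fun e' => by
    obtain ⟨b, b1, b2, b3, b4, b5⟩ := exists_out h.uniq hn a (w' a)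
    have := mem_cent.1 (hc (x := swap a (w a) * swap b (w b)) ⟨mul_mem (h.mem a) (h.mem b), by
      simp [mem_alternatingGroup, e.symm, b1.symm]⟩) a
    simp only [Perm.mul_apply, swap_apply_of_ne_of_ne b2.symm (h.ne b3).symm, swap_apply_left,
      swap_apply_of_ne_of_ne b4.symm (h.ne b5).symm] at this
    by_cases e2 : w' a = a
    · rw [e2, swap_apply_left] at this
      exact e (hu _ _ this.symm e2)
    · exact e (w'.injective (this.symm.trans (swap_apply_of_ne_of_ne e2 e')))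
  ext a
  by_cases e : w a = a
  · by_contra e'
    have h1 : w (w' a) ≠ w' a := fun e2 => e' ((h.uniq _ _ e2 e).trans e.symm)
    have h2 : w (w (w' a)) ≠ w (w' a) := w.injective.ne h1
    exact h2 (by rw [w'.injective ((key _ h2).trans (h.inv _)), e])
  · exact key a e

theorem exists_ne (hn : 2 ≤ Fintype.card α) : ∃ a, w a ≠ a := by
  obtain ⟨a, b, e⟩ := Fintype.exists_pair_of_one_lt_card hn
  by_contra! h1
  exact e (h.uniq _ _ (h1 a) (h1 b))

end Mt

theorem core (P : Sylow 2 (Perm α)) (h : Mt P.1 w)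
    (ih : ∀ Q : Sylow 2 (Perm w.cycleFactorsFinset), normalizer (Q : Set (Perm w.cycleFactorsFinset)) ≤ Q) (h1 : S ≤ P)
    (h2 : ∀ g ∈ P, ∃ z ∈ Z w h.inv, g * z ∈ S) (h3 : x ∈ centralizer {w}) (h4 : x ∈ normalizer (S : Set (Perm α))) :
    x ∈ P := by
  let φ := OnCycleFactors.toPermHom w
  have le := le_normalizer.trans h.comm
  have hw : w ^ 2 = 1 := Equiv.ext h.inv
  have c2 : ∀ t : w.cycleFactorsFinset, #t.1.support = 2 := fun t => by
    have e : #t.1.support ∈ w.cycleType := by rw [cycleType_def]; exact Multiset.mem_map_of_mem _ t.2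
    exact (Nat.le_of_dvd two_pos ((dvd_of_mem_cycleType e).trans (orderOf_dvd_of_pow_eq_one hw))).antisymm
      (two_le_of_mem_cycleType e)
  have hφ : Function.Surjective φ := fun τ => OnCycleFactors.mem_range_toPermHom_iff.2 fun c => by rw [c2, c2]
  have hK : IsPGroup 2 φ.ker := fun ⟨g, hg⟩ => ⟨1, Subtype.ext (Subtype.ext (Equiv.ext fun a => by
    have e := mem_cent.1 g.2
    change g.1 (g.1 a) = a
    by_cases e1 : w a = a
    · have := h.uniq _ _ ((e a).symm.trans (congrArg g.1 e1)) e1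
      rw [this, this]
    have e2 := supp_inv ((OnCycleFactors.mem_ker_toPermHom_iff w g).1 hg _ (cycleOf_mem_cycleFactorsFinset_iff.2
      (mem_support.2 e1))).eq (a := a) (by simpa using e1)
    obtain ⟨i, -, hi⟩ := (mem_support_cycleOf_iff.1 e2).1.exists_pow_eq'
    rw [← pow_mod_orderOf, orderOf_eq_prime hw (fun e => e1 (by rw [e]; rfl))] at hi
    rcases Nat.mod_two_eq_zero_or_one i with e3 | e3 <;> rw [e3] at hi
    · rw [← hi]; exact hi.symm
    · rw [pow_one] at hi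
      rw [← hi, e, ← hi, h.inv]))⟩
  have hZ : ∀ z ∈ Z w h.inv, ∃ hz : z ∈ centralizer {w}, φ ⟨z, hz⟩ = 1 := fun z hz =>
    ⟨mem_centralizer_singleton_iff.2 (Z_comm hz fun a => .inr rfl), (OnCycleFactors.mem_ker_toPermHom_iff w _).2
      fun c hc => Z_comm hz fun a => (em (a ∈ c.support)).symm.imp notMem_support.1 ((mem_cycleFactorsFinset_iff.1 hc).2 a)⟩
  have h5 : φ ⟨x, h3⟩ ∈ (P.subtype le).1.map φ := ih ((P.subtype le).mapSurjective hφ) (mem_normalizer_fintype (by
    rintro _ ⟨g, hg, rfl⟩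
    obtain ⟨z, z1, z2⟩ := h2 g hg
    obtain ⟨z3, z4⟩ := hZ z z1
    exact ⟨⟨x, h3⟩ * (g * ⟨z, z3⟩) * ⟨x, h3⟩⁻¹, h1 ((h4 _).1 z2), by simp only [map_mul, z4, mul_one, map_inv]⟩))
  rwa [← mem_comap, comap_map_eq_self (hK.le_sylow_of_normal _)] at h5

theorem norm_sym : ∀ (n : ℕ) {α : Type} [Fintype α] [DecidableEq α], Fintype.card α = n →
    ∀ P : Sylow 2 (Perm α), normalizer (P : Set (Perm α)) ≤ P := by
  intro n
  induction n using Nat.strong_induction_on with | _ n ih => ?_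
  intro α _ _ hn P x hx
  rcases isEmpty_or_nonempty α with e | ⟨⟨o⟩⟩
  · exact Subsingleton.elim 1 x ▸ one_mem _
  obtain ⟨w, h⟩ := exists_mt P
  refine core P h (ih _ ?_ rfl) le_rfl (fun g hg => ⟨1, one_mem _, by simpa⟩) (h.comm hx) hx
  have h1 := sum_cycleType_le w
  have h2 := Multiset.card_nsmul_le_sum fun _ => two_le_of_mem_cycleType (σ := w)
  have := Fintype.card_pos_iff.2 ⟨o⟩
  rw [cycleType_def, Multiset.card_map] at h2
  rw [cycleType_def] at h1
  simp only [Fintype.card_coe, card_val, smul_eq_mul] at h2 ⊢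
  omega

theorem norm_alt' (hn : 6 ≤ Fintype.card α) (P : Sylow 2 (Perm α)) :
    normalizer ((P ⊓ alternatingGroup α : Subgroup (Perm α)) : Set (Perm α)) ≤ P := fun x hx => by
  obtain ⟨w, h⟩ := exists_mt P
  obtain ⟨a, ha⟩ := h.exists_ne (by omega)
  refine core P h (norm_sym _ rfl) inf_le_left (fun g hg => ?_) (mem_centralizer_singleton_iff.2
    (mul_inv_eq_iff_eq_mul.1 (h.eq_of hn (fun a b h1 h2 => x⁻¹.injective (h.uniq _ _ (by simpa [eq_symm_apply] using h1)
      (by simpa [eq_symm_apply] using h2))) fun s hs => mem_centralizer_singleton_iff.2 ?_))) hx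
  · rcases Int.units_eq_one_or (sign g) with e | e
    · exact ⟨1, one_mem _, by simpa using ⟨hg, e⟩⟩
    · exact ⟨_, swap_mem_Z a, mul_mem hg (h.mem a), by simp [mem_alternatingGroup, e, ha.symm]⟩
  · have := mem_centralizer_singleton_iff.1 (h.comm (le_normalizer ((inv_mem hx s).1 hs).1))
    simpa [mul_assoc] using congrArg (x * · * x⁻¹) this

theorem norm_alt (hn : 6 ≤ Fintype.card α) (R : Sylow 2 (alternatingGroup α)) :
    normalizer (R : Set (alternatingGroup α)) ≤ R := fun x hx => by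
  obtain ⟨P, hP⟩ := (R.2.map (alternatingGroup α).subtype).exists_le_sylow
  have e := R.3 (P.2.comap_subtype (K := alternatingGroup α)) (map_le_iff_le_comap.1 hP)
  rw [← R.coe_coe, ← e] at hx
  refine e.le (norm_alt' hn P (mem_normalizer_fintype fun s hs => ⟨(hx ⟨s, hs.2⟩).1 hs.1, ?_⟩))
  exact Normal.conj_mem inferInstance _ hs.2 _

theorem Mt.step (h : Mt P w) (hM : centralizer {w} ⊓ alternatingGroup α ≤ M) {a b c : α} (h1 : R M a b) (h2 : a ≠ b)
    (h3 : a ≠ w b) (h4 : w b ≠ b) (h5 : w c ≠ c) (h6 : c ≠ a) (h7 : c ≠ w a) (h8 : c ≠ b) (h9 : c ≠ w b) : R M a c := by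
  have e : w * swap b c * w⁻¹ = swap (w b) (w c) := (swap_apply_apply w b c).symm
  have e' : w * swap (w b) (w c) * w⁻¹ = swap b c := by rw [← swap_apply_apply, h.inv, h.inv]
  have d : Commute (swap b c) (swap (w b) (w c)) := (disjoint_swap_swap (by
    simp [h8.symm, h4.symm, h5.symm, h9, (h.ne h9).symm])).commute
  have := h1.conj (le_normalizer (hM (x := swap b c * swap (w b) (w c)) ⟨mem_centralizer_singleton_iff.2
    (mul_inv_eq_iff_eq_mul.1 (by rw [← conj_mul, e, e', d.eq])).symm, by simp [mem_alternatingGroup, h8.symm]⟩))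
  rwa [swaps_apply h2 h6.symm h3 (h.ne h7).symm, Perm.mul_apply, swap_apply_of_ne_of_ne h4.symm (h.ne h9).symm,
    swap_apply_left] at this

theorem Mt.all (h : Mt P w) (hn : 6 ≤ Fintype.card α) (hM : centralizer {w} ⊓ alternatingGroup α ≤ M) {U : Finset α}
    (h1 : 3 ≤ #U) (h2 : ∀ x ∈ U, ∀ y ∈ U, R M x y) : ∃ a, ∀ c, w c ≠ c → R M a c := by
  obtain ⟨b, hb, b1⟩ : ∃ b ∈ U, w b ≠ b := by
    by_contra! e
    have := card_le_one.2 fun a ha b hb => h.uniq a b (e a ha) (e b hb)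
    omega
  obtain ⟨a, ha, a1⟩ := exists_mem_notMem_of_card_lt_card (s := {b, w b}) (t := U) (card_le_two.trans_lt h1)
  simp only [mem_insert, Finset.mem_singleton, not_or] at a1
  have key : ∀ {a b}, R M a b → a ≠ b → a ≠ w b → w b ≠ b → R M a (w b) := fun {a b} e1 e2 e3 e4 => by
    obtain ⟨c, c1, c2, c3, c4, c5⟩ := exists_out h.uniq hn a b
    exact h.step hM (h.step hM e1 e2 e3 e4 c1 c2 c3 c4 c5) c2.symm (h.ne c3).symm c1 (w.injective.ne e4) e3.symm
      (w.injective.ne e2.symm) c5.symm (w.injective.ne c4.symm)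
  have e := h2 a ha b hb
  refine ⟨a, fun c hc => ?_⟩
  by_cases c1 : c = a
  · exact c1 ▸ .refl _
  by_cases c2 : c = w a
  · exact c2 ▸ e.trans (key e.symm (Ne.symm a1.1) (h.ne a1.2).symm fun e' => c1 (c2.trans e'))
  by_cases c3 : c = b
  · exact c3 ▸ e
  by_cases c4 : c = w b
  · exact c4 ▸ key e a1.1 a1.2 b1
  exact h.step hM e a1.1 a1.2 b1 hc c1 c2 c3 c4

theorem two_minimal (hn : 6 ≤ Fintype.card α) (hS : IsPGroup 2 S) (hM : ¬ alternatingGroup α ≤ M)
    (hu : ∀ K, S ≤ K → ¬ alternatingGroup α ≤ K → K ⊓ alternatingGroup α ≤ M) : ∃ a, Fintype.card α = 2 ^ a + 1 := by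
  classical
  obtain ⟨P, hP⟩ := hS.exists_le_sylow
  obtain ⟨w, h⟩ := exists_mt P
  have h0 := hP.trans (le_normalizer.trans h.comm)
  obtain ⟨a, ha⟩ := h.exists_ne (by omega)
  have hw : centralizer {w} ⊓ alternatingGroup α ≤ M := hu _ h0 fun e => by
    obtain ⟨c, -, c1, c2, -⟩ := exists_out h.uniq hn a a
    exact not_alt_le (r := fun a b => w a = b) (by omega) ha.symm rfl c2.symm c1.symm (e.trans fun g hg a b => by
      simp only [← mem_cent.1 hg, g.apply_eq_iff_eq])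
  have F : ∀ r : α → α → Prop, Equivalence r → S ≤ stabRel r → ∀ o c, ¬ r o c → 3 ≤ #{y | r o y} →
      ∃ z, w z = z ∧ ¬ r o z := fun r hr h1 o c hc h4 => by
    obtain ⟨b, hb, h5⟩ := exists_mem_ne (show 1 < #{y | r o y} by omega) o
    have h6 := hu _ h1 (not_alt_le (by omega) h5.symm (mem_filter.1 hb).2 hc fun e => hc (e ▸ hr.refl o))
    have h7 : ∀ x ∈ ({y | r o y} : Finset α), ∀ y ∈ ({y | r o y} : Finset α), R M x y := fun x hx y hy =>
      R.of_fixU ((inf_le_inf_right _ (fixU_le_stabRel hr fun x hx y hy =>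
        hr.trans (hr.symm (mem_filter.1 hx).2) (mem_filter.1 hy).2)).trans h6) h4 hx hy
    obtain ⟨a, h8⟩ := h.all hn hw h4 h7
    by_contra! e
    refine hM fun g hg => mem_of_cls (o := a) hg fun x _ => mem_cls.2 (by_contra fun e' => ?_)
    have e1 : w x = x := by_contra fun e1 => e' (h8 x e1)
    obtain ⟨y, hy, y1⟩ := exists_mem_ne (show 1 < #{y | r o y} by omega) x
    exact e' ((h8 y fun e2 => y1 (h.uniq _ _ e2 e1)).trans (h7 y hy x (by simpa using e x e1)))
  have F1 : ∀ U, Inv S U → ∀ c ∉ U, 3 ≤ #U → ∃ z ∉ U, w z = z := fun U hU c hc h4 => by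
    obtain ⟨x, hx⟩ := card_pos.1 (show 0 < #U by omega)
    obtain ⟨z, z1, z2⟩ := F (fun a b => a ∈ U ↔ b ∈ U) ⟨fun _ => .rfl, .symm, .trans⟩ (hU.le_stab.trans stab_le_P) x c
      (by simp [hx, hc]) (by simpa [hx] using h4)
    exact ⟨z, by simpa [hx] using z2, z1⟩
  let O : Finset α := {b | b ∈ orbit S a}
  obtain ⟨k, o1⟩ : ∃ k, #O = 2 ^ k := (hS.card_orbit a).imp fun k hk => by
    rw [← hk, Nat.card_coe_set_eq, Set.ncard_eq_toFinset_card']; congr 1; ext; simp [O]
  have o2 : a ∈ O := by simp [O]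
  have o3 : Inv S O := fun g hg x hx => by
    simp only [O, mem_filter, mem_univ, true_and] at hx ⊢
    exact mem_orbit_of_mem_orbit (⟨g, hg⟩ : S) hx
  have o4 : Inv S Oᶜ := fun g hg x hx => mem_compl.2 fun e => mem_compl.1 hx (by simpa using o3 _ (inv_mem hg) _ e)
  have o5 : ∀ z, w z = z → z ∉ O ∧ ∀ g ∈ S, g z = z := fun z hz => by
    have e : ∀ g ∈ S, g z = z := fun g hg => h.uniq _ _ ((mem_cent.1 (h0 hg) z).symm.trans (congrArg g hz)) hz
    refine ⟨fun e' => ?_, e⟩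
    obtain ⟨g, rfl⟩ := (mem_filter.1 e').2
    exact ha (g.1.injective ((mem_cent.1 (h0 g.2) a).trans hz))
  have o6 := card_add_card_compl O
  obtain ⟨z, hz⟩ : ∃ z, w z = z := by
    by_cases hc : ∃ c, c ∉ O
    · obtain ⟨c, hc⟩ := hc
      by_cases e : 3 ≤ #O
      exacts [(F1 _ o3 c hc e).imp fun _ => And.right, (F1 _ o4 a (by simpa) (by omega)).imp fun _ => And.right]
    push Not at hc
    have h4 : (stabilizer S a).index = Fintype.card α := by
      rw [index_stabilizer, ← Nat.card_eq_fintype_card, ← Set.ncard_univ]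
      congr 1; exact Set.eq_univ_of_forall fun b => (mem_filter.1 (hc b)).2
    obtain ⟨K, k1, k2⟩ := exists_index hS (K := stabilizer S a) fun e => by rw [e, index_top] at h4; omega
    have := normal_of_index hS k2
    have h5 : #{y | y ∈ orbit K a} * 2 = Fintype.card α := by
      rw [← h4, ← relIndex_mul_index k1, k2]
      congr 1
      rw [show (stabilizer S a).relIndex K = (stabilizer K a).index from rfl, index_stabilizer,
        Set.ncard_eq_toFinset_card']
      congr 1; ext; simp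
    obtain ⟨c, -, hc⟩ := exists_mem_notMem_of_card_lt_card (s := {y | y ∈ orbit K a}) (t := univ)
      (by rw [card_univ]; omega)
    have key : ∀ (g : S) x y, y ∈ orbit K x → g.1 y ∈ orbit K (g.1 x) := by
      rintro g x _ ⟨k, rfl⟩
      exact ⟨⟨g * k * g⁻¹, this.conj_mem _ k.2 g⟩, by simp [Subgroup.smul_def]⟩
    exact (F (fun x y => y ∈ orbit K x) ⟨mem_orbit_self, mem_orbit_symm.1, fun h1 h2 => orbit_eq_iff.2 h1 ▸ h2⟩
      (fun g hg x y => ⟨fun h => by simpa using key ⟨g, hg⟩⁻¹ _ _ h, key ⟨g, hg⟩ x y⟩) a c (by simpa using hc)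
      (by omega)).imp fun _ => And.left
  have o7 := card_insert_of_notMem (o5 z hz).1
  by_cases hc : ∃ c, c ∉ insert z O
  · obtain ⟨c, hc⟩ := hc
    by_cases e : 3 ≤ #Oᶜ
    · obtain ⟨y, y1, y2⟩ := F1 _ o4 a (by simpa) e
      exact absurd (by simpa using y1) (o5 y y2).1
    obtain ⟨y, y1, y2⟩ := F1 _ (fun g hg x hx => (mem_insert.1 hx).elim (fun e => by simp [e, (o5 z hz).2 g hg])
      fun e => mem_insert_of_mem (o3 g hg x e)) c hc (by omega)
    exact absurd (h.uniq _ _ y2 hz ▸ mem_insert_self z O) y1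
  push Not at hc
  exact ⟨k, by rw [← card_univ, ← eq_univ_of_forall hc, o7, o1]⟩

section
variable {k : ℕ} (hk : 2 ≤ k) (hn : Fintype.card α = 2 ^ k + 1) (hH : ¬ 2 ∣ H.relIndex (alternatingGroup α))
include hk hn hH

theorem cyc {K : Subgroup (Perm α)} (h : H ≤ K) {a b : α} (h1 : a ≠ b) (h2 : swap a b ∈ K) :
    ∃ f ∈ K, f.IsCycle ∧ #f.supportᶜ = 1 := by
  obtain ⟨f, f1, f2, f3, -⟩ := cycle_mem (H := K) (e := k) (M := ⊤) Nat.prime_two (by omega) (by
    rw [relIndex_top_right, index_eq_relIndex h2 (by simp [mem_alternatingGroup, h1])]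
    exact fun e => hH (e.trans (relIndex_dvd_of_le_left _ h))) inv_univ (by rw [card_univ]; omega) (.inl rfl)
  exact ⟨f, f1, f2, by rw [card_compl]; omega⟩

theorem inv_set {U : Finset α} (hU : Inv H U) (h : 2 ≤ #U) : #Uᶜ ≤ 1 := by
  obtain ⟨a, ha, b, hb, e⟩ := one_lt_card.1 h
  obtain ⟨f, f1, f2, f3⟩ := cyc hk hn hH hU.le_stab e ((inv_fixU U).le_stab (by
    rw [mem_fixU, support_swap e]; exact insert_subset ha (singleton_subset_iff.2 hb)))
  obtain ⟨c, c1, c2⟩ := exists_mem_notMem_of_card_lt_card (f3.trans_lt h)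
  exact f3 ▸ card_le_card (compl_subset_compl.2 (cyc_ind f2 (by simpa using c2) c1 fun z _ hz =>
    f1 ▸ smul_mem_smul_finset hz))

theorem fix_uniq {a b : α} (ha : H ≤ stabilizer _ a) (hb : H ≤ stabilizer _ b) : a = b := by_contra fun e => by
  have := inv_set hk hn hH (U := {a, b}) (fun g hg x hx => by
    rcases mem_insert.1 hx with rfl | hx
    · exact mem_insert.2 (.inl (ha hg))
    · exact mem_insert.2 (.inr (by rw [Finset.mem_singleton.1 hx]; exact Finset.mem_singleton.2 (hb hg))))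
    (card_pair e).ge
  have := Nat.pow_le_pow_right two_pos hk
  rw [card_compl, card_pair e] at *
  omega

theorem fix_pt (h : ¬ alternatingGroup α ≤ H) : ∃ o : α, H ≤ stabilizer _ o := by
  have h4 := Nat.pow_le_pow_right two_pos hk
  by_cases no : ∀ f ∈ H, ¬ f.IsThreeCycle
  · rcases hk.eq_or_lt with rfl | e
    · obtain ⟨S, s1, -⟩ := exists_four hH inv_univ (by rw [card_univ]; omega)
      obtain ⟨o, ho⟩ := card_eq_one.1 (show #Sᶜ = 1 by rw [card_compl, s1.1, hn]; rfl)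
      have e : ∀ x, x ∈ S ↔ x ≠ o := fun x => by rw [Ne, ← Finset.mem_singleton, ← ho]; simp
      refine ⟨o, fun g hg => by_contra fun e' => ?_⟩
      obtain ⟨c, c1, c2, -⟩ := H10.exists_ne_three (by omega) o (g o) o
      have e2 : ∀ x, x ∈ g • S ↔ x ≠ g o := fun x => by rw [← inv_smul_mem_iff, e]; simp [symm_apply_eq]
      obtain ⟨f, hf⟩ := exists_prime_orderOf_dvd_card' 3 (hp := ⟨Nat.prime_three⟩) (three_of_four s1
        (s1.smul fun u hu => mul_mem (mul_mem hg hu) (inv_mem hg)) ⟨c, (e c).2 c1, (e2 c).2 c2⟩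
        ⟨g o, (e _).2 e', by simp [e2]⟩ ⟨o, (e2 _).2 (Ne.symm e'), by simp [e]⟩)
      rw [← orderOf_coe] at hf
      obtain ⟨m, hm⟩ := cycleType_prime_order (hf ▸ Nat.prime_three)
      have := sum_cycleType_le f.1
      rw [hm, hf] at this
      obtain rfl : m = 0 := by simp at this; omega
      exact no f f.2 (hm.trans (by rw [hf]; rfl))
    have := Nat.pow_le_pow_right two_pos e
    obtain ⟨w, g1⟩ := exists_good (by omega) hH
    obtain ⟨o, ho⟩ := exists_fixed_point_of_prime (p := 2) (n := 1) (σ := w) (by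
      rw [hn, Nat.dvd_add_right (dvd_pow_self 2 (by omega))]; omega) (Equiv.ext g1.inv)
    refine ⟨o, fun g hg => ?_⟩
    have g2 : Good H (g * w * g⁻¹) := g1.conj fun x hx => mul_mem (mul_mem hg (g1.le hx)) (inv_mem hg)
    have e1 := congrArg (g * w * g⁻¹) (k2 g1 g2 no o)
    rw [g2.inv, ho] at e1
    exact g2.uniq _ _ (by simp [ho]) (g1.uniq _ _ e1 ho)
  push Not at no
  obtain ⟨t, t1, t2⟩ := no
  obtain ⟨a, ha, b, hb, e⟩ := one_lt_card.1 (show 1 < #t.support by rw [t2.card_support]; omega)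
  have t3 : ∀ a ∈ t.support, t.support ⊆ cls H a := fun a ha b hb => mem_cls.2 (R.of_three t2 t1 ha hb)
  have hK := le_normalizer.trans (norm_le_stab (H := H))
  obtain ⟨f, f1, f2, f3⟩ := cyc hk hn hH hK e (fixU_le_stab a (by
    rw [mem_fixU, support_swap e]; exact insert_subset (t3 a ha ha) (singleton_subset_iff.2 (t3 a ha hb))))
  obtain ⟨o, ho⟩ := card_eq_one.1 f3
  have e1 : ∀ x, x ∈ f.support ↔ x ≠ o := fun x => by rw [Ne, ← Finset.mem_singleton, ← ho]; simp
  have e2 : #(cls H o) = 1 := (card_cls o).resolve_right fun e2 => h fun g hg => mem_of_cls (o := o) hg fun x _ => by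
    obtain ⟨c, c1, c2⟩ := exists_mem_ne (show 1 < #(cls H o) by omega) o
    by_cases e3 : x = o
    · exact e3 ▸ self_mem_cls _
    refine cyc_ind f2 ((e1 c).2 c2) c1 (fun z _ hz => ?_) x ((e1 x).2 e3)
    rw [← notMem_support.1 (mt (e1 o).1 (by simp)), cls_smul f1]
    exact smul_mem_smul_finset hz
  have e3 := inv_set hk hn hH (U := {x | 3 ≤ #(cls H x)}) (fun g hg x hx => by simpa [cls_smul (hK hg)] using hx)
    (one_lt_card.2 ⟨a, by simpa [t2.card_support] using card_le_card (t3 a ha), b,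
      by simpa [t2.card_support] using card_le_card (t3 b hb), e⟩)
  exact ⟨o, fun g hg => card_le_one.1 e3 (g o) (by simp [cls_smul (hK hg), e2]) o (by simp [e2])⟩

end

theorem um {G : Type*} [Group G] [Finite G] (R : Subgroup G) : (∃! M, IsCoatom M ∧ R ≤ M) ↔
    ∃ M, M ≠ ⊤ ∧ R ≤ M ∧ ∀ K, R ≤ K → K ≠ ⊤ → K ≤ M :=
  ⟨fun ⟨M, ⟨h1, h2⟩, h3⟩ => ⟨M, h1.1, h2, fun K h h' =>
    let ⟨L, h5, h6⟩ := (eq_top_or_exists_le_coatom K).resolve_left h'
    h3 L ⟨h5, h.trans h6⟩ ▸ h6⟩, fun ⟨M, h1, h2, h3⟩ => ⟨M, ⟨⟨h1, fun K h => by_contra fun e =>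
      h.not_ge (h3 K (h2.trans h.le) e)⟩, h2⟩, fun K h => ((h.1.le_iff.1 (h3 K h.2 h.1.1)).resolve_left h1).symm⟩⟩

theorem um_iff (hn : 5 ≤ Fintype.card α) {G : Type*} [Group G] [Finite G] (φ : G →* Perm α) (hφ : Function.Injective φ)
    (h0 : alternatingGroup α ≤ φ.range) (R : Subgroup G) (h1 : IsPGroup 2 R)
    (h2 : ¬ 2 ∣ (R.map φ).relIndex (alternatingGroup α))
    (h3 : ∀ K, R.map φ ≤ K → alternatingGroup α ≤ K → φ.range ≤ K) :
    (∃! M, IsCoatom M ∧ R ≤ M) ↔ ∃ k, 2 ≤ k ∧ Fintype.card α = 2 ^ k + 1 := by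
  have h4 : ∀ K, R ≤ K → (alternatingGroup α ≤ K.map φ ↔ K = ⊤) := fun K h => ⟨fun e => map_injective hφ
    ((map_le_range _ _).antisymm (h3 _ (map_mono h) e) |>.trans φ.range_eq_map), fun e => e ▸ φ.range_eq_map ▸ h0⟩
  rw [um]
  constructor
  · rintro ⟨M, m1, m2, m3⟩
    rcases hn.eq_or_lt with e | e
    · exact ⟨2, le_rfl, e.symm⟩
    obtain ⟨k, hk⟩ := two_minimal (M := M.map φ) e (h1.map φ) (mt (h4 M m2).1 m1) fun K h h' g hg => by
      obtain ⟨x, rfl⟩ := h0 hg.2
      exact mem_map_of_mem _ (m3 _ (map_le_iff_le_comap.1 h) (fun e => h' fun y hy => by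
        obtain ⟨y, rfl⟩ := h0 hy
        exact e.ge trivial) hg.1)
    exact ⟨k, by rcases k with _ | _ | k <;> omega, hk⟩
  rintro ⟨k, hk, e⟩
  have key : ∀ K, R ≤ K → K ≠ ⊤ → ∃ o : α, K.map φ ≤ stabilizer _ o := fun K h h' =>
    fix_pt hk e (fun d => h2 (d.trans (relIndex_dvd_of_le_left _ (map_mono h)))) (mt (h4 K h).1 h')
  have no : ∀ o : α, ¬ alternatingGroup α ≤ stabilizer _ o := fun o h => by
    obtain ⟨f, f1, f2, -⟩ := exists_three (Δ := univ) (by rw [card_univ]; omega) (mem_univ o)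
    exact mem_support.1 f2 (h f1.mem_alternatingGroup)
  obtain ⟨o, ho⟩ := fix_pt hk e h2 fun h => h2 (by
    obtain ⟨f, f1, -⟩ := exists_three (Δ := univ) (by rw [card_univ]; omega) (mem_univ (Fintype.card_pos_iff.1
      (show 0 < Fintype.card α by omega)).some)
    obtain ⟨j, hj⟩ := h1.map φ ⟨f, h f1.mem_alternatingGroup⟩
    have := orderOf_dvd_of_pow_eq_one (congrArg Subtype.val hj)
    rw [show orderOf _ = 3 from f1.orderOf] at this
    exact absurd (Nat.prime_three.dvd_of_dvd_pow this) (by omega))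
  refine ⟨(stabilizer _ o).comap φ, fun d => no o (h0.trans ?_), map_le_iff_le_comap.1 ho, fun K h h' => ?_⟩
  · rintro _ ⟨x, rfl⟩
    exact d.ge trivial
  obtain ⟨o', ho'⟩ := key K h h'
  exact map_le_iff_le_comap.1 (fix_uniq hk e h2 ho ((map_mono h).trans ho') ▸ ho')

end H24.Sy
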