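import Mathlib

/-!
# Jacobi–Trudi and contingency tables (namespace `H24.Sym`)

* `mon`, `cf` monomials and coefficients, `hh n k` complete symmetric polynomials, `tab α β` number of tables with
  margins `α, β`, `cf_prod_hh`
* `alt l` alternants, `JT l` the Jacobi–Trudi determinant, `jacobi_trudi`, `orth` (orthonormality)
-/

set_option autoImplicit false

open MvPolynomial Finset Equiv

namespace H24.Sym

variable {n : ℕ}

/-- monomial with exponent vector `d` -/
noncomputable def mon (d : Fin n → ℕ) : MvPolynomial (Fin n) ℤ := monomial (Finsupp.equivFunOnFinite.symm d) 1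

/-- coefficient at the exponent vector `d` -/
noncomputable def cf (d : Fin n → ℕ) : MvPolynomial (Fin n) ℤ →+ ℤ := coeffAddMonoidHom (Finsupp.equivFunOnFinite.symm d)

theorem mon_eq (d : Fin n → ℕ) : mon d = ∏ i, X i ^ d i := by
  rw [mon, monomial_eq, Finsupp.prod_fintype _ _ (by simp)]; simp

theorem mon_sum {ι : Type*} (s : Finset ι) (d : ι → Fin n → ℕ) : mon (∑ j ∈ s, d j) = ∏ j ∈ s, mon (d j) := by
  simp only [mon_eq, Finset.sum_apply, ← prod_pow_eq_pow_sum]; exact prod_comm

theorem cf_mon (d e : Fin n → ℕ) : cf d (mon e) = if e = d then 1 else 0 := by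
  simp [cf, mon, coeff_monomial]

theorem cf_mon_mul (d e : Fin n → ℕ) (p : MvPolynomial (Fin n) ℤ) :
    cf d (mon e * p) = if ∀ i, e i ≤ d i then cf (fun i => d i - e i) p else 0 := by
  simp only [cf, mon, coeffAddMonoidHom_apply, coeff_monomial_mul', one_mul, Finsupp.le_def,
    Finsupp.equivFunOnFinite_symm_apply_apply]
  congr 2
  ext; simp

variable (n) in
/-- complete homogeneous symmetric polynomial -/
noncomputable def hh (k : ℕ) : MvPolynomial (Fin n) ℤ := ∑ l ∈ piAntidiag univ k, mon l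

theorem hh_zero : hh n 0 = 1 := by simp [hh, mon_eq]

/-- the number of tables with margins `α`, `β` -/
noncomputable def tab {m : ℕ} (α : Fin n → ℕ) (β : Fin m → ℕ) : ℕ :=
  Nat.card {t : Fin m → Fin n → ℕ // ∑ j, t j = α ∧ ∀ j, ∑ i, t j i = β j}

theorem cf_prod_hh {m : ℕ} (α : Fin n → ℕ) (β : Fin m → ℕ) : cf α (∏ j, hh n (β j)) = tab α β := by
  simp only [hh, prod_univ_sum, ← mon_sum, map_sum, cf_mon]
  rw [sum_boole, tab]
  congr 1
  exact (Nat.subtype_card _ fun t => by simp [and_comm]).symm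

theorem coeff_gen (k : ℕ) :
    PowerSeries.coeff k (∏ i : Fin n, PowerSeries.mk fun m => (X i : MvPolynomial (Fin n) ℤ) ^ m) = hh n k := by
  rw [PowerSeries.coeff_prod, hh]
  refine sum_nbij' (fun l => l) Finsupp.equivFunOnFinite.symm ?_ ?_ ?_ ?_ ?_ <;> simp [mon_eq]

theorem exists_dual : ∃ e : Matrix (Fin n) (Fin n) (MvPolynomial (Fin n) ℤ), ∀ (a : ℕ) (j : Fin n),
    (X j : MvPolynomial (Fin n) ℤ) ^ a = ∑ k : Fin n, (if k.val ≤ a then hh n (a - k) else 0) * e k j := by
  let E : Fin n → Polynomial (MvPolynomial (Fin n) ℤ) := fun j =>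
    ∏ i ∈ univ.erase j, (1 - Polynomial.C (X i) * Polynomial.X)
  have hE : ∀ j, (E j).natDegree < n := fun j => by
    refine (Polynomial.natDegree_prod_le _ _).trans_lt ((sum_le_card_nsmul _ _ 1 fun i _ => by compute_degree).trans_lt ?_)
    have := j.pos
    simp; omega
  have h1 : ∀ x : MvPolynomial (Fin n) ℤ,
      (1 - PowerSeries.C x * PowerSeries.X) * (PowerSeries.mk fun m => x ^ m) = 1 := fun x => by
    ext (_ | m)
    · simp
    · simp [sub_mul, mul_assoc, PowerSeries.coeff_succ_X_mul, pow_succ', PowerSeries.coeff_one]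
  refine ⟨fun k j => (E j).coeff k, fun a j => ?_⟩
  have h2 : (E j : PowerSeries (MvPolynomial (Fin n) ℤ)) * ∏ i : Fin n, (PowerSeries.mk fun m => X i ^ m) =
      PowerSeries.mk fun m => X j ^ m := by
    rw [← mul_prod_erase _ _ (mem_univ j), mul_left_comm, ← Polynomial.coeToPowerSeries.ringHom_apply, map_prod,
      ← prod_mul_distrib, prod_eq_one fun i _ => by simpa using h1 (X i), mul_one]
  have h3 := congrArg (PowerSeries.coeff a) h2
  rw [PowerSeries.coeff_mk, PowerSeries.coeff_mul, Nat.sum_antidiagonal_eq_sum_range_succ_mk] at h3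
  simp only [coeff_gen, Polynomial.coeff_coe] at h3
  rw [← h3, Fin.sum_univ_eq_sum_range (fun k => (if k ≤ a then hh n (a - k) else 0) * (E j).coeff k)]
  have h4 : ∀ N, a + 1 ≤ N → ∑ k ∈ range N, (if k ≤ a then hh n (a - k) else 0) * (E j).coeff k =
      ∑ k ∈ range (a + 1), (E j).coeff k * hh n (a - k) := fun N hN => by
    rw [← sum_subset (range_subset_range.2 hN) fun k _ hk => by rw [if_neg (by simpa using hk), zero_mul]]
    exact sum_congr rfl fun k hk => by rw [if_pos (by simpa [Nat.lt_succ_iff] using hk), mul_comm]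
  rw [← h4 (n + (a + 1)) (by omega)]
  refine (sum_subset (range_subset_range.2 (Nat.le_add_right n (a + 1))) fun k _ hk => ?_).symm
  rw [Polynomial.coeff_eq_zero_of_natDegree_lt ((hE j).trans_le (by simpa using hk)), mul_zero]

/-- alternant -/
noncomputable def alt (l : Fin n → ℕ) : MvPolynomial (Fin n) ℤ := (Matrix.of fun i j => (X j : MvPolynomial _ ℤ) ^ l i).det

theorem alt_eq (l : Fin n → ℕ) : alt l = ∑ σ : Perm (Fin n), (Perm.sign σ : ℤ) • mon (l ∘ σ) := by
  simp [alt, Matrix.det_apply, mon_eq, Units.smul_def]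

/-- Jacobi–Trudi determinant -/
noncomputable def JT (l : Fin n → ℕ) : MvPolynomial (Fin n) ℤ :=
  ∑ κ : Perm (Fin n), if ∀ i, (κ i).val ≤ l i then (Perm.sign κ : ℤ) • ∏ i, hh n (l i - κ i) else 0

theorem JT_eq (l : Fin n → ℕ) :
    JT l = (Matrix.of fun i (k : Fin n) => if k.val ≤ l i then hh n (l i - k) else 0).det := by
  rw [← Matrix.det_transpose]
  simp [JT, Matrix.det_apply, Units.smul_def, prod_ite_zero]

theorem jacobi_trudi (l : Fin n → ℕ) : alt Fin.val * JT l = alt l := by
  obtain ⟨e, he⟩ := exists_dual (n := n)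
  have h : ∀ l : Fin n → ℕ, alt l = JT l * e.det := fun l => by
    rw [JT_eq, ← Matrix.det_mul, alt]; congr 1; ext i j : 2; simp [Matrix.mul_apply, he]
  have h1 : JT (Fin.val : Fin n → ℕ) = 1 := by
    rw [JT_eq]
    refine (Matrix.det_of_isLowerTriangular _ fun i j h => if_neg (not_le.2 h)).trans ?_
    exact prod_eq_one fun i _ => (if_pos le_rfl).trans (by rw [Nat.sub_self, hh_zero])
  rw [h, h1, h l, one_mul, mul_comm]

theorem cf_alt_mul (l : Fin n → ℕ) (p : MvPolynomial (Fin n) ℤ) : cf l (alt Fin.val * p) =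
    ∑ κ : Perm (Fin n), if ∀ i, (κ i).val ≤ l i then (Perm.sign κ : ℤ) * cf (fun i => l i - κ i) p else 0 := by
  simp only [alt_eq, sum_mul, map_sum, smul_mul_assoc, map_zsmul, cf_mon_mul, Function.comp_apply, smul_eq_mul,
    mul_ite, mul_zero]

theorem cf_alt {l l' : Fin n → ℕ} (h : StrictMono l) (h' : StrictMono l') : cf l (alt l') = if l = l' then 1 else 0 := by
  rw [alt_eq, map_sum, sum_eq_single 1 (fun σ _ hσ => ?_) (by simp)]
  · simp [cf_mon, eq_comm]
  · rw [map_zsmul, cf_mon, if_neg, smul_zero]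
    rintro rfl
    have h1 : StrictMono σ := fun a b hab => h'.lt_iff_lt.1 (h hab)
    exact hσ (Equiv.ext fun i => le_antisymm (h1.apply_le) (h1.le_apply))

theorem orth {l l' : Fin n → ℕ} (h : StrictMono l) (h' : StrictMono l') :
    ∑ κ : Perm (Fin n), ∑ κ' : Perm (Fin n), (if (∀ i, (κ i).val ≤ l i) ∧ ∀ i, (κ' i).val ≤ l' i then
      (Perm.sign κ : ℤ) * Perm.sign κ' * tab (fun i => l i - κ i) (fun i => l' i - κ' i) else 0) =
      if l = l' then 1 else 0 := by
  rw [← cf_alt h h', ← jacobi_trudi, cf_alt_mul]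
  refine sum_congr rfl fun κ _ => ?_
  by_cases hκ : ∀ i, (κ i).val ≤ l i
  · simp only [hκ, JT, map_sum, mul_sum, implies_true, true_and, if_true]
    refine sum_congr rfl fun κ' _ => ?_
    split_ifs
    · rw [map_zsmul, cf_prod_hh, smul_eq_mul, mul_assoc]
    · simp
  · simp [hκ]

end H24.Sym
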