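import Cfsg.Agent.H24.Sym1
import Cfsg.Agent.H24.Sim3
import Cfsg.Prelude.Def_LinearParabolics

/-!
# Bruhat decomposition of `GL_n`, double cosets of parabolic and Young subgroups (namespace `H24.Sym`)

* `inner_fpc` (inner product of two permutation characters = number of values of a double coset invariant)
* `pm` permutation matrices, `bruhat`, `Par a`, `Yg a`, `tb` (tables), `inner_par`, `inner_yg`
* `lab` (block labels of a composition), `card_lab`, `card_Par`
-/

set_option autoImplicit false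

open Finset Equiv Matrix Cfsg

namespace H24.Sym

theorem inner_fpc {G ι τ : Type*} [Group G] [Fintype G] (H K : Subgroup G) (w : ι → G) (T : ι → τ)
    (hcov : ∀ g, ∃ i, ∃ h ∈ H, ∃ k ∈ K, g = h * w i * k)
    (hT : ∀ i j, T i = T j ↔ ∃ h ∈ H, ∃ k ∈ K, w i = h * w j * k) :
    (Nat.card G : ℂ)⁻¹ * ∑ g, fixedPointCharacter H g * fixedPointCharacter K g = Nat.card (Set.range T) := by
  classical
  have h1 := MulAction.sum_card_fixedBy_eq_card_orbits_mul_card_group G ((G ⧸ H) × (G ⧸ K))
  have h2 : ∀ g : G, Fintype.card (MulAction.fixedBy ((G ⧸ H) × (G ⧸ K)) g) =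
      Nat.card (MulAction.fixedBy (G ⧸ H) g) * Nat.card (MulAction.fixedBy (G ⧸ K) g) := fun g => by
    rw [← Nat.card_prod, ← Nat.card_eq_fintype_card]
    exact Nat.card_congr ((Equiv.subtypeEquivRight fun x => by simp [Prod.ext_iff]).trans (Equiv.subtypeProdEquivProd))
  have h3 : Nat.card (Quotient (MulAction.orbitRel G ((G ⧸ H) × (G ⧸ K)))) = Nat.card (Set.range T) := by
    refine Sim.card_eq_of_ker (φ := fun i => Quotient.mk _ (((1 : G) : G ⧸ H), (w i : G ⧸ K)))
      (ψ := Set.rangeFactorization T) ?_ Set.rangeFactorization_surjective fun i j => ?_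
    · rintro ⟨⟨x⟩, ⟨y⟩⟩
      obtain ⟨i, h, hh, k, hk, e⟩ := hcov (x⁻¹ * y)
      refine ⟨i, Eq.symm (Quotient.sound (MulAction.orbitRel_apply.2 ⟨x * h, Prod.ext ?_ ?_⟩))⟩
      · exact QuotientGroup.eq.2 (by simpa using hh)
      · exact QuotientGroup.eq.2 (by rw [inv_mul_eq_iff_eq_mul.1 e]; simpa [mul_assoc] using hk)
    · rw [Subtype.ext_iff, Set.rangeFactorization_coe, Set.rangeFactorization_coe, hT, Quotient.eq]
      constructor
      · rintro ⟨h, hh⟩
        have h1 := QuotientGroup.eq.1 (congrArg Prod.fst hh)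
        exact ⟨h, by simpa using h1, _, QuotientGroup.eq.1 (congrArg Prod.snd hh), by simp [mul_assoc]⟩
      · rintro ⟨h, hh, k, hk, e⟩
        exact ⟨h, Prod.ext (QuotientGroup.eq.2 (by simpa using hh)) (QuotientGroup.eq.2 (by rw [e]; simpa [mul_assoc] using hk))⟩
  simp only [h2] at h1
  rw [← h3, inv_mul_eq_iff_eq_mul₀ (by simp), mul_comm, Nat.card_eq_fintype_card, Nat.card_eq_fintype_card,
    ← Nat.cast_mul, ← h1]
  simp [fixedPointCharacter]

variable {n : ℕ} {F : Type*} [Field F] {A B : Type*}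

variable (F) in
/-- permutation matrices -/
noncomputable def pm : Perm (Fin n) →* GL (Fin n) F := (permMatrixHom (R := F)).toHomUnits

theorem pm_apply (σ : Perm (Fin n)) (i k : Fin n) : (pm F σ).1 i k = if i = σ k then 1 else 0 := by
  simp [pm, PEquiv.toMatrix_apply, toPEquiv_apply, Equiv.symm_apply_eq]

theorem mul_pm (M : Matrix (Fin n) (Fin n) F) (σ : Perm (Fin n)) (i k : Fin n) : (M * (pm F σ).1) i k = M i (σ k) := by
  simp [mul_apply, pm_apply]

variable (F) in
/-- block triangular invertible matrices -/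
def Par [LinearOrder A] (a : Fin n → A) : Subgroup (GL (Fin n) F) where
  carrier := {g | (g : Matrix (Fin n) (Fin n) F).BlockTriangular a}
  mul_mem' ha hb := BlockTriangular.mul ha hb
  one_mem' := blockTriangular_one
  inv_mem' {g} ha := by
    change ((g⁻¹ : GL (Fin n) F) : Matrix (Fin n) (Fin n) F).BlockTriangular a
    have : Invertible (g : Matrix (Fin n) (Fin n) F) := g.invertible
    rw [coe_units_inv]
    exact blockTriangular_inv_of_blockTriangular ha

/-- label preserving permutations -/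
def Yg (a : Fin n → A) : Subgroup (Perm (Fin n)) where
  carrier := {σ | ∀ i, a (σ i) = a i}
  mul_mem' ha hb i := (ha _).trans (hb i)
  one_mem' _ := rfl
  inv_mem' {σ} ha i := by simpa using (ha (σ⁻¹ i)).symm

theorem bruhat (g : GL (Fin n) F) : ∃ σ, ∃ b ∈ Par F id, ∃ b' ∈ Par F id, g = b * pm F σ * b' := by
  classical
  obtain ⟨⟨u, r⟩, ⟨hu, hr⟩, hmin⟩ := (measure fun p : GL (Fin n) F × (Fin n → ℕ) => ∑ k, p.2 k).wf.has_min
    {p | p.1 ∈ Par F id ∧ ∀ k (i : Fin n), p.2 k ≤ i → (g * p.1).1 i k = 0}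
    ⟨(1, fun _ => n), one_mem _, fun k i h => absurd i.2 (not_lt.2 h)⟩
  have key : ∀ v ∈ Par F id, ∀ l m, m + 1 = r l → (∀ k, k ≠ l → ∀ i, (g * v).1 i k = (g * u).1 i k) →
      ¬ ∀ i : Fin n, m ≤ i → (g * v).1 i l = 0 := fun v hv l m hm h1 h2 => by
    refine hmin (v, Function.update r l m) ⟨hv, fun k i hi => ?_⟩
      (show ∑ k, Function.update r l m k < ∑ k, r k from sum_lt_sum (fun k _ => ?_) ⟨l, mem_univ _, ?_⟩)
    · by_cases hk : k = l
      · subst hk; exact h2 i (by simpa using hi)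
      · rw [h1 k hk]; exact hr k i (by simpa [hk] using hi)
    · by_cases hk : k = l
      · subst hk; simp; omega
      · simp [hk]
    · simp; omega
  have hσ : ∀ k, ∃ i : Fin n, i.val + 1 = r k ∧ (g * u).1 i k ≠ 0 := fun k => by
    rcases hk : r k with _ | m
    · exact absurd (det_eq_zero_of_column_eq_zero k fun i => hr k i (by simp [hk])) (g * u).det_ne_zero
    · by_contra! h
      refine key u hu k m hk.symm (fun _ _ _ => rfl) fun i hi => ?_
      rcases hi.eq_or_lt with hi | hi
      · exact h i (by omega)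
      · exact hr k i (by simp only; omega)
  choose σ h1 h2 using hσ
  have hlt : ∀ k l, k < l → σ k ≠ σ l := fun k l hkl e => by
    let t : GL (Fin n) F := GeneralLinearGroup.mkOfDetNeZero (transvection k l (-(g * u).1 (σ l) l / (g * u).1 (σ k) k))
      (by rw [det_transvection_of_ne _ _ hkl.ne]; exact one_ne_zero)
    have ht : (g * (u * t)).1 = (g * u).1 * transvection k l (-(g * u).1 (σ l) l / (g * u).1 (σ k) k) := by
      rw [← mul_assoc]; rfl
    refine key (u * t) (mul_mem hu (blockTriangular_transvection hkl.le _)) l (σ l) (h1 l)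
      (fun j hj i => by rw [ht, mul_transvection_apply_of_ne _ _ _ _ hj]) fun i hi => ?_
    rw [ht, mul_transvection_apply_same]
    rcases hi.eq_or_lt with hi | hi
    · have := h2 k
      rw [← Fin.ext hi, ← e]; field_simp; simp
    · rw [hr l i (by have := h1 l; simp only; omega), hr k i (by have := h1 k; simp only; rw [e] at this; omega)]; simp
  have hinj : Function.Injective σ := fun k l e => by
    by_contra h
    rcases lt_or_gt_of_ne h with h | h
    exacts [hlt k l h e, hlt l k h e.symm]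
  let τ := Equiv.ofBijective σ (Finite.injective_iff_bijective.1 hinj)
  refine ⟨τ, g * u * pm F τ⁻¹, fun i j hij => ?_, u⁻¹, inv_mem hu, by simp⟩
  obtain ⟨k, rfl⟩ := τ.surjective j
  rw [Units.val_mul, mul_pm, show τ⁻¹ (τ k) = k by simp]
  exact hr k i (by have := h1 k; simp only; exact this ▸ hij)

theorem exists_equiv_fib {X Y Z : Type*} [Fintype X] [Fintype Y] [DecidableEq Z] (f : X → Z) (g : Y → Z)
    (h : ∀ z, #{x | f x = z} = #{y | g y = z}) : ∃ e : X ≃ Y, ∀ x, g (e x) = f x :=
  ⟨Equiv.ofFiberEquiv fun z => Fintype.equivOfCardEq (by simpa [Fintype.card_subtype] using h z),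
    Equiv.ofFiberEquiv_map _⟩

/-- the table of a permutation -/
def tb [DecidableEq A] [DecidableEq B] (a : Fin n → A) (b : Fin n → B) (σ : Perm (Fin n)) (j : B) (s : A) : ℕ :=
  #{k | b k = j ∧ a (σ k) = s}

theorem tb_iff [DecidableEq A] [DecidableEq B] (a : Fin n → A) (b : Fin n → B) (σ τ : Perm (Fin n)) :
    tb a b σ = tb a b τ ↔ ∃ y ∈ Yg a, ∃ z ∈ Yg b, σ = y * τ * z := by
  constructor
  · intro h
    obtain ⟨z, hz⟩ := exists_equiv_fib (fun k => (b k, a (σ k))) (fun k => (b k, a (τ k))) fun p => by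
      simpa [tb, Prod.ext_iff] using congrFun (congrFun h p.1) p.2
    refine ⟨σ * z⁻¹ * τ⁻¹, fun i => ?_, z, fun k => congrArg Prod.fst (hz k), by group⟩
    simpa using (congrArg Prod.snd (hz (z⁻¹ (τ⁻¹ i)))).symm
  · rintro ⟨y, hy, z, hz, rfl⟩
    ext j s
    exact card_bij' (fun k _ => z k) (fun k _ => z⁻¹ k) (fun k => by simp [hy _, hz k])
      (fun k => by have := hz (z⁻¹ k); simp at this; simp [hy _, ← this]) (by simp) (by simp)

theorem range_tb [DecidableEq A] [DecidableEq B] [Fintype A] [Fintype B] (a : Fin n → A) (b : Fin n → B) :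
    Set.range (tb a b) = {t | (∑ j, t j = fun s => #{i | a i = s}) ∧ ∀ j, ∑ s, t j s = #{k | b k = j}} := by
  ext t
  constructor
  · rintro ⟨σ, rfl⟩
    refine ⟨funext fun s => ?_, fun j => ?_⟩
    · rw [Finset.sum_apply, ← card_bijective σ σ.bijective (s := {k | a (σ k) = s}) (by simp),
        card_eq_sum_card_fiberwise (f := b) (t := univ) (by simp)]
      simp [tb, filter_filter, and_comm]
    · rw [card_eq_sum_card_fiberwise (f := fun k => a (σ k)) (t := univ) (by simp)]
      simp [tb, filter_filter]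
  · rintro ⟨h1, h2⟩
    obtain ⟨e1, he1⟩ := exists_equiv_fib (fun x : Σ p : B × A, Fin (t p.1 p.2) => x.1.1) b fun j => by
      rw [← h2, card_filter, Fintype.sum_sigma, Fintype.sum_prod_type]; simp [apply_ite card, sum_ite_irrel]
    obtain ⟨e2, he2⟩ := exists_equiv_fib (fun x : Σ p : B × A, Fin (t p.1 p.2) => x.1.2) a fun s => by
      rw [← congrFun h1 s, card_filter, Fintype.sum_sigma, Fintype.sum_prod_type]; simp [apply_ite card, sum_ite_irrel]
    refine ⟨e1.symm.trans e2, funext fun j => funext fun s => ?_⟩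
    rw [tb, ← card_bijective e1 e1.bijective (s := {x | x.1 = (j, s)}) (by simp [he1, he2, Prod.ext_iff]), card_filter,
      Fintype.sum_sigma]
    simp [apply_ite card]

section
variable [LinearOrder A] [LinearOrder B]

theorem pm_mem {a : Fin n → A} {y : Perm (Fin n)} (hy : y ∈ Yg a) : pm F y ∈ Par F a := fun i k h => by
  rw [pm_apply, if_neg]
  rintro rfl
  exact h.ne (hy k).symm

theorem rank_le (a : Fin n → A) (b : Fin n → B) (P : A → Prop) (Q : B → Prop) [DecidablePred P] [DecidablePred Q]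
    (hP : ∀ x y, x ≤ y → P x → P y) (hQ : ∀ x y, x ≤ y → Q y → Q x) (g : GL (Fin n) F) {p q : GL (Fin n) F}
    (hp : p ∈ Par F a) (hq : q ∈ Par F b) :
    (diagonal (fun i => if P (a i) then (1 : F) else 0) * (p * g * q).1 *
      diagonal (fun k => if Q (b k) then (1 : F) else 0)).rank ≤
    (diagonal (fun i => if P (a i) then (1 : F) else 0) * g.1 * diagonal (fun k => if Q (b k) then (1 : F) else 0)).rank := by
  set D := diagonal (fun i => if P (a i) then (1 : F) else 0)
  set E := diagonal (fun k => if Q (b k) then (1 : F) else 0)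
  have h1 : D * p.1 = D * p.1 * D := by
    ext i k
    simp only [D, diagonal_mul, mul_diagonal]
    split_ifs with h h' <;> simp
    exact hp (not_le.1 fun e => h' (hP _ _ e h))
  have h2 : q.1 * E = E * (q.1 * E) := by
    ext i k
    simp only [E, diagonal_mul, mul_diagonal]
    split_ifs with h h' <;> simp
    exact hq (not_le.1 fun e => h' (hQ _ _ e h))
  have : D * (p * g * q).1 * E = D * p.1 * (D * g.1 * E) * (q.1 * E) := by
    calc _ = D * p.1 * g.1 * (q.1 * E) := by simp only [Units.val_mul, Matrix.mul_assoc]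
      _ = D * p.1 * D * g.1 * (E * (q.1 * E)) := by rw [← h1, ← h2]
      _ = _ := by simp only [Matrix.mul_assoc]
  rw [this]
  exact (rank_mul_le_left _ _).trans (rank_mul_le_right _ _)

theorem rank_pm (a : Fin n → A) (b : Fin n → B) (P : A → Prop) (Q : B → Prop) [DecidablePred P] [DecidablePred Q]
    (σ : Perm (Fin n)) : (diagonal (fun i => if P (a i) then (1 : F) else 0) * (pm F σ).1 *
      diagonal (fun k => if Q (b k) then (1 : F) else 0)).rank = #{k | Q (b k) ∧ P (a (σ k))} := by
  classical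
  have : diagonal (fun i => if P (a i) then (1 : F) else 0) * (pm F σ).1 * diagonal (fun k => if Q (b k) then (1 : F) else 0) =
      (pm F σ).1 * diagonal fun k => if Q (b k) ∧ P (a (σ k)) then 1 else 0 := by
    ext i k
    simp only [diagonal_mul, mul_diagonal, pm_apply]
    split_ifs <;> simp_all
  rw [this, rank_mul_eq_right_of_isUnit_det _ _ (pm F σ).det_ne_zero.isUnit, rank_diagonal, Fintype.card_subtype]
  simp

theorem tb_iff_par (a : Fin n → A) (b : Fin n → B) (σ τ : Perm (Fin n)) :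
    tb a b σ = tb a b τ ↔ ∃ p ∈ Par F a, ∃ q ∈ Par F b, pm F σ = p * pm F τ * q := by
  constructor
  · intro h
    obtain ⟨y, hy, z, hz, rfl⟩ := (tb_iff a b σ τ).1 h
    exact ⟨_, pm_mem hy, _, pm_mem hz, by simp⟩
  rintro ⟨p, hp, q, hq, e⟩
  have h : ∀ (P : A → Prop) (Q : B → Prop) [DecidablePred P] [DecidablePred Q], (∀ x y, x ≤ y → P x → P y) →
      (∀ x y, x ≤ y → Q y → Q x) → #{k | Q (b k) ∧ P (a (σ k))} = #{k | Q (b k) ∧ P (a (τ k))} := fun P Q _ _ hP hQ => by
    rw [← rank_pm (F := F), ← rank_pm (F := F)]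
    refine le_antisymm (e ▸ rank_le a b P Q hP hQ _ hp hq) ?_
    rw [show pm F τ = p⁻¹ * pm F σ * q⁻¹ by rw [e]; group]
    exact rank_le a b P Q hP hQ _ (inv_mem hp) (inv_mem hq)
  ext j s
  have h0 : ∀ σ : Perm (Fin n), tb a b σ j s + #{k | b k < j ∧ s ≤ a (σ k)} + #{k | b k ≤ j ∧ s < a (σ k)} =
      #{k | b k ≤ j ∧ s ≤ a (σ k)} + #{k | b k < j ∧ s < a (σ k)} := fun σ => by
    simp only [tb, card_filter, ← sum_add_distrib]
    refine sum_congr rfl fun k _ => ?_
    simp only [le_iff_lt_or_eq, eq_comm (a := s)]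
    have h1 : ¬ (b k < j ∧ b k = j) := fun h => h.1.ne h.2
    have h2 : ¬ (s < a (σ k) ∧ a (σ k) = s) := fun h => h.1.ne' h.2
    by_cases h : b k < j <;> by_cases h' : b k = j <;> by_cases e : s < a (σ k) <;> by_cases e' : a (σ k) = s <;>
      simp_all
  have h1 := h (s ≤ ·) (· < j) (fun _ _ h h' => h'.trans h) fun _ _ => LE.le.trans_lt
  have h2 := h (s < ·) (· ≤ j) (fun _ _ h h' => h'.trans_le h) fun _ _ => LE.le.trans
  have h3 := h (s ≤ ·) (· ≤ j) (fun _ _ h h' => h'.trans h) fun _ _ => LE.le.trans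
  have h4 := h (s < ·) (· < j) (fun _ _ h h' => h'.trans_le h) fun _ _ => LE.le.trans_lt
  have h5 := h0 σ
  have h6 := h0 τ
  omega

theorem inner_par [Fintype (GL (Fin n) F)] {a : Fin n → A} {b : Fin n → B} (ha : Monotone a) (hb : Monotone b) :
    (Nat.card (GL (Fin n) F) : ℂ)⁻¹ * ∑ g, fixedPointCharacter (Par F a) g * fixedPointCharacter (Par F b) g =
      Nat.card (Set.range (tb a b)) :=
  inner_fpc _ _ (pm F) _ (fun g => by
    obtain ⟨σ, p, hp, q, hq, e⟩ := bruhat g
    exact ⟨σ, p, fun i j h => hp (ha.reflect_lt h), q, fun i j h => hq (hb.reflect_lt h), e⟩) (tb_iff_par a b)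

theorem card_Par [Fintype A] [Fintype F] (a : Fin n → A) : Nat.card (Par F a) =
    Fintype.card F ^ #{p : Fin n × Fin n | a p.1 < a p.2} * ∏ s, Nat.card (GL {i // a i = s} F) := by
  have hd : ∀ g : Par F a, ∀ s, (g.1.1.toSquareBlock a s).det ≠ 0 := fun g s => by
    have := g.1.det_ne_zero
    rw [BlockTriangular.det_fintype g.2] at this
    exact prod_ne_zero_iff.1 this s (mem_univ _)
  rw [← Fintype.card_subtype, ← Fintype.card_fun, ← Nat.card_pi, ← Nat.card_eq_fintype_card, ← Nat.card_prod]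
  refine Nat.card_eq_of_bijective (fun g => (fun p => g.1.1 p.1.1 p.1.2,
    fun s => GeneralLinearGroup.mkOfDetNeZero _ (hd g s))) ⟨fun g h e => ?_, fun ⟨u, d⟩ => ?_⟩
  · ext i j
    rcases lt_trichotomy (a i) (a j) with h1 | h1 | h1
    · exact congrFun (congrArg Prod.fst e) ⟨(i, j), h1⟩
    · exact congrArg (fun x : GL {k // a k = a j} F => x.1 ⟨i, h1⟩ ⟨j, rfl⟩) (congrFun (congrArg Prod.snd e) (a j))
    · rw [g.2 h1, h.2 h1]
  · let M : Matrix (Fin n) (Fin n) F := of fun i j =>
      if h : a i < a j then u ⟨(i, j), h⟩ else if h : a i = a j then (d (a j)).1 ⟨i, h⟩ ⟨j, rfl⟩ else 0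
    have hM : M.BlockTriangular a := fun i j h => by simp [M, h.ne', h.not_gt]
    have hb : ∀ s, M.toSquareBlock a s = (d s).1 := fun s => by
      ext ⟨i, hi⟩ ⟨j, rfl⟩
      simp [M, toSquareBlock_def, hi]
    refine ⟨⟨GeneralLinearGroup.mkOfDetNeZero M ?_, hM⟩, Prod.ext (funext fun p => ?_) (funext fun s => Units.ext (hb s))⟩
    · rw [hM.det_fintype]
      exact prod_ne_zero_iff.2 fun s _ => hb s ▸ (d s).det_ne_zero
    · exact dif_pos p.2

theorem two_card_lt [Fintype A] (a : Fin n → A) :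
    2 * #{p : Fin n × Fin n | a p.1 < a p.2} + ∑ s, #{i | a i = s} * #{i | a i = s} = n * n := by
  have h1 : #{p : Fin n × Fin n | a p.1 < a p.2} = #{p : Fin n × Fin n | a p.2 < a p.1} :=
    card_bijective Prod.swap Prod.swap_bijective (by simp)
  have h2 : ∑ s, #{i | a i = s} * #{i | a i = s} = #{p : Fin n × Fin n | a p.1 = a p.2} := by
    rw [card_eq_sum_card_fiberwise (f := fun p : Fin n × Fin n => a p.2) (t := univ) (by simp)]
    refine sum_congr rfl fun s _ => ?_
    rw [← card_product]; congr 1; ext p; simp +contextual [eq_comm]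
  rw [two_mul, h2]
  nth_rw 2 [h1]
  simp only [card_filter, ← sum_add_distrib]
  rw [sum_congr rfl (g := fun _ => 1) fun p _ => by
    rcases lt_trichotomy (a p.1) (a p.2) with h | h | h <;> simp [h, lt_asymm, ne_of_lt, ne_of_gt]]
  simp

end

theorem inner_yg [DecidableEq A] [DecidableEq B] (a : Fin n → A) (b : Fin n → B) :
    (Nat.card (Perm (Fin n)) : ℂ)⁻¹ * ∑ g, fixedPointCharacter (Yg a) g * fixedPointCharacter (Yg b) g =
      Nat.card (Set.range (tb a b)) :=
  inner_fpc _ _ id _ (fun g => ⟨g, 1, one_mem _, 1, one_mem _, by simp⟩) (tb_iff a b)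

theorem compLabel_le (μ : Fin n → ℕ) (i s : Fin n) : compLabel μ i ≤ s ↔ i.val < ∑ k with k ≤ s, μ k := by
  have hm : ∀ j k : Fin n, j ≤ k → ∑ l with l ≤ j, μ l ≤ ∑ l with l ≤ k, μ l := fun j k h =>
    sum_le_sum_of_subset fun l => by simpa using h.trans'
  constructor
  · intro h
    by_contra! h'
    have := card_le_card (show Iic s ⊆ univ.filter (fun j => ∑ k with k ≤ j, μ k ≤ i) from fun j hj => by
      simpa using (hm j s (by simpa using hj)).trans h')
    rw [Fin.card_Iic] at this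
    exact absurd (this.trans h) (by simp)
  · intro h
    refine (card_le_card (show _ ⊆ Iio s from fun j hj => ?_)).trans (Fin.card_Iio s).le
    by_contra h'
    exact absurd ((hm s j (by simpa using h')).trans (by simpa using hj)) h.not_ge

/-- block labels -/
def lab (μ : Fin n → ℕ) (hμ : ∑ i, μ i = n) (i : Fin n) : Fin n :=
  ⟨compLabel μ i, by
    have := i.pos
    have h := (compLabel_le μ i ⟨n - 1, by omega⟩).2 (by
      rw [filter_true_of_mem fun k _ => Fin.le_def.2 (by have := k.2; simp only; omega), hμ]; exact i.2)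
    simp only at h; omega⟩

theorem lab_mono (μ : Fin n → ℕ) (hμ : ∑ i, μ i = n) : Monotone (lab μ hμ) := fun i k h =>
  show compLabel μ i ≤ compLabel μ k from card_le_card fun j => by simpa using fun h' => h'.trans h

theorem card_lab (μ : Fin n → ℕ) (hμ : ∑ i, μ i = n) (s : Fin n) : #{i | lab μ hμ i = s} = μ s := by
  have h : ∀ s, ∑ k with k ≤ s, #{i | lab μ hμ i = k} = ∑ k with k ≤ s, μ k := fun s => by
    have h1 : ∑ k with k ≤ s, μ k ≤ n := (sum_le_sum_of_subset (subset_univ _)).trans hμ.le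
    rw [← min_eq_right h1, ← Fin.card_filter_val_lt, card_eq_sum_card_fiberwise (f := lab μ hμ) (t := {k | k ≤ s})
      fun i hi => mem_coe.2 (mem_filter.2 ⟨mem_univ _, (compLabel_le μ i s).2 (mem_filter.1 (mem_coe.1 hi)).2⟩)]
    refine sum_congr rfl fun k hk => ?_
    congr 1; ext i
    simp only [mem_filter, mem_univ, true_and, iff_and_self]
    rintro rfl
    exact (compLabel_le μ i s).1 (mem_filter.1 hk).2
  induction s using WellFoundedLT.induction with
  | ind s ih =>
    have h1 := h s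
    rw [show ({k | k ≤ s} : Finset (Fin n)) = insert s (Iio s) by ext; simp [le_iff_eq_or_lt], sum_insert (by simp),
      sum_insert (by simp), sum_congr rfl fun k hk => ih k (by simpa using hk)] at h1
    exact Nat.add_right_cancel h1

theorem parabolicGL_eq (μ : Fin n → ℕ) (hμ : ∑ i, μ i = n) : parabolicGL n F μ = Par F (lab μ hμ) := rfl

theorem youngSubgroup_eq (μ : Fin n → ℕ) (hμ : ∑ i, μ i = n) : youngSubgroup μ = Yg (lab μ hμ) :=
  Subgroup.ext fun _ => forall_congr' fun i => (Fin.ext_iff (a := lab μ hμ _) (b := lab μ hμ i)).symm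

theorem card_range_tb (μ ν : Fin n → ℕ) (hμ : ∑ i, μ i = n) (hν : ∑ i, ν i = n) :
    Nat.card (Set.range (tb (lab μ hμ) (lab ν hν))) = tab μ ν := by
  rw [range_tb]; simp only [card_lab]; rfl

/-- `q`-factorial -/
def qf (q m : ℕ) : ℕ := ∏ j ∈ range m, ∑ l ∈ range (j + 1), q ^ l

theorem card_GL {ι : Type*} [Fintype ι] [DecidableEq ι] [Fintype F] : Nat.card (GL ι F) =
    Fintype.card F ^ (Fintype.card ι).choose 2 * (Fintype.card F - 1) ^ Fintype.card ι * qf (Fintype.card F) (Fintype.card ι) := by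
  rw [Nat.card_congr (Units.mapEquiv (reindexAlgEquiv F F (Fintype.equivFin ι)).toMulEquiv).toEquiv]
  refine (card_GL_field _).trans ?_
  generalize Fintype.card ι = m
  obtain ⟨r, hr⟩ := Nat.exists_eq_add_one_of_ne_zero (Fintype.card_ne_zero (α := F))
  rw [hr, Fin.prod_univ_eq_prod_range (fun i => (r + 1) ^ m - (r + 1) ^ i), qf, ← prod_range_reflect (fun j => ∑ l ∈ range (j + 1), (r + 1) ^ l),
    Nat.choose_two_right, ← sum_range_id, ← prod_pow_eq_pow_sum, Nat.add_sub_cancel,
    show r ^ m = ∏ i ∈ range m, r by simp, ← prod_mul_distrib, ← prod_mul_distrib]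
  refine prod_congr rfl fun i hi => ?_
  obtain ⟨k, rfl⟩ := Nat.exists_eq_add_of_lt (mem_range.1 hi)
  rw [show i + k + 1 - 1 - i = k by omega, add_assoc, pow_add, ← geom_sum_mul_add r (k + 1)]
  exact Nat.sub_eq_of_eq_add (by ring)

theorem index_par [Fintype F] (μ : Fin n → ℕ) (hμ : ∑ i, μ i = n) :
    Nat.card (GL (Fin n) F ⧸ parabolicGL n F μ) * ∏ i, qf (Fintype.card F) (μ i) = qf (Fintype.card F) n := by
  have h1 := Subgroup.card_eq_card_quotient_mul_card_subgroup (parabolicGL n F μ)
  have h2 := two_card_lt (lab μ hμ)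
  rw [card_GL, parabolicGL_eq μ hμ, card_Par, ← parabolicGL_eq μ hμ] at h1
  simp only [card_GL, Fintype.card_subtype, card_lab, prod_mul_distrib, prod_pow_eq_pow_sum, hμ, Fintype.card_fin] at h1 h2
  have h3 : ∀ m : ℕ, 2 * m.choose 2 + m = m * m := fun m => by
    induction m with
    | zero => rfl
    | succ m ih => rw [Nat.choose_succ_succ', Nat.choose_one_right]; nlinarith
  have h4 : n.choose 2 = #{p : Fin n × Fin n | lab μ hμ p.1 < lab μ hμ p.2} + ∑ i, (μ i).choose 2 := by
    simp only [← h3, sum_add_distrib, ← mul_sum, hμ] at h2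
    omega
  have hq := Fintype.one_lt_card (α := F)
  refine mul_left_cancel₀ (a := Fintype.card F ^ n.choose 2 * (Fintype.card F - 1) ^ n)
    (mul_ne_zero (pow_ne_zero _ (by omega)) (pow_ne_zero _ (by omega))) ?_
  rw [h1, h4]; ring

end H24.Sym
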