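import Cfsg.Agent.H24.Sym2
import Cfsg.Agent.H05.Orth

/-!
# The unipotent characters of `GL_n(q)` (namespace `H24.Sym`): degrees `unip_one`, inner products `inner_unip`,
irreducibility `isIrr_unip`
-/

set_option autoImplicit false

open Finset Equiv Matrix Cfsg H05

namespace H24.Sym

variable {n : ℕ} {F : Type*} [Field F] [Fintype F]

theorem sum_sub_perm {ν : Fin n → ℕ} (hν : ∑ i, ν i = n) {κ : Perm (Fin n)} (h : ∀ i, (κ i).val ≤ ν i + i.val) :
    ∑ i, (ν i + i.val - (κ i).val) = n := by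
  rw [sum_tsub_distrib _ fun i _ => h i, sum_add_distrib, hν, Equiv.sum_comp κ Fin.val, Nat.add_sub_cancel]

theorem qf_mul (q l k : ℕ) (h : k ≤ l) : (q : ℂ) ^ k.choose 2 * qf q l =
    qf q (l - k) * ∏ j ∈ range k, (((∑ i ∈ range l, q ^ i : ℕ) : ℂ) - ((∑ i ∈ range j, q ^ i : ℕ) : ℂ)) := by
  induction k with
  | zero => simp
  | succ k ih =>
    obtain ⟨m, rfl⟩ := Nat.exists_eq_add_of_lt h
    have := ih (by omega)
    rw [show k + m + 1 - k = m + 1 by omega, qf, qf, prod_range_succ _ m] at this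
    rw [show k + m + 1 - (k + 1) = m by omega, prod_range_succ, Nat.choose_succ_succ', Nat.choose_one_right, pow_add,
      mul_assoc, qf, this, qf]
    have e : ∑ i ∈ range (k + m + 1), q ^ i = ∑ i ∈ range k, q ^ i + q ^ k * ∑ i ∈ range (m + 1), q ^ i := by
      rw [add_assoc, sum_range_add, mul_sum]; simp only [pow_add]
    generalize (∏ j ∈ range k, _ : ℂ) = P
    rw [e]
    generalize ∑ i ∈ range (m + 1), q ^ i = S
    generalize ∏ j ∈ range m, ∑ l ∈ range (j + 1), q ^ l = T
    generalize ∑ i ∈ range k, q ^ i = U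
    push_cast
    ring

theorem unip_one {q : ℕ} (hq : Fintype.card F = q) (ν : Fin n → ℕ) (hν : ∑ i, ν i = n) :
    unipotentCharacterGL n F ν 1 * (q : ℂ) ^ (n * (n - 1) * (n - 2) / 6) * ∏ i : Fin n, (qf q (ν i + i.val) : ℂ) =
      qf q n * ∏ i : Fin n, ∏ j ∈ Ioi i,
        (((∑ l ∈ range (ν j + j.val), q ^ l : ℕ) : ℂ) - ((∑ l ∈ range (ν i + i.val), q ^ l : ℕ) : ℂ)) := by
  have h3 : n * (n - 1) * (n - 2) / 6 = ∑ i : Fin n, i.val.choose 2 := by
    rw [Fin.sum_univ_eq_sum_range (fun i => i.choose 2)]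
    have : ∀ m : ℕ, ∑ i ∈ range m, i.choose 2 = m.choose 3 := fun m => by
      induction m with
      | zero => rfl
      | succ m ih => rw [sum_range_succ, ih, Nat.choose_succ_succ' m 2, add_comm]
    rw [this, Nat.choose_eq_descFactorial_div_factorial]
    simp [Nat.descFactorial, Nat.factorial]; congr 1; ring
  rw [← det_vandermonde, det_eval_matrixOfPolynomials_eq_det_vandermonde _
    (fun k => ∏ j ∈ range k, (Polynomial.X - Polynomial.C ((∑ i ∈ range j, q ^ i : ℕ) : ℂ)))
    (fun k => by rw [Polynomial.natDegree_finsetProd_X_sub_C_eq_card, card_range]) (fun k => Polynomial.monic_prod_X_sub_C _ _),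
    ← det_transpose, det_apply, unipotentCharacterGL, mul_sum, sum_mul, sum_mul, h3]
  refine sum_congr rfl fun κ _ => ?_
  simp only [transpose_apply, of_apply, Polynomial.eval_prod, Polynomial.eval_sub, Polynomial.eval_X, Polynomial.eval_C]
  split_ifs with h
  · have e := index_par (F := F) _ (sum_sub_perm hν h)
    rw [hq] at e
    rw [← e, ← Equiv.sum_comp κ, ← prod_pow_eq_pow_sum,
      mul_assoc, ← prod_mul_distrib, prod_congr rfl fun i _ => qf_mul q _ _ (h i), prod_mul_distrib,
      fixedPointCharacter, MulAction.fixedBy_one_eq_univ, Nat.card_univ, Units.smul_def, zsmul_eq_mul]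
    push_cast; ring
  · push Not at h
    obtain ⟨i, hi⟩ := h
    rw [zero_mul, zero_mul, prod_eq_zero (mem_univ i) (prod_eq_zero (mem_range.2 hi) (sub_self _))]; simp

theorem inner_parabolic [Fintype (GL (Fin n) F)] (μ ν : Fin n → ℕ) (hμ : ∑ i, μ i = n) (hν : ∑ i, ν i = n) :
    (Nat.card (GL (Fin n) F) : ℂ)⁻¹ * ∑ g, fixedPointCharacter (parabolicGL n F μ) g *
      fixedPointCharacter (parabolicGL n F ν) g = tab μ ν := by
  rw [parabolicGL_eq μ hμ, parabolicGL_eq ν hν, inner_par (lab_mono _ _) (lab_mono _ _), card_range_tb]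

theorem strictMono_add {ν : Fin n → ℕ} (h : Monotone ν) : StrictMono fun i => ν i + i.val :=
  h.add_strictMono Fin.val_strictMono

theorem inner_unip [Fintype (GL (Fin n) F)] {μ ν : Fin n → ℕ} (hμ : ∑ i, μ i = n) (hν : ∑ i, ν i = n)
    (hμ' : Monotone μ) (hν' : Monotone ν) :
    classInner (unipotentCharacterGL n F μ) (unipotentCharacterGL n F ν) = if μ = ν then 1 else 0 := by
  have h := congrArg (Int.cast : ℤ → ℂ) (orth (strictMono_add hμ') (strictMono_add hν'))
  have e : ((fun i => μ i + i.val) = fun i => ν i + i.val) ↔ μ = ν := by simp [funext_iff]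
  simp only [e] at h
  push_cast at h
  rw [← h, classInner]
  simp only [unipotentCharacterGL, map_sum, sum_mul_sum]
  rw [sum_comm, mul_sum]
  refine sum_congr rfl fun κ _ => ?_
  rw [sum_comm, mul_sum]
  refine sum_congr rfl fun κ' _ => ?_
  by_cases h1 : ∀ i, (κ i).val ≤ μ i + i.val
  · by_cases h2 : ∀ i, (κ' i).val ≤ ν i + i.val
    · rw [if_pos ⟨h1, h2⟩, ← inner_parabolic (F := F) _ _ (sum_sub_perm hμ h1) (sum_sub_perm hν h2)]
      simp only [if_pos h1, if_pos h2, mul_sum, fixedPointCharacter, map_mul, map_natCast, map_intCast]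
      exact sum_congr rfl fun g _ => by ring
    · simp [h2]
  · simp [h1]

theorem isIrr_unip {ν : Fin n → ℕ} (hν : ∑ i, ν i = n) (hν' : Monotone ν) :
    IsIrrCharacter (GL (Fin n) F) (unipotentCharacterGL n F ν) := by
  classical
  refine H05.Cfsg.IsGeneralizedCharacter.isIrr_of_norm_one_of_nonneg ?_ (by rw [inner_unip hν hν hν' hν', if_pos rfl]) ?_
  · rw [show unipotentCharacterGL n F ν = ∑ κ : Perm (Fin n), if ∀ i, (κ i).val ≤ ν i + i.val then
      ((Perm.sign κ : ℤ) : ℂ) • fixedPointCharacter (parabolicGL n F fun i => ν i + i.val - (κ i).val) else 0 by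
        ext g; simp [unipotentCharacterGL, ite_apply]]
    refine H05.Cfsg.IsGeneralizedCharacter.sum _ fun κ _ => ?_
    split_ifs
    exacts [(isCharacter_perm _).isGeneralizedCharacter.intCast_smul _, isGeneralizedCharacter_zero]
  · have h := unip_one (F := F) rfl ν hν
    have h1 : ∀ i : Fin n, ∀ j ∈ Ioi i, ∑ l ∈ range (ν i + i.val), Fintype.card F ^ l ≤
        ∑ l ∈ range (ν j + j.val), Fintype.card F ^ l := fun i j hj =>
      sum_le_sum_of_subset (range_subset_range.2 (strictMono_add hν' (mem_Ioi.1 hj)).le)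
    rw [prod_congr rfl fun i _ => prod_congr rfl fun j hj => (Nat.cast_sub (h1 i j hj)).symm, mul_assoc] at h
    norm_cast at h
    have h2 := congrArg Complex.re h
    rw [Complex.mul_re, Complex.natCast_re, Complex.natCast_re, Complex.natCast_im, mul_zero, sub_zero] at h2
    refine nonneg_of_mul_nonneg_left (h2 ▸ Nat.cast_nonneg _) (Nat.cast_pos.2 (Nat.mul_pos (pow_pos Fintype.card_pos _)
      (prod_pos fun i _ => prod_pos fun j _ => sum_pos (fun _ _ => pow_pos Fintype.card_pos _) (by simp))))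

end H24.Sym
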