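import Cfsg.Agent.H24.Sym1

/-!
# Alternating polynomials, the abacus (namespace `H24.Sym`)

* `Alt g`, `Alt.cf_comp`, `Alt.cf_eq_zero`, `alt_alt`, `Alt.mul`, `psum_mul_alt`, `cf_psum_mul`, `orth'`
* `SS d` (strictly increasing vectors of sum `d`), the pairing `pr`, `pr_alt`, `pr_psum_mul`
* `Core ε q` (no bead can be moved up), `rho`, `pos` (Murnaghan–Nakayama positivity), `finrank_range_le` (dimension bound)
-/

set_option autoImplicit false

open MvPolynomial Finset Equiv

namespace H24.Sym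

variable {n : ℕ}

theorem ext_cf {g h : MvPolynomial (Fin n) ℤ} (e : ∀ d, cf d g = cf d h) : g = h :=
  MvPolynomial.ext _ _ fun d => by simpa [cf] using e d

theorem cf_rename (τ : Perm (Fin n)) (b : Fin n → ℕ) (g : MvPolynomial (Fin n) ℤ) : cf b (rename τ g) = cf (b ∘ τ) g := by
  simp only [cf, coeffAddMonoidHom_apply]
  rw [← coeff_rename_mapDomain τ τ.injective g]
  congr 1; ext i; obtain ⟨i, rfl⟩ := τ.surjective i
  rw [Finsupp.mapDomain_apply τ.injective]; simp

/-- alternating polynomials -/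
def Alt (g : MvPolynomial (Fin n) ℤ) : Prop := ∀ τ : Perm (Fin n), rename τ g = (Perm.sign τ : ℤ) • g

theorem Alt.cf_comp {g : MvPolynomial (Fin n) ℤ} (h : Alt g) (τ : Perm (Fin n)) (b : Fin n → ℕ) :
    cf (b ∘ τ) g = Perm.sign τ * cf b g := by rw [← cf_rename, h, map_zsmul, smul_eq_mul]

theorem Alt.cf_eq_zero {g : MvPolynomial (Fin n) ℤ} (h : Alt g) {b : Fin n → ℕ} (hb : ¬ Function.Injective b) :
    cf b g = 0 := by
  obtain ⟨i, j, e, hij⟩ := Function.not_injective_iff.1 hb
  have := h.cf_comp (swap i j) b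
  rw [show b ∘ swap i j = b from funext fun k => apply_swap_eq_self e k, Perm.sign_swap hij] at this
  simp at this; omega

theorem alt_alt (l : Fin n → ℕ) : Alt (alt l) := fun τ => by
  rw [alt, AlgHom.map_det, zsmul_eq_mul, ← Matrix.det_permute']
  congr 1; ext i j : 2; simp

theorem Alt.mul {s g : MvPolynomial (Fin n) ℤ} (h : Alt g) (hs : s.IsSymmetric) : Alt (s * g) := fun τ => by
  rw [map_mul, h, hs, mul_smul_comm]

theorem alt_comp (l : Fin n → ℕ) (τ : Perm (Fin n)) : alt (l ∘ τ) = (Perm.sign τ : ℤ) • alt l := by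
  rw [alt, alt, zsmul_eq_mul, ← Matrix.det_permute]; rfl

theorem mon_single (i : Fin n) (k : ℕ) : mon (Pi.single i k) = X i ^ k := by
  rw [mon_eq, prod_eq_single i (fun j _ hj => by simp [hj]) (by simp)]; simp

theorem mon_add (d e : Fin n → ℕ) : mon (d + e) = mon d * mon e := by simp [mon_eq, pow_add, prod_mul_distrib]

theorem psum_mul_alt (k : ℕ) (b : Fin n → ℕ) : psum (Fin n) ℤ k * alt b = ∑ i, alt (b + Pi.single i k) := by
  simp only [alt_eq, mul_sum]
  rw [sum_comm]
  refine sum_congr rfl fun σ _ => ?_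
  rw [← smul_sum, mul_smul_comm, psum, sum_mul]
  congr 1
  refine Fintype.sum_equiv σ _ _ fun i => ?_
  rw [← mon_single, ← mon_add, add_comm]
  congr 1; ext j; simp [Pi.single_apply]

theorem cf_psum_mul (k : ℕ) (b : Fin n → ℕ) (g : MvPolynomial (Fin n) ℤ) :
    cf b (psum (Fin n) ℤ k * g) = ∑ i, if k ≤ b i then cf (Function.update b i (b i - k)) g else 0 := by
  simp only [psum, sum_mul, map_sum, ← mon_single, cf_mon_mul]
  refine sum_congr rfl fun i _ => if_congr ⟨fun h => by simpa using h i, fun h j => ?_⟩ ?_ rfl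
  · by_cases e : j = i <;> simp [e, h]
  · congr 2; ext j; by_cases e : j = i <;> simp [e]

theorem orth' (l l' : Fin n → ℕ) :
    ∑ κ : Perm (Fin n), ∑ κ' : Perm (Fin n), (if (∀ i, (κ i).val ≤ l i) ∧ ∀ i, (κ' i).val ≤ l' i then
      (Perm.sign κ : ℤ) * Perm.sign κ' * tab (fun i => l i - κ i) (fun i => l' i - κ' i) else 0) = cf l (alt l') := by
  rw [← jacobi_trudi, cf_alt_mul]
  refine sum_congr rfl fun κ _ => ?_
  by_cases hκ : ∀ i, (κ i).val ≤ l i
  · simp only [hκ, JT, map_sum, mul_sum, implies_true, true_and, if_true]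
    refine sum_congr rfl fun κ' _ => ?_
    split_ifs
    · rw [map_zsmul, cf_prod_hh, smul_eq_mul, mul_assoc]
    · simp
  · simp [hκ]

variable (n) in
/-- strictly increasing vectors with sum `d` -/
noncomputable def SS (d : ℕ) : Finset (Fin n → ℕ) := by classical exact (piAntidiag univ d).filter StrictMono

theorem mem_SS {d : ℕ} {S : Fin n → ℕ} : S ∈ SS n d ↔ ∑ i, S i = d ∧ StrictMono S := by simp [SS]

/-- the pairing making the alternants orthonormal, restricted to the vectors satisfying `C` -/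
noncomputable def pr (C : (Fin n → ℕ) → Prop) [DecidablePred C] (d : ℕ) (g h : MvPolynomial (Fin n) ℤ) : ℤ :=
  ∑ S ∈ SS n d with C S, cf S g * cf S h

theorem exists_sort {b : Fin n → ℕ} (hb : Function.Injective b) : ∃ τ : Perm (Fin n), StrictMono (b ∘ τ) :=
  ⟨Tuple.sort b, (Tuple.monotone_sort b).strictMono_of_injective (hb.comp (Tuple.sort b).injective)⟩

theorem pr_alt (C : (Fin n → ℕ) → Prop) [DecidablePred C] (hC : ∀ b (τ : Perm (Fin n)), C (b ∘ τ) ↔ C b) (d : ℕ)
    {h : MvPolynomial (Fin n) ℤ} (hh : Alt h) (b : Fin n → ℕ) :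
    pr C d (alt b) h = if ∑ i, b i = d ∧ C b then cf b h else 0 := by
  by_cases hb : Function.Injective b
  · obtain ⟨τ, hτ⟩ := exists_sort hb
    have e : alt b = (Perm.sign τ : ℤ) • alt (b ∘ τ) := by rw [alt_comp, smul_smul]; simp
    have e2 : ∑ i, (b ∘ τ) i = ∑ i, b i := Equiv.sum_comp τ b
    rw [pr, sum_congr rfl (g := fun S => if S = b ∘ τ then cf b h else 0) fun S hS => by
      rw [e, map_zsmul, cf_alt (mem_SS.1 (mem_filter.1 hS).1).2 hτ]
      split_ifs with h1
      · rw [h1, hh.cf_comp, smul_eq_mul, mul_one, ← mul_assoc]; simp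
      · simp, sum_ite_eq']
    simp only [mem_filter, mem_SS, hτ, e2, hC, and_true]
  · obtain ⟨i, j, e, hij⟩ := Function.not_injective_iff.1 hb
    have : alt b = 0 := Matrix.det_zero_of_row_eq hij (funext fun k => by simp [e])
    simp [pr, this, hh.cf_eq_zero hb]

theorem pr_psum_mul (C : (Fin n → ℕ) → Prop) [DecidablePred C] (hC : ∀ b (τ : Perm (Fin n)), C (b ∘ τ) ↔ C b) (d k : ℕ)
    (hk : ∀ (b : Fin n → ℕ) i, C (b + Pi.single i k) ↔ C b) {g h : MvPolynomial (Fin n) ℤ} (hg : Alt g) (hh : Alt h)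
    (h0 : ∀ b : Fin n → ℕ, ∑ i, cf (b + Pi.single i k) h = 0) : pr C d (psum (Fin n) ℤ k * g) h = 0 := by
  have key : ∀ g : MvPolynomial (Fin n) ℤ,
      pr C d (psum (Fin n) ℤ k * ∑ τ : Perm (Fin n), (Perm.sign τ : ℤ) • rename τ g) h = 0 := fun g => by
    induction g using MvPolynomial.induction_on' with
    | monomial u a =>
      have e : ∑ τ : Perm (Fin n), (Perm.sign τ : ℤ) • rename τ (monomial u a) = a • alt u := by
        rw [alt_eq, smul_sum, ← Equiv.sum_comp (Equiv.inv _)]
        refine sum_congr rfl fun τ _ => ext_cf fun d => ?_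
        rw [show monomial u a = a • mon u by simp [mon, smul_monomial], map_zsmul, smul_comm]
        simp only [map_zsmul, cf_rename, cf_mon, Equiv.inv_apply, Perm.sign_inv]
        congr 3
        exact propext ⟨fun h => by rw [h]; ext; simp, fun h => by rw [← h]; ext; simp⟩
      have e2 : ∀ i, ∑ j, (⇑u + Pi.single i k : Fin n → ℕ) j = ∑ j, u j + k := fun i => by simp [sum_add_distrib]
      have e3 := fun i => pr_alt C hC d hh (⇑u + Pi.single i k)
      simp only [e2, hk, pr] at e3
      rw [e, mul_smul_comm, psum_mul_alt, pr]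
      simp only [map_zsmul, map_sum, smul_eq_mul, mul_assoc, ← mul_sum, sum_mul]
      rw [sum_comm]
      simp [e3, h0]
    | add g g' h1 h2 =>
      simp only [pr, map_add, smul_add, sum_add_distrib, mul_add, add_mul] at h1 h2 ⊢
      rw [h1, h2, add_zero]
  have := key g
  simp only [hg _, smul_smul, Int.units_coe_mul_self, one_smul, sum_const, mul_smul_comm, pr, map_nsmul] at this
  simp only [nsmul_eq_mul, mul_assoc, ← mul_sum] at this
  simpa [pr] using this

/-- configurations of beads which cannot be moved up -/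
def Core {R : Type*} [DecidableEq R] (ε : Fin n → R) (q : Fin n → ℕ) : Prop :=
  (∀ i j, ε i = ε j → q i = q j → i = j) ∧ ∀ i, q i < #{j | ε j = ε i}

section
variable {R : Type*} [DecidableEq R] {ε : Fin n → R} {q q' : Fin n → ℕ}

theorem Core.exists (h : Core ε q) (i : Fin n) {t : ℕ} (ht : t < #{j | ε j = ε i}) : ∃ j, ε j = ε i ∧ q j = t := by
  have : (univ.filter fun j => ε j = ε i).image q = range #{j | ε j = ε i} :=
    eq_of_subset_of_card_le (fun x hx => by
      obtain ⟨j, hj, rfl⟩ := mem_image.1 hx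
      rw [← (mem_filter.1 hj).2]; exact mem_range.2 (h.2 j)) (by
      rw [card_range, card_image_of_injOn fun j hj k hk => h.1 j k (by simp_all)])
  simpa [← this] using mem_range.2 ht

theorem Core.exists_perm (h : Core ε q) (h' : Core ε q') : ∃ τ : Perm (Fin n), ε ∘ τ = ε ∧ q' = q ∘ τ := by
  choose τ h1 h2 using fun i => h.exists i (h'.2 i)
  exact ⟨Equiv.ofBijective τ (Finite.injective_iff_bijective.1 fun i j e =>
    h'.1 i j (by rw [← h1, e, h1]) (by rw [← h2, e, h2])), funext h1, (funext h2).symm⟩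

theorem Core.le (h : Core ε q) (hq : ∀ i j, ε i = ε j → q i < q j → q' i < q' j) (i : Fin n) : q i ≤ q' i := by
  induction e : q i generalizing i with
  | zero => exact Nat.zero_le _
  | succ t ih =>
    obtain ⟨j, h1, h2⟩ := h.exists i (t := t) (by have := h.2 i; omega)
    exact (ih j h2).trans_lt (hq j i h1 (by omega))

variable (ε q) in
/-- the core of a configuration -/
def rho (i : Fin n) : ℕ := #{j | ε j = ε i ∧ q j < q i}

theorem lt_of_rho_lt (i j : Fin n) (e : ε i = ε j) (h : rho ε q i < rho ε q j) : q i < q j := by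
  by_contra! h'
  exact h.not_ge (card_le_card fun k => by simpa [e] using fun h1 h2 => ⟨h1, h2.trans_le h'⟩)

theorem core_rho (hq : ∀ i j, ε i = ε j → q i = q j → i = j) : Core ε (rho ε q) := by
  have h : ∀ i j, ε i = ε j → q i < q j → rho ε q i < rho ε q j := fun i j e h =>
    card_lt_card ⟨fun k => by simpa [e] using fun h1 h2 => ⟨h1, h2.trans h⟩, fun h' => by simpa [e, h] using @h' i⟩
  refine ⟨fun i j e h' => hq i j e ?_, fun i => card_lt_card ⟨fun k => by simp +contextual, fun h' => by simpa using @h' i⟩⟩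
  rcases lt_trichotomy (q i) (q j) with h1 | h1 | h1
  exacts [absurd h' (h i j e h1).ne, h1, absurd h' (h j i e.symm h1).ne']

theorem Core.sum_le (h : Core ε q) (hq : ∀ i j, ε i = ε j → q' i = q' j → i = j) : ∑ i, q i ≤ ∑ i, q' i := by
  obtain ⟨τ, -, e⟩ := (core_rho hq).exists_perm h
  rw [e]
  exact (Equiv.sum_comp τ _).trans_le (sum_le_sum fun i _ => (core_rho hq).le lt_of_rho_lt i)

end

theorem pos {p : ℕ} {ε q0 : Fin n → ℕ} (hε : ∀ i, ε i < p) (h0 : Core ε q0) (w : ℕ) (q : Fin n → ℕ)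
    (hq : ∀ i j, ε i = ε j → q0 i < q0 j → q i < q j) (hw : ∑ i, q i = ∑ i, q0 i + w) :
    ∃ k : ℕ, 0 < k ∧ ∀ g, Alt g →
      cf (fun i => ε i + p * q i) (psum (Fin n) ℤ p ^ w * g) = k * cf (fun i => ε i + p * q0 i) g := by
  induction w generalizing q with
  | zero =>
    obtain rfl : q0 = q := funext fun i => (sum_eq_sum_iff_of_le fun i _ => h0.le hq i).1 hw.symm i (mem_univ _)
    exact ⟨1, one_pos, by simp⟩
  | succ w ih =>
    have key : ∀ i, ∃ k : ℕ, ((q0 i < q i ∧ ∀ j, ε j = ε i → q0 j < q0 i → q j = q0 j) → 0 < k) ∧ ∀ g, Alt g →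
        (if p ≤ ε i + p * q i then cf (Function.update (fun i => ε i + p * q i) i (ε i + p * q i - p))
          (psum (Fin n) ℤ p ^ w * g) else 0) = k * cf (fun i => ε i + p * q0 i) g := fun i => by
      rcases e : q i with _ | t
      · exact ⟨0, fun h => by omega, fun g _ => by simp [hε i]⟩
      have e1 : Function.update (fun i => ε i + p * q i) i (ε i + p * (t + 1) - p) =
          fun j => ε j + p * Function.update q i t j := by
        ext j; by_cases h : j = i <;> simp [h, mul_add, ← add_assoc]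
      simp only [e1, if_pos (show p ≤ ε i + p * (t + 1) by nlinarith)]
      by_cases h : ∀ j k, ε j = ε k → q0 j < q0 k → Function.update q i t j < Function.update q i t k
      · obtain ⟨k, hk, h'⟩ := ih _ h (by
          have := sum_update_of_mem (mem_univ i) q t
          have h2 := add_sum_erase _ q (mem_univ i)
          rw [sdiff_singleton_eq_erase] at this
          omega)
        exact ⟨k, fun _ => hk, h'⟩
      · push Not at h
        obtain ⟨j, k, h1, h2, h3⟩ := h
        have h4 := hq j k h1 h2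
        obtain rfl : k = i := by
          by_contra hk
          by_cases hj : j = i
          · subst hj; simp [hk] at h3; omega
          · simp [hk, hj] at h3; omega
        have hj : j ≠ k := fun h => by simp [h] at h2
        simp [hj] at h3
        refine ⟨0, fun h => by have := h.2 j h1 h2; omega, fun g hg => ?_⟩
        rw [(hg.mul fun τ => by rw [map_pow, rename_psum]).cf_eq_zero fun hi => hj (hi ?_)] <;> simp [hj, h1]
        omega
    choose k hk h using key
    refine ⟨∑ i, k i, ?_, fun g hg => ?_⟩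
    · obtain ⟨i, hi, hm⟩ := exists_min_image (univ.filter fun i => q0 i < q i) q0 (by
        obtain ⟨i, -, hi⟩ := exists_lt_of_sum_lt (show ∑ i, q0 i < ∑ i, q i by omega)
        exact ⟨i, by simpa using hi⟩)
      refine sum_pos' (fun _ _ => Nat.zero_le _) ⟨i, mem_univ _, hk i ⟨by simpa using hi, fun j _ hj => ?_⟩⟩
      by_contra h'
      exact hj.not_ge (hm j (by simpa using (h0.le hq j).lt_of_ne' h'))
    · rw [pow_succ', mul_assoc, cf_psum_mul, Nat.cast_sum, sum_mul]
      exact sum_congr rfl fun i _ => h i g hg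

theorem pow_card_eq_zero {σ A : Type*} [Fintype σ] [CommRing A] [Algebra ℂ A] (x : σ → A)
    (h : ∀ k, 0 < k → ∑ j, x j ^ k = 0) (i : σ) : x i ^ Fintype.card σ = 0 := by
  classical
  have h1 : ∀ k, 0 < k → (univ.val.map x).esymm k = 0 := fun k hk => by
    have := congrArg (aeval x) (mul_esymm_eq_sum σ ℂ k)
    rw [map_mul, map_mul, map_sum, sum_eq_zero fun a ha => by
      have := mem_antidiagonal.1 (mem_filter.1 ha).1
      have := (mem_filter.1 ha).2
      simp [psum, h a.2 (by omega)], mul_zero, aeval_esymm_eq_multiset_esymm, map_natCast, ← nsmul_eq_mul,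
      ← Nat.cast_smul_eq_nsmul ℂ] at this
    exact (smul_eq_zero_iff_right (by simpa using hk.ne')).1 this
  have h2 := congrArg (Polynomial.eval (x i)) (Multiset.prod_X_sub_X_eq_sum_esymm (univ.val.map x))
  rw [Polynomial.eval_multiset_prod, Multiset.prod_eq_zero (by simp; exact ⟨i, sub_self _⟩), Polynomial.eval_finsetSum,
    sum_eq_single 0 (fun k _ hk => by simp [h1 k (Nat.pos_of_ne_zero hk)]) (by simp)] at h2
  simpa [Multiset.esymm] using h2.symm

theorem finrank_sup_le {ι V : Type*} [AddCommGroup V] [Module ℂ V] [FiniteDimensional ℂ V] (s : Finset ι)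
    (T : ι → Submodule ℂ V) : Module.finrank ℂ ↥(s.sup T) ≤ ∑ i ∈ s, Module.finrank ℂ (T i) := by
  classical
  induction s using Finset.induction_on with
  | empty => simp
  | insert a s ha ih =>
    rw [sup_insert, sum_insert ha]
    exact (Submodule.finrank_add_le_finrank_add_finrank _ _).trans (by omega)

theorem finrank_range_le {V : Type*} [AddCommGroup V] [Module ℂ V] [FiniteDimensional ℂ V] {p : ℕ} {ε q0 : Fin n → ℕ}
    (hp : 0 < p) (hε : ∀ i, ε i < p) (h0 : Core ε q0) (w : ℕ) (φ : MvPolynomial (Fin n) ℂ →ₗ[ℂ] V)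
    (ha : ∀ τ : Perm (Fin n), ε ∘ τ = ε → ∀ g, φ (rename τ g) = (Perm.sign τ : ℤ) • φ g)
    (hb : ∀ k, 0 < k → ∀ g, φ (psum (Fin n) ℂ k * g) = 0)
    (hs : ∀ d : Fin n →₀ ℕ, φ (monomial d 1) ≠ 0 → ∑ i, d i = ∑ i, q0 i + w) :
    Module.finrank ℂ (LinearMap.range φ) + (if w = 0 then 0 else p ^ (w - 1)) ≤ p ^ w := by
  induction w using Nat.strong_induction_on generalizing φ with
  | _ w ih =>
  have hrange : ∀ (ψ : MvPolynomial (Fin n) ℂ →ₗ[ℂ] V) (T : Submodule ℂ V), (∀ d, ψ (monomial d 1) ∈ T) →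
      LinearMap.range ψ ≤ T := fun ψ T h => by
    rintro _ ⟨g, rfl⟩
    induction g using MvPolynomial.induction_on' with
    | monomial u a => rw [show monomial u a = a • monomial u (1 : ℂ) by simp [smul_monomial], map_smul]; exact T.smul_mem _ (h u)
    | add g g' h1 h2 => rw [map_add]; exact T.add_mem h1 h2
  have hinj : ∀ ψ : MvPolynomial (Fin n) ℂ →ₗ[ℂ] V,
      (∀ τ : Perm (Fin n), ε ∘ τ = ε → ∀ g, ψ (rename τ g) = (Perm.sign τ : ℤ) • ψ g) →
      ∀ d : Fin n →₀ ℕ, ψ (monomial d 1) ≠ 0 → ∀ i j, ε i = ε j → d i = d j → i = j := fun ψ hψ d hd i j e e' => by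
    by_contra hij
    have := hψ (swap i j) (funext fun k => apply_swap_eq_self e k) (monomial d 1)
    rw [rename_monomial, show d.mapDomain (swap i j) = d from Finsupp.ext fun k => by
      rw [Finsupp.mapDomain_equiv_apply, symm_swap]; exact apply_swap_eq_self e' k, Perm.sign_swap hij] at this
    refine hd ?_
    have h2 : (2 : ℂ) • ψ (monomial d 1) = 0 := by rw [two_smul]; nth_rw 1 [this]; simp
    simpa using h2
  rcases Nat.eq_zero_or_pos w with rfl | hw
  · refine (add_zero _).trans_le ((Submodule.finrank_mono (hrange φ (ℂ ∙ φ (monomial (Finsupp.equivFunOnFinite.symm q0) 1))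
      fun d => ?_)).trans ((finrank_span_le_card _).trans (by simp)))
    by_cases hd : φ (monomial d 1) = 0
    · simp [hd]
    have h1 := core_rho (hinj φ ha d hd)
    have h2 : rho ε d = d := funext fun i => (sum_eq_sum_iff_of_le fun i _ => h1.le lt_of_rho_lt i).1
      (le_antisymm (sum_le_sum fun i _ => h1.le lt_of_rho_lt i) ((hs d hd).trans_le (h0.sum_le h1.1))) i (mem_univ _)
    obtain ⟨τ, h3, h4⟩ := h1.exists_perm h0
    rw [show monomial d (1 : ℂ) = rename τ (monomial (Finsupp.equivFunOnFinite.symm q0) 1) by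
      rw [rename_monomial]; congr 2; ext i; simp [h4, h2], ha τ h3]
    exact zsmul_mem (Submodule.mem_span_singleton_self _) _
  let P : ℕ → ℕ → MvPolynomial (Fin n) ℂ := fun r k => ∑ i with ε i = r, X i ^ k
  let ψ : ℕ × ℕ → MvPolynomial (Fin n) ℂ →ₗ[ℂ] V := fun x => φ ∘ₗ LinearMap.mulLeft ℂ (P x.1 x.2)
  have hψa : ∀ x, ∀ τ : Perm (Fin n), ε ∘ τ = ε → ∀ g, ψ x (rename τ g) = (Perm.sign τ : ℤ) • ψ x g := fun x τ hτ g => by
    have : rename τ (P x.1 x.2) = P x.1 x.2 := by
      simp only [P, map_sum, map_pow, rename_X]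
      exact sum_bijective τ τ.bijective (fun i => by simp [show ε (τ i) = ε i from congrFun hτ i]) fun _ _ => rfl
    simp only [ψ, LinearMap.comp_apply, LinearMap.mulLeft_apply]
    rw [← ha τ hτ, map_mul (rename τ), this]
  have hψs : ∀ x, ∀ d : Fin n →₀ ℕ, ψ x (monomial d 1) ≠ 0 → ∑ i, d i + x.2 = ∑ i, q0 i + w := fun x d hd => by
    simp only [ψ, P, LinearMap.comp_apply, LinearMap.mulLeft_apply, sum_mul, map_sum] at hd
    obtain ⟨i, -, hi⟩ := exists_ne_zero_of_sum_ne_zero hd
    rw [X_pow_eq_monomial, monomial_mul, one_mul] at hi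
    rw [← hs _ hi]; simp [sum_add_distrib, add_comm, Finsupp.single_apply]
  let T := (Ico 1 p ×ˢ range w).sup fun x => LinearMap.range (ψ (x.1, x.2 + 1))
  have hT0 : ∀ r k g, r ∈ Ico 1 p → ψ (r, k + 1) g ∈ T := fun r k g hr => by
    by_cases hk : k < w
    · exact le_sup (f := fun x : ℕ × ℕ => LinearMap.range (ψ (x.1, x.2 + 1))) (b := (r, k)) (by simpa using ⟨by simpa using hr, hk⟩)
        ⟨g, rfl⟩
    · refine hrange _ T (fun d => ?_) ⟨g, rfl⟩
      by_cases hd : ψ (r, k + 1) (monomial d 1) = 0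
      · simp [hd]
      have := hψs _ d hd
      have := h0.sum_le (hinj _ (hψa _) d hd)
      omega
  have hT : ∀ r k g, r < p → ψ (r, k + 1) g ∈ T := fun r k g hr => by
    rcases Nat.eq_zero_or_pos r with rfl | h
    · have h1 := hb (k + 1) (by omega) g
      rw [psum, ← sum_fiberwise_of_maps_to (g := ε) (t := range p) (fun i _ => mem_range.2 (hε i)), range_eq_Ico,
        sum_eq_sum_Ico_succ_bot hr, add_mul, map_add, sum_mul (Ico _ _), map_sum] at h1
      exact (show ψ (0, k + 1) g = _ from eq_neg_of_add_eq_zero_left h1) ▸ T.neg_mem (T.sum_mem fun r hr => hT0 r k g hr)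
    · exact hT0 r k g (mem_Ico.2 ⟨h, hr⟩)
  have hle : LinearMap.range φ ≤ T := hrange φ T fun d => by
    by_cases hd : φ (monomial d 1) = 0
    · simp [hd]
    obtain ⟨i, hi⟩ : ∃ i, #{j | ε j = ε i} ≤ d i := by
      by_contra! h
      have := Core.sum_le (q := d) ⟨hinj φ ha d hd, h⟩ h0.1
      have := hs d hd
      omega
    let I : Ideal (MvPolynomial (Fin n) ℂ) := Ideal.span (Set.range fun k => P (ε i) (k + 1))
    have h1 : X i ^ #{j | ε j = ε i} ∈ I := by
      have := pow_card_eq_zero (fun j : {j // ε j = ε i} => Ideal.Quotient.mk I (X j.1)) (fun k hk => by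
        obtain ⟨k, rfl⟩ := Nat.exists_eq_add_one_of_ne_zero hk.ne'
        simp only [← map_pow, ← map_sum]
        rw [Ideal.Quotient.eq_zero_iff_mem, ← sum_subtype (univ.filter fun j => ε j = ε i) (by simp) (fun j => X j ^ (k + 1))]
        exact Ideal.subset_span ⟨k, rfl⟩) ⟨i, rfl⟩
      rwa [← map_pow, Ideal.Quotient.eq_zero_iff_mem, Fintype.card_subtype] at this
    have h2 : ∀ z ∈ I, ∀ g, φ (z * g) ∈ T := fun z hz => by
      induction hz using Submodule.span_induction with
      | mem z hz => obtain ⟨k, rfl⟩ := hz; exact fun g => hT _ k g (hε i)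
      | zero => simp
      | add x y _ _ h1 h2 => exact fun g => by rw [add_mul, map_add]; exact T.add_mem (h1 g) (h2 g)
      | smul a x _ h => exact fun g => by rw [smul_eq_mul, mul_comm a, mul_assoc]; exact h _
    have := h2 _ h1 (monomial (d - Finsupp.single i #{j | ε j = ε i}) 1)
    rwa [X_pow_eq_monomial, monomial_mul, one_mul, add_tsub_cancel_of_le (Finsupp.single_le_iff.2 hi)] at this
  have h3 : ∀ r, ∀ k ∈ range w, Module.finrank ℂ (LinearMap.range (ψ (r, k + 1))) +
      (if w - 1 - k = 0 then 0 else p ^ (w - 1 - k - 1)) ≤ p ^ (w - 1 - k) := fun r k hk =>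
    ih _ (by omega) _ (hψa _) (fun l hl g => by
      simp only [ψ, LinearMap.comp_apply, LinearMap.mulLeft_apply]; rw [mul_left_comm, hb l hl]) fun d hd => by
      have := hψs _ d hd
      have := mem_range.1 hk
      simp only at *; omega
  have h4 : ∀ r, ∑ k ∈ range w, Module.finrank ℂ (LinearMap.range (ψ (r, k + 1))) ≤ p ^ (w - 1) := fun r => by
    have h5 := sum_le_sum (h3 r)
    rw [sum_add_distrib, sum_range_reflect (fun j => if j = 0 then 0 else p ^ (j - 1)), sum_range_reflect (fun j => p ^ j)] at h5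
    obtain ⟨w, rfl⟩ := Nat.exists_eq_add_one_of_ne_zero hw.ne'
    rw [sum_range_succ' (fun j => if j = 0 then 0 else p ^ (j - 1)), sum_range_succ (fun j => p ^ j)] at h5
    simp at h5 ⊢
    omega
  have h5 := (Submodule.finrank_mono hle).trans (finrank_sup_le _ _)
  rw [sum_product] at h5
  have h6 := h5.trans (sum_le_card_nsmul _ _ _ fun r _ => h4 r)
  obtain ⟨w, rfl⟩ := Nat.exists_eq_add_one_of_ne_zero hw.ne'
  obtain ⟨p, rfl⟩ := Nat.exists_eq_add_one_of_ne_zero hp.ne'
  simp at h6 ⊢
  rw [pow_succ]; nlinarith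

end H24.Sym
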