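import Cfsg.Agent.H24.Sym4
import Cfsg.Agent.H24.Sym3

/-!
# The irreducible characters of the symmetric groups (namespace `H24.Sym`)

* `PP N σ` (power sum product of the cycle type: `PP_eq`, `PP_cycleType`, `PP_congr`), `XS b σ` (Frobenius' formula), `chi b`
* `sum_XS` (orthogonality), `isIrr_chi`, `exists_chi_eq` (all irreducible characters), `pr_eq_zero_of_not_isConj` (columns)
* `sum_cf_eq_zero`, `ct` (content), `sum_reg_eq_zero` (different contents are orthogonal on regular classes)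
-/

set_option autoImplicit false

open MvPolynomial Finset Equiv Cfsg H05

namespace H24.Sym

variable {n N : ℕ} {Ω Ω' : Type*} [Fintype Ω] [DecidableEq Ω] [Fintype Ω'] [DecidableEq Ω']

/-- fibre sizes -/
def ty (f : Ω → Fin N) (s : Fin N) : ℕ := #{i | f i = s}

theorem sum_ty (f : Ω → Fin N) : ∑ s, ty f s = Fintype.card Ω :=
  (card_eq_sum_card_fiberwise (f := f) (s := univ) (t := univ) (by simp)).symm

theorem mon_ty (f : Ω → Fin N) : mon (ty f) = ∏ i, X (f i) := by
  rw [mon_eq, ← prod_fiberwise_of_maps_to (g := f) (t := univ) (by simp)]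
  exact prod_congr rfl fun s _ => by rw [prod_congr rfl fun i hi => by rw [(mem_filter.1 hi).2], prod_const, ty]

theorem exists_ty {α : Fin N → ℕ} (h : ∑ s, α s = n) : ∃ a : Fin n → Fin N, ty a = α := by
  let e : (Σ s, Fin (α s)) ≃ Fin n := Fintype.equivFinOfCardEq (by simpa using h)
  refine ⟨fun i => (e.symm i).1, funext fun s => ?_⟩
  rw [ty, ← card_bijective e e.bijective (s := {x | x.1 = s}) (by simp), card_filter, Fintype.sum_sigma]
  simp [apply_ite card]

variable (N) in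
/-- the power sum product of a permutation -/
noncomputable def PP (σ : Perm Ω) : MvPolynomial (Fin N) ℤ := ∑ f : Ω → Fin N with f ∘ σ = f, mon (ty f)

theorem PP_eq {J : Type*} [Fintype J] [DecidableEq J] (σ : Perm Ω) (π : Ω → J) (h0 : Function.Surjective π)
    (h1 : ∀ x, π (σ x) = π x) (h2 : ∀ x y, π x = π y → σ.SameCycle x y) :
    PP N σ = ∏ j, psum (Fin N) ℤ #{x | π x = j} := by
  simp only [psum, prod_univ_sum, Fintype.piFinset_univ, PP]
  symm
  refine sum_bij (fun g _ => g ∘ π) (fun g _ => by simp [funext_iff, h1]) (fun g _ g' _ e => h0.injective_comp_right e)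
    (fun f hf => ⟨f ∘ Function.surjInv h0, mem_univ _, funext fun x => ?_⟩) fun g _ => ?_
  · obtain ⟨k, hk⟩ := (h2 _ x (Function.surjInv_eq h0 (π x))).exists_pow_eq'
    have : ∀ k y, f ((σ ^ k) y) = f y := fun k y => by
      induction k with
      | zero => rfl
      | succ k ih => rw [pow_succ', Perm.mul_apply, ← ih]; exact congrFun (mem_filter.1 hf).2 _
    rw [← hk.2, this]; simp [hk.2]
  · rw [mon_ty, ← prod_fiberwise_of_maps_to (g := π) (t := univ) (by simp)]
    exact prod_congr rfl fun s _ => by rw [prod_congr rfl fun i hi => by rw [Function.comp, (mem_filter.1 hi).2], prod_const]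

theorem PP_cycleType (σ : Perm Ω) :
    PP N σ = (σ.cycleType.map (psum (Fin N) ℤ)).prod * psum (Fin N) ℤ 1 ^ (Fintype.card Ω - σ.cycleType.sum) := by
  let π : Ω → σ.cycleFactorsFinset ⊕ {x // σ x = x} := fun x =>
    if h : σ x = x then .inr ⟨x, h⟩ else .inl ⟨σ.cycleOf x, Perm.cycleOf_mem_cycleFactorsFinset_iff.2 (Perm.mem_support.2 h)⟩
  have h1 : ∀ x c, π x = .inl c ↔ x ∈ c.1.support := fun x c => by
    constructor
    · intro h
      simp only [π] at h
      split_ifs at h with e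
      rw [← Sum.inl.inj h]; simpa [Perm.mem_support_cycleOf_iff] using e
    · intro h
      have e : σ x ≠ x := Perm.mem_support.1 (Perm.mem_cycleFactorsFinset_support_le c.2 h)
      simp only [π, dif_neg e, Sum.inl.injEq, Subtype.ext_iff]
      exact (Perm.cycle_is_cycleOf h c.2).symm
  have h2 : ∀ x y, π x = .inr y ↔ x = y.1 := fun x y => by
    constructor
    · intro h
      simp only [π] at h
      split_ifs at h with e
      rw [← Sum.inr.inj h]
    · rintro rfl; simp [π, y.2]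
  rw [PP_eq σ π, Fintype.prod_sum_type]
  · simp only [h1, h2, filter_mem_eq_inter, univ_inter, filter_eq', mem_univ, if_true, card_singleton, prod_const, card_univ]
    congr 1
    · rw [Perm.cycleType_def, Multiset.map_map]
      exact prod_coe_sort σ.cycleFactorsFinset fun c => psum (Fin N) ℤ #c.support
    · rw [Perm.sum_cycleType, ← card_compl, Fintype.card_subtype]; congr 2; ext; simp
  · rintro (c | y)
    · obtain ⟨x, hx⟩ := (Perm.mem_cycleFactorsFinset_iff.1 c.2).1.nonempty_support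
      exact ⟨x, (h1 x c).2 hx⟩
    · exact ⟨_, (h2 _ y).2 rfl⟩
  · intro x
    by_cases e : σ x = x
    · rw [e]
    · simp [π, e]
  · intro x y h
    rcases e : π y with c | z
    · have hx := (h1 _ _).1 (h.trans e)
      have hy := (h1 _ _).1 e
      rw [Perm.cycle_is_cycleOf hx c.2] at hy
      exact (Perm.mem_support_cycleOf_iff.1 hy).1
    · rw [(h2 _ _).1 (h.trans e), (h2 _ _).1 e]

theorem PP_congr (e : Ω ≃ Ω') (σ : Perm Ω) : PP N (e.permCongr σ) = PP N σ := by
  refine sum_bijective (· ∘ e) (e.symm.arrowCongr (Equiv.refl _)).bijective (fun f => ?_) fun f _ => ?_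
  · simp [funext_iff, e.forall_congr_right (q := fun x => f (e (σ (e.symm x))) = f x) |>.symm]
  · rw [mon_ty, mon_ty]; exact (e.prod_comp _).symm

theorem PP_symm (σ : Perm Ω) : (PP N σ).IsSymmetric := fun τ => by
  rw [PP_cycleType, map_mul, map_pow, map_multiset_prod, Multiset.map_map, rename_psum]; simp

theorem PP_one : PP N (1 : Perm Ω) = psum (Fin N) ℤ 1 ^ Fintype.card Ω := by simp [PP_cycleType]

theorem cf_PP (α : Fin N → ℕ) (σ : Perm Ω) : cf α (PP N σ) = #{f : Ω → Fin N | f ∘ σ = f ∧ ty f = α} := by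
  simp [PP, cf_mon, filter_filter]

theorem cf_PP_eq_zero {α : Fin N → ℕ} (h : ∑ s, α s ≠ Fintype.card Ω) (σ : Perm Ω) : cf α (PP N σ) = 0 := by
  rw [cf_PP, filter_false_of_mem fun f _ e => h (by rw [← e.2, sum_ty])]; simp

theorem fpc_yg (a : Fin n → Fin N) (σ : Perm (Fin n)) : fixedPointCharacter (Yg a) σ = (cf (ty a) (PP N σ) : ℤ) := by
  rw [cf_PP, fixedPointCharacter, Int.cast_natCast, ← Fintype.card_subtype, ← Nat.card_eq_fintype_card]
  congr 1
  refine Sim.card_eq_of_ker (α := {g : Perm (Fin n) // g⁻¹ * σ⁻¹ * g ∈ Yg a})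
    (φ := fun g => ⟨g.1, QuotientGroup.eq.2 (by simpa using g.2)⟩)
    (ψ := fun g => ⟨a ∘ g.1.symm, funext fun i => by simpa using (g.2 (g.1⁻¹ (σ i))).symm,
      funext fun s => card_bijective g.1.symm g.1.symm.bijective (by simp)⟩) ?_ ?_ fun g h => ?_
  · rintro ⟨⟨g⟩, hg⟩
    exact ⟨⟨g, by simpa using QuotientGroup.eq.1 hg⟩, rfl⟩
  · rintro ⟨f, h1, h2⟩
    obtain ⟨g, hg⟩ := exists_equiv_fib a f fun s => (congrFun h2 s).symm
    refine ⟨⟨g, fun i => ?_⟩, Subtype.ext (funext fun i => by simp [← hg])⟩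
    simpa [← hg] using (congrFun h1 (σ⁻¹ (g i))).symm
  · rw [Subtype.ext_iff, Subtype.ext_iff, QuotientGroup.eq]
    exact ⟨fun e => funext fun i => by simpa using e (h.1⁻¹ i), fun e i => by simpa using congrFun e (h.1 i)⟩

theorem inner_PP (α β : Fin N → ℕ) (hβ : ∑ s, β s = n) :
    ∑ σ : Perm (Fin n), cf α (PP N σ) * cf β (PP N σ) = n.factorial * tab α β := by
  by_cases hα : ∑ s, α s = n
  · obtain ⟨a, rfl⟩ := exists_ty hα
    obtain ⟨b, rfl⟩ := exists_ty hβ
    have h := inner_yg a b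
    rw [range_tb, inv_mul_eq_iff_eq_mul₀ card_ne_zero_complex] at h
    simp only [fpc_yg, Nat.card_eq_fintype_card (α := Perm (Fin n)), Fintype.card_perm, Fintype.card_fin] at h
    exact_mod_cast h
  · have : IsEmpty {t : Fin N → Fin N → ℕ // ∑ j, t j = α ∧ ∀ j, ∑ i, t j i = β j} := ⟨fun t => hα (by
      simp only [← t.2.1, Finset.sum_apply, ← hβ, ← t.2.2]; exact sum_comm)⟩
    simp [cf_PP_eq_zero (Ω := Fin n) (by simpa using hα), tab]

/-- Frobenius' formula -/
noncomputable def XS (b : Fin N → ℕ) (σ : Perm Ω) : ℤ := cf b (alt Fin.val * PP N σ)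

theorem alt_PP (σ : Perm Ω) : Alt (alt Fin.val * PP N σ) := mul_comm (PP N σ) _ ▸ (alt_alt _).mul (PP_symm σ)

theorem sum_sub_perm' {b : Fin N → ℕ} (hb : ∑ i, b i = n + ∑ i : Fin N, i.val) {κ : Perm (Fin N)} (h : ∀ i, (κ i).val ≤ b i) :
    ∑ i, (b i - (κ i).val) = n := by
  rw [sum_tsub_distrib _ fun i _ => h i, hb, Equiv.sum_comp κ Fin.val, Nat.add_sub_cancel]

theorem sum_XS (l : Fin N → ℕ) {b : Fin N → ℕ} (hb : ∑ i, b i = n + ∑ i : Fin N, i.val) :
    ∑ σ : Perm (Fin n), XS l σ * XS b σ = n.factorial * cf l (alt b) := by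
  simp only [← orth', XS, cf_alt_mul, sum_mul_sum]
  rw [sum_comm, mul_sum]
  refine sum_congr rfl fun κ _ => ?_
  rw [sum_comm, mul_sum]
  refine sum_congr rfl fun κ' _ => ?_
  by_cases h1 : ∀ i, (κ i).val ≤ l i
  · by_cases h2 : ∀ i, (κ' i).val ≤ b i
    · rw [if_pos ⟨h1, h2⟩, mul_left_comm, ← inner_PP _ _ (sum_sub_perm' hb h2), mul_sum]
      exact sum_congr rfl fun g _ => by rw [if_pos h1, if_pos h2]; ring
    · simp [h2]
  · simp [h1]

theorem XS_eq_zero {b : Fin N → ℕ} (hb : ∑ i, b i ≠ Fintype.card Ω + ∑ i : Fin N, i.val) (σ : Perm Ω) : XS b σ = 0 := by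
  rw [XS, cf_alt_mul]
  refine sum_eq_zero fun κ _ => ?_
  split_ifs with h
  · rw [cf_PP_eq_zero, mul_zero]
    have := sum_le_sum fun i (_ : i ∈ univ) => h i
    rw [sum_tsub_distrib _ fun i _ => h i]
    rw [Equiv.sum_comp κ Fin.val] at this ⊢
    omega
  · rfl

theorem core_val : Core (fun _ : Fin N => 0) Fin.val := ⟨fun _ _ _ => Fin.ext, by simp⟩

theorem exists_cf_pow (m : ℕ) {b : Fin N → ℕ} (hb : StrictMono b) (h : ∑ i, b i = m + ∑ i : Fin N, i.val) :
    ∃ k : ℕ, 0 < k ∧ cf b (alt Fin.val * psum (Fin N) ℤ 1 ^ m) = k := by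
  obtain ⟨k, hk, e⟩ := pos (p := 1) (fun _ => one_pos) core_val m b (fun i j _ h => hb h) (by omega)
  refine ⟨k, hk, ?_⟩
  simpa [mul_comm, cf_alt Fin.val_strictMono Fin.val_strictMono] using e _ (alt_alt Fin.val)

variable (n) in
/-- the characters of the symmetric group -/
noncomputable def chi (b : Fin N → ℕ) : Perm (Fin n) → ℂ := fun σ => XS b σ

theorem isGen_chi (b : Fin N → ℕ) : IsGeneralizedCharacter _ (chi n b) := by
  rw [show chi n b = ∑ κ : Perm (Fin N), if ∀ i, (κ i).val ≤ b i then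
    ((Perm.sign κ : ℤ) : ℂ) • fun σ => ((cf (fun i => b i - κ i) (PP N σ) : ℤ) : ℂ) else 0 by
      ext g; simp [chi, XS, cf_alt_mul, ite_apply]]
  refine H05.Cfsg.IsGeneralizedCharacter.sum _ fun κ _ => ?_
  split_ifs
  · refine H05.Cfsg.IsGeneralizedCharacter.intCast_smul ?_ _
    by_cases h : ∑ i, (b i - (κ i).val) = n
    · obtain ⟨a, ha⟩ := exists_ty h
      simp only [← ha, ← fpc_yg]
      exact (isCharacter_perm _).isGeneralizedCharacter
    · simp only [cf_PP_eq_zero (Ω := Fin n) (α := fun i => b i - κ i) (by simpa using h), Int.cast_zero]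
      exact isGeneralizedCharacter_zero
  · exact isGeneralizedCharacter_zero

theorem inner_chi (l : Fin N → ℕ) {b : Fin N → ℕ} (hb : ∑ i, b i = n + ∑ i : Fin N, i.val) :
    classInner (chi n l) (chi n b) = cf l (alt b) := by
  have := congrArg (Int.cast : ℤ → ℂ) (sum_XS l hb)
  push_cast at this
  simp only [classInner, chi, map_intCast, this, Nat.card_eq_fintype_card, Fintype.card_perm, Fintype.card_fin]
  rw [inv_mul_cancel_left₀ (Nat.cast_ne_zero.2 n.factorial_ne_zero)]

theorem isIrr_chi {S : Fin N → ℕ} (hS : S ∈ SS N (n + ∑ i : Fin N, i.val)) : IsIrrCharacter _ (chi n S) := by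
  obtain ⟨h1, h2⟩ := mem_SS.1 hS
  refine H05.Cfsg.IsGeneralizedCharacter.isIrr_of_norm_one_of_nonneg (isGen_chi S)
    (by rw [inner_chi S h1, cf_alt h2 h2]; simp) ?_
  obtain ⟨k, -, e⟩ := exists_cf_pow n h2 h1
  rw [chi, XS, PP_one, Fintype.card_fin, e]; simp

theorem chi_inj {S T : Fin N → ℕ} (hS : S ∈ SS N (n + ∑ i : Fin N, i.val)) (hT : T ∈ SS N (n + ∑ i : Fin N, i.val))
    (e : chi n S = chi n T) : S = T := by
  have h := inner_chi S (mem_SS.1 hT).1
  rw [e, inner_chi T (mem_SS.1 hT).1, cf_alt (mem_SS.1 hT).2 (mem_SS.1 hT).2, cf_alt (mem_SS.1 hS).2 (mem_SS.1 hT).2] at h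
  by_contra h'
  simp [h'] at h

theorem bij_chi : Function.Bijective fun S : SS n (n + ∑ i : Fin n, i.val) =>
    (⟨chi n S.1, isIrr_chi S.2⟩ : IrrCharacter (Perm (Fin n))) := by
  refine (Function.Injective.bijective_of_nat_card_le (fun S T e => Subtype.ext (chi_inj S.2 T.2 (congrArg Subtype.val e))) ?_)
  rw [card_irr_eq_card_conjClasses]
  have h : ∀ σ : Perm (Fin n), ∃ S : SS n (n + ∑ i : Fin n, i.val),
      (univ.val.map fun i => S.1 i - i).filter (2 ≤ ·) = σ.cycleType := fun σ => by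
    have h1 : Multiset.card σ.cycleType ≤ σ.cycleType.sum := by
      simpa using Multiset.card_nsmul_le_sum (a := 1) fun x hx => (Perm.one_lt_of_mem_cycleType hx).le
    have h2 : σ.cycleType.sum ≤ n := by simpa using σ.sum_cycleType_le
    let s := σ.cycleType + Multiset.replicate (n - σ.cycleType.sum) 1 +
      Multiset.replicate (σ.cycleType.sum - Multiset.card σ.cycleType) 0
    have h3 : (s.sort (· ≤ ·)).length = n := by simp [s]; omega
    let ν : Fin n → ℕ := fun i => (s.sort (· ≤ ·)).get (i.cast h3.symm)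
    have h4 : univ.val.map ν = s := by
      rw [Fin.univ_val_map, ← Multiset.sort_eq s (· ≤ ·)]; congr 1
      exact List.ext_getElem (by simp [h3]) fun i _ _ => by simp [ν]
    have h5 : Monotone ν := fun i j h => (Multiset.pairwise_sort s (· ≤ ·)).sortedLE.monotone_get h
    refine ⟨⟨fun i => ν i + i, mem_SS.2 ⟨?_, strictMono_add h5⟩⟩, ?_⟩
    · rw [sum_add_distrib, sum_eq_multiset_sum, h4]; simp [s]; omega
    · simp only [Nat.add_sub_cancel, h4, s, Multiset.filter_add]
      rw [Multiset.filter_eq_self.2 fun x hx => Perm.two_le_of_mem_cycleType hx, Multiset.filter_eq_nil.2 fun x hx => by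
        rw [Multiset.eq_of_mem_replicate hx]; simp, Multiset.filter_eq_nil.2 fun x hx => by
        rw [Multiset.eq_of_mem_replicate hx]; simp]; simp
  choose f hf using h
  refine Nat.card_le_card_of_injective (fun c => f c.exists_rep.choose) fun c d e => ?_
  rw [← c.exists_rep.choose_spec, ← d.exists_rep.choose_spec, ConjClasses.mk_eq_mk_iff_isConj, Perm.isConj_iff_cycleType_eq,
    ← hf, ← hf, show f _ = f _ from e]

theorem exists_chi_eq (χ : IrrCharacter (Perm (Fin n))) : ∃ S ∈ SS n (n + ∑ i : Fin n, i.val), χ.1 = chi n S := by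
  obtain ⟨S, rfl⟩ := bij_chi.2 χ
  exact ⟨S.1, S.2, rfl⟩

theorem pr_eq_zero_of_not_isConj {σ τ : Perm (Fin n)} (h : ¬ IsConj σ τ) :
    pr (fun _ => True) (n + ∑ i : Fin n, i.val) (alt Fin.val * PP n σ) (alt Fin.val * PP n τ) = 0 := by
  have := sum_irr_mul_conj_of_not_isConj h
  rw [← bij_chi.sum_comp] at this
  simp only [chi, map_intCast, XS] at this
  rw [sum_coe_sort _ (fun S => ((cf S (alt Fin.val * PP n σ) : ℤ) : ℂ) * (cf S (alt Fin.val * PP n τ) : ℤ))] at this
  rw [pr, filter_true]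
  exact_mod_cast this

theorem sum_cf_eq_zero {k : ℕ} (hk : 2 ≤ k) {σ : Perm (Fin n)} (hσ : k ∉ σ.cycleType) (b : Fin n → ℕ) :
    ∑ i, XS (b + Pi.single i k) σ = 0 := by
  have e2 : ∀ i, ∑ j, (b + Pi.single i k : Fin n → ℕ) j = ∑ j, b j + k := fun i => by simp [sum_add_distrib]
  by_cases hb : ∑ j, b j + k = n + ∑ i : Fin n, i.val
  swap
  · exact sum_eq_zero fun i _ => XS_eq_zero (by rwa [e2, Fintype.card_fin]) σ
  have h1 : pr (fun _ => True) (n + ∑ i : Fin n, i.val) (psum (Fin n) ℤ k * alt b) (alt Fin.val * PP n σ) =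
      ∑ i, XS (b + Pi.single i k) σ := by
    have := fun i => pr_alt (fun _ => True) (by simp) (n + ∑ i : Fin n, i.val) (alt_PP σ) (b + Pi.single i k)
    simp only [e2, hb, pr, and_self, if_true] at this
    simp only [psum_mul_alt, pr, map_sum, sum_mul, XS, ← this]
    exact sum_comm
  by_cases hi : Function.Injective b
  swap
  · obtain ⟨i, j, e, hij⟩ := Function.not_injective_iff.1 hi
    have : alt b = 0 := Matrix.det_zero_of_row_eq hij (funext fun k => by simp [e])
    simp [← h1, this, pr]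
  obtain ⟨m, hm⟩ := Nat.exists_eq_add_of_le' (core_val.sum_le (q' := b) fun i j _ e => hi e)
  have h2 : (m.factorial : ℤ) • alt b = ∑ τ : Perm (Fin m), XS b τ • (alt Fin.val * PP n τ) := ext_cf fun l => by
    simp only [map_sum, map_zsmul, smul_eq_mul, ← sum_XS l hm]
    exact sum_congr rfl fun _ _ => mul_comm _ _
  have h3 : ∀ τ : Perm (Fin m), pr (fun _ => True) (n + ∑ i : Fin n, i.val) (psum (Fin n) ℤ k * (alt Fin.val * PP n τ))
      (alt Fin.val * PP n σ) = 0 := fun τ => by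
    have h4 : τ.cycleType.sum ≤ m := by simpa using τ.sum_cycleType_le
    obtain ⟨g, hg⟩ := (Perm.exists_with_cycleType_iff (Fin n) (m := k ::ₘ τ.cycleType)).2 ⟨by simp; omega, by
      simpa [hk] using fun a => Perm.two_le_of_mem_cycleType⟩
    rw [← pr_eq_zero_of_not_isConj (σ := g) (τ := σ) fun h => hσ (by simp [← Perm.isConj_iff_cycleType_eq.1 h, hg]),
      PP_cycleType g, PP_cycleType τ, hg]
    simp only [Multiset.map_cons, Multiset.prod_cons, Multiset.sum_cons, Fintype.card_fin]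
    rw [show n - (k + τ.cycleType.sum) = m - τ.cycleType.sum by omega]; congr 1; ring
  refine mul_left_cancel₀ (a := (m.factorial : ℤ)) (by simpa using m.factorial_ne_zero) ?_
  rw [← h1, mul_zero]
  calc _ = pr (fun _ => True) (n + ∑ i : Fin n, i.val) (psum (Fin n) ℤ k * (m.factorial : ℤ) • alt b) (alt Fin.val * PP n σ) := by
        simp only [pr, mul_smul_comm, map_zsmul, mul_sum, smul_eq_mul, mul_assoc]
    _ = 0 := by
      simp only [pr] at h3
      simp only [h2, pr, mul_sum, mul_smul_comm, map_sum, map_zsmul, sum_mul, smul_eq_mul, mul_assoc]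
      rw [sum_comm]
      simp only [← mul_sum, h3, mul_zero, sum_const_zero]

/-- residue content -/
def ct (p : ℕ) (b : Fin N → ℕ) (r : ℕ) : ℕ := #{i | b i % p = r}

theorem ct_comp (p : ℕ) (b : Fin N → ℕ) (τ : Perm (Fin N)) : ct p (b ∘ τ) = ct p b :=
  funext fun _ => card_bijective τ τ.bijective (by simp)

theorem ct_add {p k : ℕ} (h : p ∣ k) (b : Fin N → ℕ) (i : Fin N) : ct p (b + Pi.single i k) = ct p b := by
  obtain ⟨k, rfl⟩ := h
  ext r; simp only [ct]; congr 1; ext j
  by_cases e : j = i <;> simp [e]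

theorem sum_reg_eq_zero {p : ℕ} (hp : p.Prime) {S T : Fin n → ℕ} (hS : S ∈ SS n (n + ∑ i : Fin n, i.val))
    (hT : T ∈ SS n (n + ∑ i : Fin n, i.val)) (h : ct p S ≠ ct p T) :
    ∑ τ : Perm (Fin n) with ¬ p ∣ orderOf τ, XS S τ * XS T τ = 0 := by
  classical
  let K := fun σ τ : Perm (Fin n) => ∑ U ∈ SS n (n + ∑ i : Fin n, i.val) with ct p U = ct p S, XS U σ * XS U τ
  have h1 : ∀ σ τ, p ∣ orderOf σ → ¬ p ∣ orderOf τ → K σ τ = 0 := fun σ τ hσ hτ => by
    obtain ⟨k, hk, hpk⟩ : ∃ k ∈ σ.cycleType, p ∣ k := (Nat.prime_iff.1 hp).exists_mem_multiset_dvd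
      (hσ.trans (by rw [← Perm.lcm_cycleType]; exact Multiset.lcm_dvd.2 fun _ => Multiset.dvd_prod))
    obtain ⟨s, hs⟩ := Multiset.exists_cons_of_mem hk
    have := pr_psum_mul (fun U => ct p U = ct p S) (fun _ _ => by rw [ct_comp]) (n + ∑ i : Fin n, i.val) k
      (fun _ _ => by rw [ct_add hpk]) (g := ((s.map (psum (Fin n) ℤ)).prod * psum (Fin n) ℤ 1 ^ (n - (k + s.sum))) * alt Fin.val)
      ((alt_alt _).mul fun τ => by rw [map_mul, map_pow, map_multiset_prod, Multiset.map_map, rename_psum]; simp) (alt_PP τ)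
      (sum_cf_eq_zero (Perm.two_le_of_mem_cycleType hk) fun h => hτ (hpk.trans (Perm.dvd_of_mem_cycleType h)))
    rw [← this]
    simp only [K, pr, XS, PP_cycleType σ, hs, Multiset.map_cons, Multiset.prod_cons, Multiset.sum_cons, Fintype.card_fin]
    exact sum_congr rfl fun U _ => by congr 2; ring
  have h2 : ∀ U ∈ (SS n (n + ∑ i : Fin n, i.val)).filter (fun U => ct p U = ct p S), ∀ V ∈ SS n (n + ∑ i : Fin n, i.val),
      ∑ τ : Perm (Fin n), XS U τ * XS V τ = if U = V then (n.factorial : ℤ) else 0 := fun U hU V hV => by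
    rw [sum_XS U (mem_SS.1 hV).1, cf_alt (mem_SS.1 (mem_filter.1 hU).1).2 (mem_SS.1 hV).2]; simp
  have h3 : ∀ σ, ∑ τ with ¬ p ∣ orderOf τ, K σ τ * XS T τ = 0 := fun σ => by
    by_cases hσ : p ∣ orderOf σ
    · exact sum_eq_zero fun τ hτ => by rw [h1 σ τ hσ (mem_filter.1 hτ).2, zero_mul]
    · rw [sum_filter_of_ne (p := fun τ => ¬ p ∣ orderOf τ) fun τ _ e hτ => e (by
        rw [show K σ τ = K τ σ from sum_congr rfl fun _ _ => mul_comm _ _, h1 τ σ hτ hσ, zero_mul])]
      simp only [K, sum_mul, mul_assoc]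
      rw [sum_comm]
      refine sum_eq_zero fun U hU => ?_
      rw [← mul_sum, h2 U hU T hT, if_neg, mul_zero]
      rintro rfl
      exact h (mem_filter.1 hU).2.symm
  have h4 : ∑ σ, XS S σ * ∑ τ with ¬ p ∣ orderOf τ, K σ τ * XS T τ =
      n.factorial * ∑ τ : Perm (Fin n) with ¬ p ∣ orderOf τ, XS S τ * XS T τ := by
    simp only [mul_sum, K, sum_mul]
    rw [sum_comm]
    refine sum_congr rfl fun τ _ => ?_
    rw [sum_comm, sum_congr rfl (g := fun U => if U = S then n.factorial * (XS U τ * XS T τ) else 0) fun U hU => by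
      rw [← ite_zero_mul, ← h2 U hU S hS, sum_mul]; exact sum_congr rfl fun _ _ => by ring, sum_ite_eq', if_pos (by simp [hS])]
  simpa [h3, n.factorial_ne_zero] using h4.symm

end H24.Sym
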