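import Mathlib
import Cfsg.Agent.H24.T26

/-!
BG Lemma 2.7 (namespace H24): `exists_pow_action` (action on a group of prime order by a power map), `prfT2_7`.
-/

set_option autoImplicit false
open Cfsg BG

namespace H24

universe u

variable {X : Type u} [Group X] [Finite X]

theorem exists_pow_action {W : Subgroup X} (hW : IsCyclic W) {a : X} (ha : a ∈ N_(W)) :
    ∃ r : ℕ, ∀ x ∈ W, a * x * a⁻¹ = x ^ r := by
  obtain ⟨w, rfl⟩ := cyclic_iff.mp hW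
  have h1 := conj_mem_of_norm ha (Subgroup.mem_zpowers w)
  obtain ⟨r, hr⟩ := (mem_powers_iff_mem_zpowers.mpr h1)
  refine ⟨r, ?_⟩
  rintro _ ⟨k, rfl⟩
  simp only at hr ⊢
  rw [← conj_zpow, ← hr, ← zpow_natCast, ← zpow_natCast, ← zpow_mul, ← zpow_mul, mul_comm]

omit [Finite X] in
theorem pow_action_pow {W : Subgroup X} {a : X} {r : ℕ} (h : ∀ x ∈ W, a * x * a⁻¹ = x ^ r)
    (k : ℕ) : ∀ x ∈ W, a ^ k * x * (a ^ k)⁻¹ = x ^ r ^ k := by
  induction k with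
  | zero => simp
  | succ k ih =>
    intro x hx
    calc a ^ (k + 1) * x * (a ^ (k + 1))⁻¹ = a ^ k * (a * x * a⁻¹) * (a ^ k)⁻¹ := by
          rw [pow_succ]; group
      _ = _ := by rw [h x hx, ih _ (W.pow_mem hx r), ← pow_mul, pow_succ']

omit [Finite X] in
theorem pow_action_modEq {p : ℕ} (hp : p.Prime) {W : Subgroup X} (hW : Nat.card W = p) {a : X}
    {r : ℕ} (h : ∀ x ∈ W, a * x * a⁻¹ = x ^ r) : r ≡ 1 [MOD p] ↔ a ∈ C_(W) := by
  constructor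
  · intro h1 x hx
    have h2 : x ^ r = x ^ 1 := by
      rw [pow_eq_pow_iff_modEq]
      exact h1.of_dvd (hW ▸ orderOf_dvd_card hx)
    rw [← h x hx, pow_one, mul_inv_eq_iff_eq_mul] at h2
    exact h2.symm
  · intro h1
    obtain ⟨x, hx, hx1⟩ := exists_mem_ne_one (ne_bot_of_prime (hW ▸ hp))
    have h2 := h x hx
    rw [← h1 x hx, mul_inv_cancel_right] at h2
    have h3 : orderOf x = p := by rw [← card_zpowers, zpowers_eq_of_prime (hW ▸ hp) hx hx1, hW]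
    rw [← h3, ← pow_eq_pow_iff_modEq, ← h2, pow_one]

theorem T2_7_ne {p q : ℕ} (hp : p.Prime) (hq : q.Prime) {P Q : Subgroup X} (hP : IsElem p 2 P ⊤)
    (hQ : IsElem q 2 Q ⊤) (hn : Q ≤ N_(P)) (hf : Q ⊓ C_(P) = ⊥) : p ≠ q := by
  rintro rfl
  have hPp : IsPGroup p P := pg_of_card hP.2.2
  have hQ1 : Q ≠ ⊥ := ne_bot_of_card hp two_ne_zero hQ.2.2
  have hW1 := pg_fix_ne_bot hp (pg_of_card hQ.2.2) hPp hn (ne_bot_of_card hp two_ne_zero hP.2.2)
  have hW : P ⊓ C_(Q) < P := lt_of_le_of_ne inf_le_left fun h =>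
    hQ1 (eq_bot_mono hf (le_inf le_rfl (cent_symm (h.ge.trans inf_le_right))))
  obtain ⟨v, hv, hvW⟩ := SetLike.exists_of_lt hW
  obtain ⟨h3, h4⟩ := card_eq_of_lt_sq hp hPp hP.2.2.le hW hW1
  have h5 : P ⊓ C_(Q) ⊔ Subgroup.zpowers v = P := by
    by_contra h
    have h6 : P ⊓ C_(Q) ⊔ Subgroup.zpowers v < P :=
      lt_of_le_of_ne (sup_le inf_le_left ((Subgroup.zpowers_le (G := X)).mpr hv)) h
    have h7 := (card_eq_of_lt_sq hp hPp hP.2.2.le h6 (ne_bot_mono hW1 le_sup_left)).1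
    exact hvW ((eq_of_le_of_card_eq le_sup_left (h3.trans h7.symm)).ge
      (Subgroup.mem_sup_right (Subgroup.mem_zpowers v)))
  let g : Q → P := fun a => ⟨a * v * (a : X)⁻¹, conj_mem_of_norm (hn a.2) hv⟩
  have hg : Function.Injective g := by
    intro a b hab
    have h6 : (a : X) * v * (a : X)⁻¹ = b * v * (b : X)⁻¹ := congrArg Subtype.val hab
    have h7 : (b : X)⁻¹ * a ∈ Q := Q.mul_mem (Q.inv_mem b.2) a.2
    have h8 : (b : X)⁻¹ * a ∈ C_(P) := by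
      rw [← h5, cent_sup, cent_zpowers]
      refine ⟨cent_symm inf_le_right h7, mem_cent1.mpr ?_⟩
      calc (b : X)⁻¹ * a * v = (b : X)⁻¹ * (a * v * (a : X)⁻¹) * a := by group
        _ = _ := by rw [h6]; group
    exact Subtype.ext (inv_mul_eq_one.mp (eq_one_of_mem_of_disj hf h7 h8)).symm
  obtain ⟨a, ha⟩ := ((Nat.bijective_iff_injective_and_card g).mpr
    ⟨hg, hQ.2.2.trans hP.2.2.symm⟩).2 1
  have h9 : (a : X) * v * (a : X)⁻¹ = 1 := congrArg Subtype.val ha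
  rw [mul_inv_eq_one, mul_eq_left] at h9
  exact hvW (h9 ▸ one_mem _)

theorem prfT2_7 : BG.T2_7.{u} := ⟨by
  intro G _ _ p q hp hq P Q hP hQ hn hf
  have hp' := hp.out
  have hq' := hq.out
  have hpq := T2_7_ne hp' hq' hP hQ hn hf
  have hPp : IsPGroup p P := pg_of_card hP.2.2
  have hQp : IsPGroup q Q := pg_of_card hQ.2.2
  have hQc : ¬ IsCyclic Q := H02.not_isCyclic_of_pow_eq_one hq' (hQ.2.2.trans (sq q))
    fun x => Subtype.ext (hQ.2.1.2 x x.2)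
  have key : ∀ W ≤ P, W ≠ ⊥ → Q ≤ N_(W) → ∃ a ∈ Q, a ≠ 1 ∧ W ⊓ C_[a] ≠ ⊥ := by
    intro W hW hW1 hQW
    by_contra h
    push Not at h
    have := abelian_of_le hP.2.1.1 hW
    exact hQc (H02.isCyclic_of_fpf_abelian hW1 hQW h (Or.inl hQ.2.1.1))
  obtain ⟨a, ha, ha1, h1⟩ := key P le_rfl (ne_bot_of_card hp' two_ne_zero hP.2.2) hn
  have hz : Subgroup.zpowers a ≤ Q := (Subgroup.zpowers_le (G := G)).mpr ha
  have hD := coprime_abelian_dprod (hz.trans hn)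
    (pg_coprime_ne hq' hp' (pg_le hQp hz) hPp hpq.symm) hP.2.1.1
  rw [cent_zpowers] at hD
  have h2 : P ⊓ C_[a] < P := lt_of_le_of_ne inf_le_left fun h =>
    ha1 (eq_one_of_mem_of_disj hf ha (le_cent1_iff.mp (h.ge.trans inf_le_right)))
  have h3 := (card_eq_of_lt_sq hp' hPp hP.2.2.le h2 h1).1
  have h4 : Nat.card ↥⁅P, Subgroup.zpowers a⁆ = p := by
    have := hD.card
    rw [hP.2.2, h3, sq] at this
    exact (Nat.eq_of_mul_eq_mul_left hp'.pos this).symm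
  have hn1 : Q ≤ N_(P ⊓ C_[a]) := norm_inf hn (norm_cent1 (le_cent1_iff.mpr
    (abelian_iff.mp hQ.2.1.1 ha)))
  have hn2 : Q ≤ N_(⁅P, Subgroup.zpowers a⁆) := norm_comm hn (le_norm_of_abelian hQ.2.1.1 hz)
  obtain ⟨b, hb, hb1, h5⟩ := key _ hD.le_right (ne_bot_of_prime (h4 ▸ hp')) hn2
  have h6 : b ∈ C_(⁅P, Subgroup.zpowers a⁆) :=
    le_cent1_iff.mp (le_of_prime_of_inf_ne (h4 ▸ hp') h5)
  have h7 : a ∈ C_(P ⊓ C_[a]) := le_cent1_iff.mp inf_le_right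
  obtain ⟨r, hr⟩ := exists_pow_action (cyclic_of_prime (h3 ▸ hp')) (hn1 hb)
  obtain ⟨s, hs⟩ := exists_pow_action (cyclic_of_prime (h4 ▸ hp')) (hn2 ha)
  have hr1 : ¬ r ≡ 1 [MOD p] := fun h => hb1 (eq_one_of_mem_of_disj hf hb (by
    rw [← hD.sup, cent_sup]; exact ⟨(pow_action_modEq hp' h3 hr).mp h, h6⟩))
  have hs1 : ¬ s ≡ 1 [MOD p] := fun h => ha1 (eq_one_of_mem_of_disj hf ha (by
    rw [← hD.sup, cent_sup]; exact ⟨h7, (pow_action_modEq hp' h4 hs).mp h⟩))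
  have hrq : r ^ q ≡ 1 [MOD p] := (pow_action_modEq hp' h3 (pow_action_pow hr q)).mpr (by
    rw [hQ.2.1.2 b hb]; exact one_mem _)
  have hsq : s ^ q ≡ 1 [MOD p] := (pow_action_modEq hp' h4 (pow_action_pow hs q)).mpr (by
    rw [hQ.2.1.2 a ha]; exact one_mem _)
  have e : ∀ n : ℕ, n ≡ 1 [MOD p] ↔ (n : ZMod p) = 1 := fun n => by
    rw [← ZMod.natCast_eq_natCast_iff, Nat.cast_one]
  have hprim : IsPrimitiveRoot (s : ZMod p) q := by
    have h8 : orderOf (s : ZMod p) = q :=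
      orderOf_eq_prime (by simpa using (e _).mp hsq) (fun h => hs1 ((e _).mpr h))
    rw [← h8]; exact IsPrimitiveRoot.orderOf _
  have : NeZero q := ⟨hq'.ne_zero⟩
  obtain ⟨k, -, hk⟩ := hprim.eq_pow_of_pow_eq_one (ξ := (r : ZMod p))
    (by simpa using (e _).mp hrq)
  have hk' : s ^ k ≡ r [MOD p] := by
    rw [← ZMod.natCast_eq_natCast_iff]; simpa using hk
  have hc : ∀ x ∈ P, a ^ k * b * x * (a ^ k * b)⁻¹ = x ^ r := by
    intro x hx
    obtain ⟨x1, hx1, x2, hx2, rfl⟩ := hD.mem.mp hx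
    have e1 : a ^ k * b * x1 * (a ^ k * b)⁻¹ = x1 ^ r := by
      calc _ = a ^ k * (b * x1 * b⁻¹) * (a ^ k)⁻¹ := by group
        _ = _ := by
          rw [hr x1 hx1, ← Subgroup.pow_mem _ h7 k _ (Subgroup.pow_mem _ hx1 r),
            mul_inv_cancel_right]
    have e2 : a ^ k * b * x2 * (a ^ k * b)⁻¹ = x2 ^ r := by
      calc _ = a ^ k * (b * x2 * b⁻¹) * (a ^ k)⁻¹ := by group
        _ = _ := by
          rw [← h6 x2 hx2, mul_inv_cancel_right, pow_action_pow hs k x2 hx2, pow_eq_pow_iff_modEq]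
          exact hk'.of_dvd (h4 ▸ orderOf_dvd_card hx2)
    rw [Commute.mul_pow (mul_comm_of_abelian hP.2.1.1 hx1.1 (hD.le_right hx2)), ← e1, ← e2]
    group
  refine ⟨?_, a ^ k * b, Q.mul_mem (Q.pow_mem ha k) hb, fun h => hr1 ?_, r, hc, hrq, hr1⟩
  · have h8 : (s : ZMod p) ≠ 0 := hprim.ne_zero hq'.ne_zero
    exact hprim.dvd_of_pow_eq_one _ (ZMod.pow_card_sub_one_eq_one h8)
  · refine (pow_action_modEq hp' h3 fun x hx => hc x hx.1).mpr ?_
    rw [h]; exact one_mem _⟩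

end H24
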