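import Mathlib.Algebra.CharP.Two
import Mathlib.Algebra.CharP.Lemmas
import Mathlib.Algebra.Module.ZMod
import Mathlib.GroupTheory.PGroup
import Mathlib.Tactic

/-!
# An automorphism of order 3 commuting with an automorphism of Fermat prime order (namespace `H24.ZJ`)

* `alg` : the characteristic 2 computation; `gl3` : the version for a 2-group of class 2
-/

set_option autoImplicit false

open Finset

namespace H24.ZJ

section alg
variable {R U : Type*} [CommRing R] [AddCommGroup U] [Module R U]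

theorem geom {η : R} {r : ℕ} (h : η ^ r = 1) (hf : ∀ u : U, η • u = u → u = 0) (v : U) :
    (∑ k ∈ range r, η ^ k) • v = 0 := hf _ (by
  rw [← sub_eq_zero, ← one_smul R ((∑ k ∈ range r, η ^ k) • v), smul_smul, smul_smul, smul_smul, ← sub_smul, mul_one,
    one_mul, ← sub_one_mul, mul_geom_sum, h, sub_self, zero_smul])

theorem tau_eq [CharP R 2] (x y : R) (m : ℕ) : ∑ j ∈ range (2 * m), (x ^ 2 ^ j + y ^ 2 ^ j) =
    (∑ i ∈ range m, (x ^ 4 ^ i + y ^ 4 ^ i)) + (∑ i ∈ range m, (x ^ 4 ^ i + y ^ 4 ^ i)) ^ 2 := by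
  induction m with
  | zero => simp
  | succ m ih =>
    rw [show 2 * (m + 1) = 2 * m + 1 + 1 by ring, sum_range_succ, sum_range_succ, ih, sum_range_succ, CharTwo.add_sq,
      CharTwo.add_sq, ← pow_mul, ← pow_mul, pow_succ 2, pow_mul 2 2]
    norm_num
    ring

theorem tau_sq [CharP R 2] {x y : R} {n : ℕ} (hx : x ^ 2 ^ n = y) (hy : y ^ 2 ^ n = x) :
    (∑ j ∈ range n, (x ^ 2 ^ j + y ^ 2 ^ j)) ^ 2 = ∑ j ∈ range n, (x ^ 2 ^ j + y ^ 2 ^ j) := by
  have h := (sum_range_succ (fun j => x ^ 2 ^ j + y ^ 2 ^ j) n).symm.trans (sum_range_succ' _ n)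
  rw [hx, hy, pow_zero, pow_one, pow_one, add_comm y, add_left_inj] at h
  rw [CharTwo.sum_sq]
  refine (sum_congr rfl fun j _ => ?_).trans h.symm
  rw [CharTwo.add_sq, ← pow_mul, ← pow_mul, pow_succ]

theorem alg (h2 : (2 : R) = 0) {ρ c : R} {r m : ℕ} (hr : r.Prime) (hm : 0 < m) (hrm : r = 2 ^ (2 * m) + 1)
    (hρ : ρ ^ r = 1) (hc : c ^ 3 = 1) (hN : ∀ u : U, (∑ k ∈ range r, ρ ^ k) • u = 0) (P : U → U → Prop)
    (p0 : ∀ u, P u 0) (p1 : ∀ u v w, P u v → P u w → P u (v + w))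
    (p2 : ∀ u a b, ρ ^ a * ρ ^ b = 1 → P u ((ρ ^ a + ρ ^ b) • u)) (p3 : ∀ u, P u (c ^ 2 • u) → P u (c • u))
    (hI : ∀ u, (1 + c + c ^ 2) • u = 0 → P u (c • u) → u = 0) (u : U) : c • u = u := by
  by_cases h1 : (1 : R) = 0
  · rw [← one_smul R u, h1]; simp
  have := CharTwo.of_one_ne_zero_of_two_eq_zero h1 h2
  have hr1 : (r : R) = 1 := by
    rw [hrm]; push_cast; rw [h2, zero_pow (by omega), zero_add]
  have hf : ∀ a, ¬ r ∣ a → ∀ u : U, ρ ^ a • u = u → u = 0 := fun a ha u h => by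
    have hk : ∀ (η : R), η • u = u → ∀ k, η ^ k • u = u := fun η h k => by
      induction k with
      | zero => simp
      | succ k ih => rw [pow_succ, mul_smul, h, ih]
    obtain ⟨b, -, hb⟩ := Nat.exists_mul_mod_eq_one_of_coprime (hr.coprime_iff_not_dvd.2 ha).symm hr.one_lt
    have h3 : ρ • u = u := by
      have := hk _ h b
      rwa [← pow_mul, pow_eq_pow_mod _ hρ, hb, pow_one] at this
    have := hN u
    rwa [sum_smul, sum_congr rfl fun k _ => hk _ h3 k, sum_const, card_range, ← Nat.cast_smul_eq_nsmul R, hr1,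
      one_smul] at this
  have hn : 1 < 2 ^ (2 * m) := Nat.one_lt_two_pow (by omega)
  obtain ⟨s, hs⟩ : ∃ s, s = 2 ^ (2 * m) := ⟨_, rfl⟩
  have hi : ρ * ρ ^ s = 1 := by rw [← pow_succ', hs, ← hrm, hρ]
  have hi' : (ρ ^ s) ^ s = ρ := by
    calc (ρ ^ s) ^ s = (ρ ^ s) ^ s * (ρ * ρ ^ s) := by rw [hi, mul_one]
      _ = ρ * (ρ ^ s) ^ (s + 1) := by ring
      _ = ρ := by rw [hs, ← hrm, ← pow_mul, mul_comm _ r, pow_mul, hρ, one_pow, mul_one]
  have key : ∀ v : U, (1 + c + c ^ 2) • v = 0 → v = 0 := fun v hv => by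
    have ht : ∀ k, (∑ j ∈ range (2 * m), ((ρ ^ k) ^ 2 ^ j + ((ρ ^ s) ^ k) ^ 2 ^ j)) • v = 0 := fun k => by
      have t1 := tau_sq (x := ρ ^ k) (y := (ρ ^ s) ^ k) (n := 2 * m) (by rw [← hs]; ring)
        (by rw [← hs, ← pow_mul, mul_comm k, pow_mul, hi'])
      have t2 := tau_eq (ρ ^ k) ((ρ ^ s) ^ k) m
      have t3 : ∀ u, P u ((∑ i ∈ range m, ((ρ ^ k) ^ 4 ^ i + ((ρ ^ s) ^ k) ^ 4 ^ i)) • u) := fun u => by
        rw [sum_smul]
        refine sum_induction _ (P u) (p1 u) (p0 u) fun i _ => ?_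
        have := p2 u (k * 4 ^ i) (s * (k * 4 ^ i)) (by rw [pow_mul ρ s, ← mul_pow, hi, one_pow])
        rwa [pow_mul ρ s, pow_mul, pow_mul] at this
      generalize ∑ j ∈ range (2 * m), ((ρ ^ k) ^ 2 ^ j + ((ρ ^ s) ^ k) ^ 2 ^ j) = τ at *
      generalize ∑ i ∈ range m, ((ρ ^ k) ^ 4 ^ i + ((ρ ^ s) ^ k) ^ 4 ^ i) = θ at *
      have z : ∀ a : R, (a * (1 + c + c ^ 2)) • v = 0 := fun a => by rw [mul_smul, hv, smul_zero]
      have e1 : ((θ + c ^ 2) * τ) • v = 0 := hI _ (by rw [smul_smul, mul_comm, z]) (by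
        have := t3 (((θ + c ^ 2) * τ) • v)
        rwa [smul_smul, show θ * ((θ + c ^ 2) * τ) = c * ((θ + c ^ 2) * τ) + (θ * τ) * (1 + c + c ^ 2) by
          linear_combination τ * t2 - t1 - τ * hc + (θ ^ 2 * τ - τ - c * θ * τ) * h2, add_smul, z, add_zero,
          mul_smul c] at this)
      have e2 : ((θ + c) * τ) • v = 0 := hI _ (by rw [smul_smul, mul_comm, z]) (p3 _ (by
        have := t3 (((θ + c) * τ) • v)
        rwa [smul_smul, show θ * ((θ + c) * τ) = c ^ 2 * ((θ + c) * τ) + (θ * τ) * (1 + c + c ^ 2) by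
          linear_combination τ * t2 - t1 - τ * hc + (θ ^ 2 * τ - τ - c ^ 2 * θ * τ) * h2, add_smul, z, add_zero,
          mul_smul (c ^ 2)] at this))
      rw [show τ = (θ + c ^ 2) * τ + (θ + c) * τ + τ * (1 + c + c ^ 2) by
        linear_combination (-(θ * τ) - c * τ - c ^ 2 * τ) * h2, add_smul, add_smul, e1, e2, z]
      simp
    have h3 : ∑ k ∈ range r, (ρ ^ s) ^ k • (∑ j ∈ range (2 * m), ((ρ ^ k) ^ 2 ^ j + ((ρ ^ s) ^ k) ^ 2 ^ j)) • v = 0 :=
      sum_eq_zero fun k _ => by rw [ht, smul_zero]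
    simp only [sum_smul, smul_sum, smul_smul] at h3
    rw [sum_comm] at h3
    have h4 : ∀ j ∈ range (2 * m), ∑ k ∈ range r, ((ρ ^ s) ^ k * ((ρ ^ k) ^ 2 ^ j + ((ρ ^ s) ^ k) ^ 2 ^ j)) • v =
        if j = 0 then v else 0 := fun j hj => by
      have hj' : 2 * 2 ^ j ≤ s := by
        rw [hs, ← pow_succ']; exact Nat.pow_le_pow_right (by norm_num) (mem_range.1 hj)
      have hp : 0 < 2 ^ j := by positivity
      obtain ⟨t, ht⟩ : ∃ t, 2 ^ j = t + 1 := ⟨2 ^ j - 1, by omega⟩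
      have e : ∀ k, (ρ ^ s) ^ k * ((ρ ^ k) ^ 2 ^ j + ((ρ ^ s) ^ k) ^ 2 ^ j) =
          (ρ ^ t) ^ k + (ρ ^ (s * (t + 2))) ^ k := fun k => by
        have : (ρ * ρ ^ s) ^ k = 1 := by rw [hi, one_pow]
        rw [ht]
        linear_combination (ρ ^ t) ^ k * this
      have g : ∀ a, ¬ r ∣ a → (∑ k ∈ range r, (ρ ^ a) ^ k) • v = 0 := fun a ha =>
        geom (by rw [← pow_mul, mul_comm, pow_mul, hρ, one_pow]) (hf a ha) v
      simp only [e, add_smul, sum_add_distrib, ← sum_smul]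
      rw [g (s * (t + 2)) (fun h => (hr.dvd_mul.1 h).elim (fun h => by have := Nat.le_of_dvd (by omega) h; omega)
        fun h => by have := Nat.le_of_dvd (by omega) h; omega), add_zero]
      split_ifs with h
      · subst h
        obtain rfl : t = 0 := by omega
        simp [hr1]
      · have := Nat.one_lt_two_pow h
        exact g t fun h => by have := Nat.le_of_dvd (by omega) h; omega
    rwa [sum_congr rfl h4, sum_ite_eq', if_pos (mem_range.2 (by omega))] at h3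
  have := key ((c - 1) • u) (by rw [smul_smul, show (1 + c + c ^ 2) * (c - 1) = 0 by linear_combination hc, zero_smul])
  rwa [sub_smul, one_smul, sub_eq_zero] at this

end alg

section gl3
variable {E : Type*} [Group E]

/-- the induced endomorphism of `E / Z` -/
def en (Z : Subgroup E) [Z.Normal] [IsMulCommutative (E ⧸ Z)] (a : MulAut E) (h : ∀ z ∈ Z, a z = z) :
    AddMonoid.End (Additive (E ⧸ Z)) :=
  MonoidHom.toAdditive (QuotientGroup.map Z Z a.toMonoidHom fun z hz => by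
    rw [Subgroup.mem_comap]; exact (h z hz).symm ▸ hz)

open scoped IsMulCommutative commutatorElement in
theorem gl3 (hE : IsPGroup 2 E) (Z : Subgroup E) (hZ : Z ≤ Subgroup.center E) {c ρ : MulAut E} {r m : ℕ}
    (hr : r.Prime) (hm : 0 < m) (hrm : r = 2 ^ (2 * m) + 1) (hρ : ρ ^ r = 1) (hc : c ^ 3 = 1) (hcρ : c * ρ = ρ * c)
    (cm : ∀ f g : E, ⁅f, g⁆ ∈ Z) (sq : ∀ f, f * f ∈ Z) (zr : ∀ z ∈ Z, ρ z = z) (zc : ∀ z ∈ Z, c z = z)
    (gen : ∀ K : Subgroup E, (∀ f (i : ℕ), (ρ ^ i) f * f⁻¹ ∈ K) → K = ⊤)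
    (H : ∀ f, f * c f * c (c f) ∈ Z → f * c f = c f * f → c f = f) (f : E) : c f = f := by
  have : Z.Normal := ⟨fun z hz g => by rwa [Subgroup.mem_center_iff.1 (hZ hz) g, mul_inv_cancel_right]⟩
  have : IsMulCommutative (E ⧸ Z) := ⟨⟨fun a b => by
    obtain ⟨a, rfl⟩ := QuotientGroup.mk_surjective a
    obtain ⟨b, rfl⟩ := QuotientGroup.mk_surjective b
    rw [← QuotientGroup.mk_mul, ← QuotientGroup.mk_mul, QuotientGroup.eq]
    simpa [commutatorElement_def, mul_assoc] using cm b⁻¹ a⁻¹⟩⟩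
  have hcm : ∀ x ∈ ({en Z ρ zr, en Z c zc} : Set (AddMonoid.End (Additive (E ⧸ Z)))),
      ∀ y ∈ ({en Z ρ zr, en Z c zc} : Set (AddMonoid.End (Additive (E ⧸ Z)))), x * y = y * x := by
    have : en Z ρ zr * en Z c zc = en Z c zc * en Z ρ zr := AddMonoidHom.ext fun u => by
      obtain ⟨a, rfl⟩ := QuotientGroup.mk_surjective (s := Z) u
      exact congrArg (fun t : MulAut E => ((t a : E) : E ⧸ Z)) hcρ.symm
    rintro _ (rfl | rfl) _ (rfl | rfl)
    exacts [rfl, this, this.symm, rfl]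
  letI := Subring.closureCommRingOfComm hcm
  let ρ' : Subring.closure ({en Z ρ zr, en Z c zc} : Set _) := ⟨_, Subring.subset_closure (Or.inl rfl)⟩
  let c' : Subring.closure ({en Z ρ zr, en Z c zc} : Set _) := ⟨_, Subring.subset_closure (Or.inr rfl)⟩
  let π : E → Additive (E ⧸ Z) := fun f => Additive.ofMul (f : E ⧸ Z)
  have πs : ∀ u, ∃ f, π f = u := fun u => QuotientGroup.mk_surjective (s := Z) u
  have πm : ∀ f g, π (f * g) = π f + π g := fun _ _ => rfl
  have π0 : ∀ f, π f = 0 ↔ f ∈ Z := fun f => QuotientGroup.eq_one_iff f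
  have πe : ∀ f g, π f = π g ↔ f⁻¹ * g ∈ Z := fun f g => QuotientGroup.eq
  have hc1 : ∀ f, c' • π f = π (c f) := fun _ => rfl
  have hρk : ∀ k f, ρ' ^ k • π f = π ((ρ ^ k) f) := fun k => by
    induction k with
    | zero => intro f; rw [pow_zero, one_smul]; rfl
    | succ k ih => intro f; rw [pow_succ, mul_smul, pow_succ, MulAut.mul_apply, ← ih]; rfl
  have ext : ∀ a b : Subring.closure ({en Z ρ zr, en Z c zc} : Set _), (∀ f, a • π f = b • π f) → a = b :=
    fun a b h => Subtype.ext (AddMonoidHom.ext fun u => by obtain ⟨f, rfl⟩ := πs u; exact h f)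
  have hρ' : ρ' ^ r = 1 := ext _ _ fun f => by rw [hρk, hρ, one_smul]; rfl
  have c3 : ∀ f, c (c (c f)) = f := fun f => by
    rw [← MulAut.mul_apply, ← MulAut.mul_apply, ← pow_two, ← pow_succ, hc]; rfl
  have cz : ∀ f g z, z ∈ Z → Commute f g → Commute f (g * z) := fun f g z hz h =>
    h.mul_right (Subgroup.mem_center_iff.1 (hZ hz) f)
  have key := alg (U := Additive (E ⧸ Z)) (ρ := ρ') (c := c') (ext _ _ fun f => by
      rw [two_smul, zero_smul, ← πm, π0]; exact sq f) hr hm hrm hρ'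
    (ext _ _ fun f => by rw [pow_three, mul_smul, mul_smul, hc1, hc1, hc1, c3, one_smul]) (fun u => by
      obtain ⟨f, rfl⟩ := πs u
      let K : Subgroup E :=
        { carrier := {f | (∑ k ∈ range r, ρ' ^ k) • π f = 0}
          mul_mem' := fun {a b} ha hb => by
            rw [Set.mem_ofPred_eq] at *; rw [πm, smul_add, ha, hb, add_zero]
          one_mem' := smul_zero _
          inv_mem' := fun {a} ha => by
            rw [Set.mem_ofPred_eq] at *; rw [show π a⁻¹ = -π a from rfl, smul_neg, ha, neg_zero] }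
      refine (gen K fun f i => ?_).ge (Subgroup.mem_top f)
      change (∑ k ∈ range r, ρ' ^ k) • π _ = 0
      obtain ⟨t, ht⟩ := sub_one_dvd_pow_sub_one ρ' i
      rw [πm, ← hρk, show π f⁻¹ = -π f from rfl, ← sub_eq_add_neg, ← one_smul (Subring.closure
        ({en Z ρ zr, en Z c zc} : Set _)) (π f), smul_smul, ← sub_smul, smul_smul, mul_one, ht, ← mul_assoc,
        geom_sum_mul, hρ', sub_self, zero_mul, zero_smul])
    (fun u v => ∃ f g, π f = u ∧ π g = v ∧ Commute f g)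
    (fun u => by obtain ⟨f, rfl⟩ := πs u; exact ⟨f, 1, rfl, rfl, Commute.one_right f⟩)
    (by
      rintro _ _ _ ⟨f, g, rfl, rfl, h⟩ ⟨f', g', e, rfl, h'⟩
      refine ⟨f, g * g', rfl, rfl, h.mul_right ?_⟩
      have := (h'.symm.mul_right (Subgroup.mem_center_iff.1 (hZ ((πe _ _).1 e)) g')).symm
      rwa [mul_inv_cancel_left] at this)
    (fun u a b hab => by
      obtain ⟨f, rfl⟩ := πs u
      refine ⟨f, (ρ ^ a) f * (ρ ^ b) f, rfl, by rw [add_smul, hρk, hρk, πm], ?_⟩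
      have h1 : π ((ρ ^ a) ((ρ ^ b) f)) = π f := by rw [← hρk, ← hρk, smul_smul, hab, one_smul]
      have h2 : ∀ z ∈ Z, (ρ ^ a) z = z := fun z hz => by
        clear h1 hab
        induction a with
        | zero => rfl
        | succ a ih => rw [pow_succ, MulAut.mul_apply, zr z hz, ih]
      have h3 := h2 _ (cm f ((ρ ^ b) f))
      obtain ⟨z, hz, e⟩ : ∃ z ∈ Z, (ρ ^ a) ((ρ ^ b) f) = f * z :=
        ⟨_, (πe _ _).1 h1.symm, (mul_inv_cancel_left _ _).symm⟩
      rw [map_commutatorElement, e] at h3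
      have h4 := Subgroup.mem_center_iff.1 (hZ hz)
      have h5 := Subgroup.mem_center_iff.1 (hZ (cm f ((ρ ^ b) f)))
      generalize (ρ ^ a) f = x at *
      generalize (ρ ^ b) f = y at *
      have h6 : ⁅x, f * z⁆ = ⁅x, f⁆ := by
        rw [commutatorElement_def, commutatorElement_def, mul_inv_rev]
        calc x * (f * z) * x⁻¹ * (z⁻¹ * f⁻¹) = x * f * (z * x⁻¹) * z⁻¹ * f⁻¹ := by group
          _ = _ := by rw [← h4]; group
      rw [h6] at h3
      calc f * (x * y) = ⁅x, f⁆⁻¹ * x * (⁅f, y⁆ * y) * f := by simp only [commutatorElement_def]; group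
        _ = x * y * f := by rw [h3, ← mul_assoc, mul_assoc _ x, h5 x]; group)
    (by
      rintro _ ⟨f, g, rfl, e, h⟩
      refine ⟨f, c f, rfl, rfl, ?_⟩
      rw [pow_two, mul_smul, hc1, hc1, πe] at e
      have := (cz _ _ _ e h).map c
      rw [mul_inv_cancel_left, c3] at this
      exact this.symm)
    (by
      rintro _ hu ⟨f, g, rfl, e, h⟩
      rw [add_smul, add_smul, one_smul, pow_two, mul_smul, hc1, hc1, ← πm, ← πm, π0] at hu
      rw [hc1, πe] at e
      have := cz _ _ _ e h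
      rw [mul_inv_cancel_left] at this
      have h1 := H f hu this
      rw [h1, h1] at hu
      exact (π0 f).2 ((Z.mul_mem_cancel_left (sq f)).1 hu)) (π f)
  rw [hc1, πe] at key
  obtain ⟨z, hz, e⟩ : ∃ z ∈ Z, c f = f * z := ⟨_, by simpa using Z.inv_mem key, (mul_inv_cancel_left _ _).symm⟩
  have h3 := c3 f
  rw [e, map_mul, zc z hz, e, map_mul, map_mul, zc z hz, e, mul_assoc, mul_assoc, mul_eq_left, ← pow_three] at h3
  obtain ⟨k, hk⟩ := hE z
  have := orderOf_dvd_of_pow_eq_one h3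
  rw [e, orderOf_eq_one_iff.1 (Nat.eq_one_of_dvd_coprimes (Nat.Coprime.pow_right k (by norm_num : Nat.Coprime 3 2))
    this (orderOf_dvd_of_pow_eq_one hk)), mul_one]

end gl3

end H24.ZJ
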