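import Cfsg.Agent.H24.ZJ1
import Cfsg.Agent.H06.HS0
import Cfsg.Agent.H17.Constr
import Cfsg.Agent.H01.PSep

/-!
# The ZJ step of the general Hall-Higman-Shult theorem (namespace `H24.ZJ`)

* `D` (a 2-group with automorphisms `c`, `ρ`), `D.kl`, `D.klW` (quadratic `c` acts trivially), `ind`, `core`, `zj`
-/

set_option autoImplicit false

open Cfsg BG Subgroup
open scoped commutatorElement MatrixGroups

universe u

namespace H24.ZJ

/-- the 2-group `E` with a central subgroup `Z`, normalized by commuting `c`, `ρ` -/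
structure D {T : Type*} [Group T] (r : ℕ) (E Z : Subgroup T) (c ρ : T) : Prop where
  e2 : IsPGroup 2 E
  zle : Z ≤ E
  zc : ∀ z ∈ Z, ∀ f ∈ E, f * z = z * f
  zr : ∀ z ∈ Z, ρ * z = z * ρ
  cm : ∀ f ∈ E, ∀ g ∈ E, ⁅f, g⁆ ∈ Z
  sq : ∀ f ∈ E, f * f ∈ Z
  cE : ∀ f ∈ E, c * f * c⁻¹ ∈ E
  cZ : ∀ f ∈ Z, c * f * c⁻¹ ∈ Z
  rE : ∀ f ∈ E, ρ * f * ρ⁻¹ ∈ E
  cr : c * ρ = ρ * c
  rr : ρ ^ r = 1
  gen : E ≤ ⁅E, zpowers ρ⁆

theorem cop {T : Type*} [Group T] {y v : T} {a b : ℕ} (h : Commute y ⁅y, v⁆) (ha : y ^ a = 1) (hb : ⁅y, v⁆ ^ b = 1)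
    (hc : a.Coprime b) : ⁅y, v⁆ = 1 := by
  have h1 : ∀ k, y ^ k * v = ⁅y, v⁆ ^ k * v * y ^ k := fun k => by
    induction k with
    | zero => simp
    | succ k ih =>
      calc y ^ (k + 1) * v = y * ⁅y, v⁆ ^ k * v * y ^ k := by rw [pow_succ', mul_assoc, ih]; group
        _ = ⁅y, v⁆ ^ k * (⁅y, v⁆ * v * y) * y ^ k := by
          rw [(h.pow_right k).eq, commutatorElement_def y v]; group
        _ = _ := by rw [pow_succ, pow_succ']; group
  have h2 := h1 a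
  rw [ha, one_mul, mul_one, eq_comm, mul_eq_right] at h2
  exact orderOf_eq_one_iff.1 (Nat.eq_one_of_dvd_coprimes hc (orderOf_dvd_of_pow_eq_one h2) (orderOf_dvd_of_pow_eq_one hb))

variable {T : Type*} [Group T] {p r : ℕ} {E Z : Subgroup T} {c ρ : T}

theorem D.map (h : D r E Z c ρ) {T' : Type*} [Group T'] (φ : T →* T') : D r (E.map φ) (Z.map φ) (φ c) (φ ρ) where
  e2 := h.e2.map φ
  zle := map_mono h.zle
  zc := by rintro _ ⟨z, hz, rfl⟩ _ ⟨f, hf, rfl⟩; rw [← map_mul, h.zc z hz f hf, map_mul]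
  zr := by rintro _ ⟨z, hz, rfl⟩; rw [← map_mul, h.zr z hz, map_mul]
  cm := by rintro _ ⟨z, hz, rfl⟩ _ ⟨f, hf, rfl⟩; exact ⟨_, h.cm z hz f hf, map_commutatorElement _ _ _⟩
  sq := by rintro _ ⟨z, hz, rfl⟩; exact ⟨_, h.sq z hz, map_mul _ _ _⟩
  cE := by rintro _ ⟨z, hz, rfl⟩; exact ⟨_, h.cE z hz, by simp⟩
  cZ := by rintro _ ⟨z, hz, rfl⟩; exact ⟨_, h.cZ z hz, by simp⟩
  rE := by rintro _ ⟨z, hz, rfl⟩; exact ⟨_, h.rE z hz, by simp⟩
  cr := by rw [← map_mul, h.cr, map_mul]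
  rr := by rw [← map_pow, h.rr, map_one]
  gen := by rw [← MonoidHom.map_zpowers, ← map_commutator]; exact map_mono h.gen

theorem nrm [Finite T] {A : Subgroup T} (h : ∀ f ∈ A, c * f * c⁻¹ ∈ A) : c ∈ N_(A) :=
  mem_norm_of_cj_le (by rw [cj_eq_map]; rintro _ ⟨f, hf, rfl⟩; exact h f hf)

theorem D.cent3 [Finite T] (h : D r E Z c ρ) (hr : r.Prime) {m : ℕ} (hm : 0 < m) (hrm : r = 2 ^ (2 * m) + 1)
    (hc : c ^ 3 = 1) (H : ∀ A ≤ E, IsMulCommutative A → (∀ f ∈ A, c * f * c⁻¹ ∈ A) → ∀ f ∈ A, c * f = f * c) :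
    ∀ f ∈ E, c * f = f * c := fun f hf => by
  have zc := H Z h.zle (abelian_iff.2 (le_cent_iff.2 fun a ha b hb => h.zc b hb a (h.zle ha))) h.cZ
  have := gl3 h.e2 (Z.subgroupOf E) (fun z hz => mem_center_iff.2 fun g => Subtype.ext (h.zc _ hz _ g.2))
    (c := E.normalizerMonoidHom ⟨c, nrm h.cE⟩) (ρ := E.normalizerMonoidHom ⟨ρ, nrm h.rE⟩) hr hm hrm
    (by rw [← map_pow, ← map_one E.normalizerMonoidHom]; exact congrArg _ (Subtype.ext h.rr))
    (by rw [← map_pow, ← map_one E.normalizerMonoidHom]; exact congrArg _ (Subtype.ext hc))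
    (by rw [← map_mul, ← map_mul]; exact congrArg _ (Subtype.ext h.cr))
    (fun f g => h.cm _ f.2 _ g.2) (fun f => h.sq _ f.2)
    (fun z hz => Subtype.ext (mul_inv_eq_of_eq_mul (h.zr _ hz))) (fun z hz => Subtype.ext (mul_inv_eq_of_eq_mul (zc _ hz)))
    (fun K hK => by
      rw [eq_top_iff, ← map_le_map_iff_of_injective E.subtype_injective, ← MonoidHom.range_eq_map, range_subtype]
      refine h.gen.trans (commutator_le.2 fun f hf g hg => ?_)
      obtain ⟨i, rfl⟩ := (mem_powers_iff_mem_zpowers).2 hg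
      refine ⟨_, K.inv_mem (hK ⟨f, hf⟩ i), ?_⟩
      rw [← map_pow]
      change (ρ ^ i * f * (ρ ^ i)⁻¹ * f⁻¹)⁻¹ = ⁅f, ρ ^ i⁆
      rw [commutatorElement_def]; group)
    (fun f h1 h2 => by
      replace h1 : (f : T) * (c * f * c⁻¹) * (c * (c * f * c⁻¹) * c⁻¹) ∈ Z := h1
      replace h2 : (f : T) * (c * f * c⁻¹) = (c * f * c⁻¹) * f := congrArg Subtype.val h2
      have m1 : (f : T) ∈ closure (insert (f : T) (insert (c * f * c⁻¹) (Z : Set T))) := subset_closure (Or.inl rfl)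
      have m2 : c * f * c⁻¹ ∈ closure (insert (f : T) (insert (c * f * c⁻¹) (Z : Set T))) :=
        subset_closure (Or.inr (Or.inl rfl))
      have m3 : ∀ z ∈ Z, z ∈ closure (insert (f : T) (insert (c * f * c⁻¹) (Z : Set T))) := fun z hz =>
        subset_closure (Or.inr (Or.inr hz))
      refine Subtype.ext (mul_inv_eq_of_eq_mul (H _ ((closure_le _).2 ?_) (isMulCommutative_closure ?_) (fun g hg =>
        mem_comap.1 ((closure_le (comap (MulAut.conj c).toMonoidHom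
          (closure (insert (f : T) (insert (c * f * c⁻¹) (Z : Set T)))))).2 ?_ hg)) f m1))
      · rintro _ (rfl | rfl | hz)
        exacts [f.2, h.cE _ f.2, h.zle hz]
      · rintro x (rfl | rfl | hx) y (rfl | rfl | hy)
        exacts [rfl, h2, h.zc _ hy _ f.2, h2.symm, rfl, h.zc _ hy _ (h.cE _ f.2), (h.zc _ hx _ f.2).symm,
          (h.zc _ hx _ (h.cE _ f.2)).symm, h.zc _ hy _ (h.zle hx)]
      · rintro x (rfl | rfl | hx)
        · exact m2
        · exact (mul_mem_cancel_left (mul_mem m1 m2)).1 (m3 _ h1)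
        · exact m3 _ (h.cZ _ hx)) ⟨f, hf⟩
  exact eq_mul_of_mul_inv_eq (congrArg Subtype.val this)

variable [hp : Fact p.Prime]

theorem qa (hp2 : p ≠ 2) {V : Type*} [CommGroup V] [Finite V] [Module (ZMod p) (Additive V)] {A : Subgroup (MulAut V)}
    {c : MulAut V} (hA : IsPGroup 2 A) (hn : ∀ f ∈ A, c * f * c⁻¹ ∈ A) (hq : ∀ v, c (c v * v⁻¹) = c v * v⁻¹)
    (hs : ¬ H17.Sec SL(2, ZMod p) ↥(A ⊔ zpowers c)) : ∀ f ∈ A, c * f = f * c := fun f hf => by
  have m1 : c ∈ closure ({c, f * c * f⁻¹} : Set (MulAut V)) := subset_closure (Or.inl rfl)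
  have m2 : f * c * f⁻¹ ∈ closure ({c, f * c * f⁻¹} : Set (MulAut V)) := subset_closure (Or.inr rfl)
  have hle : closure ({c, f * c * f⁻¹} : Set (MulAut V)) ≤ A ⊔ zpowers c := (closure_le _).2 (by
    have h1 : c ∈ A ⊔ zpowers c := mem_sup_right (mem_zpowers c)
    rintro _ (rfl | rfl)
    exacts [h1, mul_mem (mul_mem (mem_sup_left hf) h1) (inv_mem (mem_sup_left hf))])
  rcases H17.quad_group_aux hp2 (closure ({c, f * c * f⁻¹} : Set (MulAut V))).subtype (a := ⟨c, m1⟩) (b := ⟨_, m2⟩) (by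
      apply Subgroup.map_injective (subtype_injective _)
      rw [MonoidHom.map_closure, ← MonoidHom.range_eq_map, range_subtype, Set.image_pair]
      rfl) hq (fun v => by
      obtain ⟨w, rfl⟩ := f.surjective v
      simpa [← map_inv, ← map_mul] using hq w) with h | ⟨H₀, ψ, ι, h1, -⟩
  · obtain ⟨n, hn'⟩ := h ⟨c * (f * c * f⁻¹)⁻¹, mul_mem m1 (inv_mem m2)⟩
    replace hn' : (c * (f * c * f⁻¹)⁻¹) ^ p ^ n = 1 := hn'
    obtain ⟨k, hk⟩ := hA ⟨c * f * c⁻¹ * f⁻¹, mul_mem (hn f hf) (inv_mem hf)⟩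
    replace hk : (c * f * c⁻¹ * f⁻¹) ^ 2 ^ k = 1 := congrArg Subtype.val hk
    rw [show c * (f * c * f⁻¹)⁻¹ = c * f * c⁻¹ * f⁻¹ by group] at hn'
    have := orderOf_eq_one_iff.1 (Nat.eq_one_of_dvd_coprimes (Nat.Coprime.pow n k
      ((Nat.coprime_primes hp.out Nat.prime_two).2 hp2)) (orderOf_dvd_of_pow_eq_one hn') (orderOf_dvd_of_pow_eq_one hk))
    rwa [mul_inv_eq_one, mul_inv_eq_iff_eq_mul] at this
  · exact absurd ((H17.Sec.of_subgroup ⟨⊤, ψ.comp (Subgroup.subtype ⊤), fun y => by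
      obtain ⟨x, rfl⟩ := h1 y; exact ⟨⟨x, trivial⟩, rfl⟩⟩).of_le hle) hs

theorem D.kl (hp2 : p ≠ 2) (hr : r.Prime) (hr3 : p = 3 → ∃ m, 0 < m ∧ r = 2 ^ (2 * m) + 1) {V : Type*} [CommGroup V]
    [Finite V] [Module (ZMod p) (Additive V)] (hV : ∀ v : V, v ^ p = 1) {E Z : Subgroup (MulAut V)} {c ρ : MulAut V}
    (h : D r E Z c ρ) (hq : ∀ v, c (c v * v⁻¹) = c v * v⁻¹) : ∀ f ∈ E, c * f = f * c := by
  have hc : c ^ p = 1 := by
    ext v
    have : ∀ k, (c ^ k) v = (c v * v⁻¹) ^ k * v := fun k => by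
      induction k with
      | zero => simp
      | succ k ih => rw [pow_succ', MulAut.mul_apply, ih, map_mul, map_pow, hq, pow_succ, mul_assoc, inv_mul_cancel_right]
    rw [this, hV, one_mul, MulAut.one_apply]
  have hz : IsPGroup p (zpowers c) := (elemAb_zpowers hc).pg
  by_cases h3 : p = 3
  · obtain ⟨m, hm, hrm⟩ := hr3 h3
    refine h.cent3 hr hm hrm (h3 ▸ hc) fun A hA hab hn => qa hp2 (pg_le h.e2 hA) hn hq ?_
    obtain ⟨P, hP⟩ := ((isSylowIn_iff (X := A) (H := A ⊔ zpowers c) Nat.prime_two).2 ⟨le_sup_left, pg_le h.e2 hA, by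
      rw [relIndex_sup (zpowers_le.2 (nrm hn))]
      exact fun hd => pg_not_dvd Nat.prime_two hp.out hz hp2.symm (hd.trans (BG.relIndex_dvd_card _ _))⟩).exists_sylow
        Nat.prime_two
    refine H17.not_sec_sl2_of_comm_sylow_two hp2 P ⟨⟨fun a b => Subtype.ext (Subtype.ext ?_)⟩⟩
    exact H17.comm_of_mem hab (hP.le ⟨_, a.2, rfl⟩) (hP.le ⟨_, b.2, rfl⟩)
  · have h4 : p ≠ 4 := by rintro rfl; exact absurd hp.out (by decide)
    have := hp.out.two_le
    exact qa hp2 h.e2 h.cE hq (H01.not_sec_sl2_of_psol (by omega) (H01.psol_of_sol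
      (sol_sup (pg_sol hp.out hz) (pg_sol Nat.prime_two h.e2) (zpowers_le.2 (nrm h.cE)))))

open scoped IsMulCommutative in
theorem D.klW [Finite T] (hp2 : p ≠ 2) (hr : r.Prime) (hr3 : p = 3 → ∃ m, 0 < m ∧ r = 2 ^ (2 * m) + 1)
    (h : D r E Z c ρ) (W : Subgroup T) [W.Normal] (hW : IsElementaryAbelian p W)
    (hq : ∀ w ∈ W, Commute c ⁅c, w⁆) : ∀ f ∈ E, ⁅c, f⁆ ∈ C_(W) := fun f hf => by
  have := hW.1
  have hV : ∀ v : W, v ^ p = 1 := fun v => Subtype.ext (hW.2 _ v.2)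
  let inst2 : Module (ZMod p) (Additive W) := AddCommGroup.zmodModule (n := p) fun x => congrArg Additive.ofMul (hV x.toMul)
  have h1 := (h.map (MulAut.conjNormal (H := W))).kl hp2 hr hr3 hV (fun v => Subtype.ext
    (mul_inv_eq_of_eq_mul (hq v v.2).eq)) _ ⟨f, hf, rfl⟩
  have h2 : MulAut.conjNormal (H := W) ⁅c, f⁆ = 1 := by
    rw [map_commutatorElement, commutatorElement_eq_one_iff_mul_comm, h1]
  exact mem_cent.2 fun w hw => (eq_mul_of_mul_inv_eq (congrArg (fun t : MulAut W => (t ⟨w, hw⟩ : T)) h2)).symm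

theorem ind (hp2 : p ≠ 2) (hr : r.Prime) (hr3 : p = 3 → ∃ m, 0 < m ∧ r = 2 ^ (2 * m) + 1) (n : ℕ) :
    ∀ (X : Type u) [Group X] [Finite X] (E Z Q V : Subgroup X) (c ρ q : X) [Q.Normal] [V.Normal], Nat.card V = n →
      D r E Z c ρ → IsPGroup p Q → IsPGroup p V → q ∈ Q → (∀ v ∈ V, Commute (q * c) ⁅q * c, v⁆) →
      ∀ f ∈ E, ⁅c, f⁆ ∈ C_(V) := by
  induction n using Nat.strong_induction_on with
  | _ n ih =>
    intro X _ _ E Z Q V c ρ q _ _ hn h hQ hV hq ha f hf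
    by_cases h0 : V = ⊥
    · subst h0; simp [mem_cent]
    have h1 := pg_fix_ne_bot hp.out hQ hV (by rw [normalizer_eq_top]; exact le_top) h0
    have h2 := omega_center_ne_bot hp.out (pg_le hV (inf_le_left (b := C_(Q)))) h1
    have h3 := omega_center_elemAb p (V ⊓ C_(Q))
    have h4 := omega_center_le p (V ⊓ C_(Q))
    have h5 := H17.omegaOne_normal p (V ⊓ C_(Q) ⊓ C_(V ⊓ C_(Q)))
    generalize omegaOne p (V ⊓ C_(Q) ⊓ C_(V ⊓ C_(Q))) = W at *
    have k1 := h.klW hp2 hr hr3 W h3 (fun w hw => by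
      have e1 := mem_cent.1 (h4 (h5.conj_mem w hw c)).2 q hq
      have e2 : ⁅q * c, w⁆ = ⁅c, w⁆ := by
        rw [commutatorElement_def, commutatorElement_def, ← mul_inv_eq_of_eq_mul e1]; group
      have e3 : Commute q ⁅c, w⁆ := mem_cent.1 (h4 (mul_mem (h5.conj_mem w hw c) (inv_mem hw))).2 q hq
      have := e3.inv_left.mul_left (e2 ▸ ha w (h4 hw).1)
      rwa [inv_mul_cancel_left] at this) f hf
    have : (Q.map (QuotientGroup.mk' W)).Normal := Normal.map ‹_› _ (QuotientGroup.mk'_surjective W)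
    have : (V.map (QuotientGroup.mk' W)).Normal := Normal.map ‹_› _ (QuotientGroup.mk'_surjective W)
    have k2 := ih _ (by
      rw [← hn, ← relIndex_ker, QuotientGroup.ker_mk', ← card_mul_relIndex (h4.trans inf_le_left)]
      exact lt_mul_left (Nat.pos_of_ne_zero (relIndex_ne_zero _ _)) (W.one_lt_card_iff_ne_bot.2 h2))
      (X ⧸ W) _ _ (Q.map (QuotientGroup.mk' W)) (V.map (QuotientGroup.mk' W)) _ _ _ rfl (h.map (QuotientGroup.mk' W))
      (hQ.map _) (hV.map _) ⟨q, hq, rfl⟩ (by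
        rintro _ ⟨v, hv, rfl⟩
        rw [← map_mul, ← map_commutatorElement]
        exact (ha v hv).map _) _ ⟨f, hf, rfl⟩
    refine mem_cent.2 fun v hv => (commutatorElement_eq_one_iff_mul_comm.1 ?_).symm
    have k3 : ⁅⁅c, f⁆, v⁆ ∈ W := by
      rw [← QuotientGroup.ker_mk' W, MonoidHom.mem_ker, map_commutatorElement, map_commutatorElement,
        commutatorElement_eq_one_iff_mul_comm]
      exact (mem_cent.1 k2 _ ⟨v, hv, rfl⟩).symm
    obtain ⟨k, hk⟩ := h.e2 ⟨⁅c, f⁆, mul_mem (h.cE f hf) (inv_mem hf)⟩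
    exact cop (mem_cent.1 k1 _ k3).symm (congrArg Subtype.val hk) (h3.2 _ k3)
      (Nat.Coprime.pow_left k ((Nat.coprime_primes Nat.prime_two hp.out).2 hp2.symm))

theorem op {S R N : Subgroup T} [N.Normal] (hS : IsPGroup p S) (htop : S ⊔ E ⊔ R = ⊤) (h1 : S ≤ N_(N ⊔ E))
    (h2 : R ≤ N_(S)) (h3 : R ≤ N_(E)) (hc : c ∈ S) (h : ∀ f ∈ E, ⁅c, f⁆ ∈ N) : c ∈ H17.opMod p N := by
  have mp : ∀ {A K : Subgroup T}, A ≤ N_(K) → A.map (QuotientGroup.mk' N) ≤ N_(K.map (QuotientGroup.mk' N)) :=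
    fun h => (map_mono h).trans (le_normalizer_map _)
  have k1 := mp h1
  rw [Subgroup.map_sup, (map_eq_bot_iff N).2 (QuotientGroup.ker_mk' N).ge, bot_sup_eq] at k1
  have : (S.map (QuotientGroup.mk' N) ⊓ C_(E.map (QuotientGroup.mk' N))).Normal := by
    rw [← normalizer_eq_top_iff, eq_top_iff, ← map_top_of_surjective _ (QuotientGroup.mk'_surjective N), ← htop,
      Subgroup.map_sup, Subgroup.map_sup]
    exact sup_le (sup_le (le_norm_inf_cent k1) (le_norm_of_cent (cent_symm inf_le_right)))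
      (norm_inf (mp h2) (norm_cent (mp h3)))
  refine H17.mem_opMod.2 (H02.le_pCore (hN := this) (pg_le (hS.map _) inf_le_left) ⟨⟨c, hc, rfl⟩, mem_cent.2 ?_⟩)
  rintro _ ⟨f, hf, rfl⟩
  exact (commutatorElement_eq_one_iff_mul_comm.1 ((QuotientGroup.eq_one_iff _).2 (h f hf))).symm

theorem core {Γ : Type u} [Group Γ] [Finite Γ] {Q S E R : Subgroup Γ} (hp2 : p ≠ 2) (hr : r.Prime) (hr2 : r ≠ 2)
    (hpr : p ≠ r) (hf : ∃ n : ℕ, r = 2 ^ n + 1) (hR : Nat.card R = r) (hS : IsPGroup p S) (hE : IsPGroup 2 E)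
    (hQ : Q ≤ S) (h1 : S ≤ N_(Q)) (h2 : E ≤ N_(Q)) (h3 : R ≤ N_(S)) (h4 : ⁅S, R⁆ ≤ Q) (h5 : S ≤ N_(Q ⊔ E))
    (h6 : ⁅E, R⁆ = E) (h7 : E ⊓ C_(R) ≤ C_(E)) (h8 : ⁅E, E⁆ ≤ C_(R)) (h9 : ∀ x ∈ E, x ^ 2 ∈ C_(R))
    (h10 : S ≤ C_(E ⊓ C_(Q))) (htop : S ⊔ E ⊔ R = ⊤) : (centerThompsonOf 0 S).Normal := by
  have hr3 : p = 3 → ∃ m, 0 < m ∧ r = 2 ^ (2 * m) + 1 := by
    rintro rfl
    obtain ⟨n, rfl⟩ := hf
    rcases Nat.even_or_odd' n with ⟨m, rfl | rfl⟩
    · exact ⟨m, Nat.pos_of_ne_zero (by rintro rfl; exact hr2 rfl), rfl⟩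
    · exact absurd ((Nat.prime_dvd_prime_iff_eq Nat.prime_three hr).1
        (by simpa using Odd.nat_add_dvd_pow_add_pow 2 1 (odd_two_mul_add_one m))) hpr
  obtain ⟨ρ, rfl⟩ := cyclic_iff.1 (isCyclic_of_prime_card (hp := ⟨hr⟩) hR)
  have rQ := le_norm_of_comm h4 hQ
  have rE : zpowers ρ ≤ N_(E) := h6 ▸ right_le_norm_comm _ _
  have : Q.Normal := by rw [← normalizer_eq_top_iff, eq_top_iff, ← htop]; exact sup_le (sup_le h1 h2) rQ
  have pQ := pg_le hS hQ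
  have s2 : IsSylowIn 2 E (Q ⊔ E) := (isSylowIn_iff Nat.prime_two).2 ⟨le_sup_right, hE, by
    rw [relIndex_sup' h2]
    exact fun hd => pg_not_dvd Nat.prime_two hp.out pQ hp2.symm (hd.trans (BG.relIndex_dvd_card _ _))⟩
  have dec : ∀ s ∈ S, ∃ q ∈ Q, ∃ c ∈ S, q * c = s ∧ D r E (E ⊓ C_(zpowers ρ)) c ρ := fun s hs => by
    obtain ⟨_, hk, n, hn, e⟩ := (mem_sup_norm (inf_le_left.trans (sup_le_norm_left h5))).1
      ((sylow_frattini Nat.prime_two s2 le_sup_left (sup_le_norm_left h5)).ge (mem_sup_right hs))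
    obtain ⟨q, hq, f, hf, rfl⟩ := (mem_sup_norm h2).1 hk
    have m1 : f * n ∈ S ⊓ N_(E) := ⟨(mul_mem_cancel_left (hQ hq)).1 (by rwa [← mul_assoc, e]),
      mul_mem (le_norm E hf) hn.2⟩
    obtain ⟨q', hq', c, hc, e'⟩ := (mem_sup_norm (inf_le_left.trans (left_le_norm_comm _ _))).1
      ((coprime_comm_sup_cent (norm_inf h3 (norm_norm rE)) (pg_coprime_ne hr hp.out (pg_of_card_eq hR)
        (pg_le hS inf_le_left) hpr.symm) (Or.inl (pg_sol hr (pg_of_card_eq hR)))).ge m1)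
    refine ⟨q * q', mul_mem hq (h4 (commutator_mono inf_le_left le_rfl hq')), c, hc.1.1,
      by rw [mul_assoc, e', ← mul_assoc, e], hE, inf_le_left, fun z hz f hf => mem_cent.1 (h7 hz) f hf,
      fun z hz => mem_cent.1 hz.2 ρ (mem_zpowers ρ), fun f hf g hg => ⟨der_le E
        (commutator_mem_commutator hf hg), h8 (commutator_mem_commutator hf hg)⟩,
      fun f hf => ⟨mul_mem hf hf, pow_two f ▸ h9 f hf⟩, fun f hf => conj_mem_of_norm hc.1.2 hf,
      fun f hf => ⟨conj_mem_of_norm hc.1.2 hf.1, C_(zpowers ρ).mul_mem (C_(zpowers ρ).mul_mem hc.2 hf.2) (C_(zpowers ρ).inv_mem hc.2)⟩,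
      fun f hf => conj_mem_of_norm (rE (mem_zpowers ρ)) hf, (mem_cent.1 hc.2 ρ (mem_zpowers ρ)).symm,
      by rw [← hR, card_zpowers, pow_orderOf_eq_one], h6.ge⟩
  have sp : IsSylowIn p S ⊤ := by
    refine IsSylowIn.trans_idx (H := Q ⊔ E ⊔ S) ((isSylowIn_iff hp.out).2 ⟨le_sup_right, hS, fun hd => ?_⟩) le_top
      fun hd => ?_
    · rw [relIndex_sup' h5] at hd
      have := hd.trans (relIndex_dvd_left _ hQ)
      rw [relIndex_sup h2] at this
      exact pg_not_dvd hp.out Nat.prime_two hE hp2 (this.trans (BG.relIndex_dvd_card _ _))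
    · rw [show (⊤ : Subgroup Γ) = Q ⊔ E ⊔ S ⊔ zpowers ρ from le_antisymm (htop ▸ sup_le_sup_right
        (sup_le le_sup_right (le_sup_of_le_left le_sup_right)) _) le_top,
        relIndex_sup (norm_sup (norm_sup rQ rE) h3)] at hd
      exact pg_not_dvd hp.out hr (pg_of_card_eq hR) hpr (hd.trans (BG.relIndex_dvd_card _ _))
  have hst : H17.WeaklyStable p Γ := fun V _ hV A hA hq a ha => by
    obtain ⟨g, -, hg⟩ := sylow_Jsub hp.out sp hA le_top
    obtain ⟨q, hq', c, hc, e, hD⟩ := dec _ (hg (conj_mem_cj g ha))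
    have k1 := ind hp2 hr hr3 _ Γ E _ Q V c ρ q rfl hD pQ hV hq' fun v hv => by
      have := (H17.commute_commutator_of_quad hq ha ha ((‹V.Normal›).conj_mem' v hv g)).symm.map (MulAut.conj g)
      rw [map_commutatorElement] at this
      simpa [e, mul_assoc] using this
    have k2 := op (N := Q ⊔ C_(V)) hS htop (by
      rw [sup_right_comm]; exact norm_sup h5 (by rw [normalizer_eq_top]; exact le_top)) h3 rE hc
      fun f hf => mem_sup_right (k1 f hf)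
    have k3 : H17.opMod p (Q ⊔ C_(V)) ≤ H17.opMod p C_(V) := H17.opMod_le_opMod fun x hx => by
      obtain ⟨y, hy, z, hz, rfl⟩ := mem_sup_of_normal_right.1 hx
      obtain ⟨k, hk⟩ := pQ ⟨y, hy⟩
      refine ⟨k, (QuotientGroup.eq_one_iff _).1 ?_⟩
      rw [QuotientGroup.mk_pow, QuotientGroup.mk_mul, (QuotientGroup.eq_one_iff z).2 hz, mul_one,
        ← QuotientGroup.mk_pow, show y ^ p ^ k = 1 from congrArg Subtype.val hk, QuotientGroup.mk_one]
    have := (H17.opMod_normal p C_(V)).conj_mem' _ (k3 (mul_mem (H17.self_le_opMod _ (mem_sup_left hq')) k2)) g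
    rwa [e, show g⁻¹ * (g * a * g⁻¹) * g = a by group] at this
  obtain ⟨P, rfl⟩ := sp.exists_sylow_top hp.out
  have := H17.centerThompsonOf_inf_normal hp2 (Or.inl rfl) hst P (pCore p Γ) (H02.pCore_isPGroup p Γ)
  suffices h : centerThompsonOf 0 (P : Subgroup Γ) ≤ pCore p Γ by rwa [inf_eq_left.2 h] at this
  intro a ha
  obtain ⟨q, hq, c, hc, e, hD⟩ := dec _ (H17.centerThompsonOf_le 0 _ ha)
  have k1 := ind hp2 hr hr3 _ Γ E _ Q Q c ρ q rfl hD pQ pQ hq fun v hv => by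
    rw [e]
    refine H17.comm_of_mem (H17.centerThompsonOf_comm 0 _) ha ?_
    rw [commutatorElement_def, mul_assoc, mul_assoc, ← mul_assoc v]
    exact mul_mem ha (conj_mem_of_norm (H17.normalizer_le_normalizer_centerThompsonOf 0 _ (le_norm _ (hQ hv)))
      (inv_mem ha))
  rw [← H17.opMod_eq_pCore pQ, ← e]
  refine mul_mem (H17.self_le_opMod _ hq) (op hS htop h5 h3 rE hc fun f hf => ?_)
  have m1 : ⁅c, f⁆ ∈ E := mul_mem (hD.cE f hf) (inv_mem hf)
  obtain ⟨k, hk⟩ := hS ⟨c, hc⟩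
  obtain ⟨l, hl⟩ := hE ⟨_, m1⟩
  rw [cop (mem_cent.1 (h10 hc) _ ⟨m1, k1 f hf⟩).symm (congrArg Subtype.val hk) (congrArg Subtype.val hl)
    (Nat.Coprime.pow k l ((Nat.coprime_primes hp.out Nat.prime_two).2 hp2))]
  exact one_mem _

omit hp in
theorem comm_sub {X A B : Subgroup T} (hA : A ≤ X) (hB : B ≤ X) :
    ⁅A.subgroupOf X, B.subgroupOf X⁆ = ⁅A, B⁆.subgroupOf X := by
  apply map_injective X.subtype_injective
  rw [map_commutator, map_subgroupOf_eq_of_le hA, map_subgroupOf_eq_of_le hB, map_subgroupOf_eq_of_le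
    (comm_le_of_le hA hB)]

theorem zj : Cfsg.Agent.H06.HS.ZJStmt.{u} := by
  intro Γ _ _ p r Q S E R hp hp2 hr hr2 hpr hf hR hS hE hQ h1 h2 h3 h4 h5 h6 h7 h8 h9 h0 h10
  have := Fact.mk hp
  have hs : S ≤ S ⊔ E ⊔ R := le_sup_of_le_left le_sup_left
  have he : E ≤ S ⊔ E ⊔ R := le_sup_of_le_left le_sup_right
  have hρ : R ≤ S ⊔ E ⊔ R := le_sup_right
  have nm : ∀ {A K : Subgroup Γ}, A ≤ N_(K) → A.subgroupOf (S ⊔ E ⊔ R) ≤ N_(K.subgroupOf (S ⊔ E ⊔ R)) :=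
    fun h => (comap_mono h).trans (le_normalizer_comap _)
  have key := core (Q := Q.subgroupOf (S ⊔ E ⊔ R)) (S := S.subgroupOf _) (E := E.subgroupOf _) (R := R.subgroupOf _)
    hp2 hr hr2 hpr hf ((Nat.card_congr (subgroupOfEquivOfLe hρ).toEquiv).trans hR) (hS.comap_subtype) (hE.comap_subtype)
    (comap_mono hQ) (nm h1) (nm h2) (nm h3) (by rw [comm_sub hs hρ]; exact comap_mono h4)
    (by rw [← subgroupOf_sup (hQ.trans hs) he]; exact nm h5) (by rw [comm_sub he hρ, h6])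
    (by rw [H17.centralizer_subgroupOf hρ, H17.centralizer_subgroupOf he]; exact fun x hx => h7 hx)
    (by rw [H17.centralizer_subgroupOf hρ, comm_sub he he]; exact comap_mono h8)
    (by rw [H17.centralizer_subgroupOf hρ]; exact fun x hx => h9 x hx)
    (by
      rw [H17.centralizer_subgroupOf (hQ.trans hs)]
      exact fun x hx => mem_cent.2 fun y hy => Subtype.ext (mem_cent.1 (h10 hx) _ hy))
    (by rw [← subgroupOf_sup hs he, ← subgroupOf_sup (sup_le hs he) hρ, subgroupOf_self])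
  have e := H17.centerThompsonOf_map (n := 0) (S ⊔ E ⊔ R).subtype (P := S.subgroupOf _) (subtype_injective _).injOn
  rw [map_subgroupOf_eq_of_le hs] at e
  refine ⟨centerThompsonOf 0 S, ?_, H17.centerThompsonOf_le 0 S, H17.normalizer_le_normalizer_centerThompsonOf 0 S,
    fun x hx => ?_⟩
  · have := H17.omegaOne_center_le 0 S
    rw [H17.omegaOne_zero, H17.omegaOne_zero] at this
    exact ne_bot_mono (pg_center_ne_bot hp hS fun h => h0 (hQ.trans (h ▸ bot_le))) this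
  · rw [e]
    exact le_normalizer_map _ ⟨⟨x, he hx⟩, by rw [normalizer_eq_top]; trivial, rfl⟩

end H24.ZJ
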